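import Cfsg.Agent.GW.AlmostSimple
import Cfsg.Agent.AbSyl.PSLTwo
import Cfsg.Agent.S0204
import Cfsg.Agent.S2602
import Cfsg.Agent.PSLTwo25.Klein

/-!
Non-solvable groups with cyclic odd Sylow subgroups and almost cyclic Sylow 2-subgroups.
-/

set_option autoImplicit false
set_option linter.style.haveILetI false
set_option linter.unusedSectionVars false

open Cfsg

namespace Cfsg.Agent.GW

open Subgroup

universe u

variable {G : Type u} [Group G] [Finite G]

/-- The perfect residual. -/
theorem exists_residual (G : Type u) [Group G] [Finite G] :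
    ∃ M : Subgroup G, ∃ _ : M.Normal, Group.IsPerfect M ∧ Group.IsSolvable (G ⧸ M) := by
  obtain ⟨n, hn⟩ : ∃ n, ∀ m, Nat.card (derivedSeries G n) ≤ Nat.card (derivedSeries G m) :=
    ⟨_, fun m => Function.argmin_le (fun n => Nat.card (derivedSeries G n)) m⟩
  refine ⟨derivedSeries G n, derivedSeries_normal G n, ⟨?_⟩, ?_⟩
  · apply map_injective (derivedSeries G n).subtype_injective
    rw [map_subtype_commutator, ← MonoidHom.range_eq_map, range_subtype]
    refine eq_of_le_of_card_ge ?_ ?_
    · exact commutator_le_self _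
    · exact (hn (n + 1)).trans_eq (by rw [derivedSeries_succ])
  · haveI := derivedSeries_normal G n
    rw [Group.isSolvable_def]
    refine ⟨n, ?_⟩
    rw [← map_derivedSeries_eq (QuotientGroup.mk'_surjective (derivedSeries G n)),
      Subgroup.map_eq_bot_iff, QuotientGroup.ker_mk']

/-- An element moved only by central elements is central, in a perfect group. -/
theorem mem_center_of_commutator_mem [Group.IsPerfect G] {x : G}
    (h : ∀ g : G, g * x * g⁻¹ * x⁻¹ ∈ center G) : x ∈ center G := by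
  haveI : Group.IsSolvable (center G) := Group.isSolvable_of_comm fun a b => mul_comm' a b
  let δ : G →* center G :=
    { toFun := fun g => ⟨g * x * g⁻¹ * x⁻¹, h g⟩
      map_one' := Subtype.ext (by simp)
      map_mul' := fun g k => by
        refine Subtype.ext ?_
        show g * k * x * (g * k)⁻¹ * x⁻¹ = g * x * g⁻¹ * x⁻¹ * (k * x * k⁻¹ * x⁻¹)
        have e := mem_center_iff.1 (h k)
        calc g * k * x * (g * k)⁻¹ * x⁻¹
            = g * (k * x * k⁻¹ * x⁻¹) * (x * g⁻¹ * x⁻¹) := by group
          _ = k * x * k⁻¹ * x⁻¹ * g * (x * g⁻¹ * x⁻¹) := by rw [e g]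
          _ = k * x * k⁻¹ * x⁻¹ * (g * x * g⁻¹ * x⁻¹) := by group
          _ = g * x * g⁻¹ * x⁻¹ * (k * x * k⁻¹ * x⁻¹) := (e _).symm }
  exact mem_center_iff.2 fun g => mul_inv_eq_iff_eq_mul.1
    (mul_inv_eq_one.1 (congrArg Subtype.val (hom_eq_one δ g)))

theorem center_quotient_center [Group.IsPerfect G] : center (G ⧸ center G) = ⊥ := by
  refine eq_bot_iff.2 fun q hq => ?_
  obtain ⟨x, rfl⟩ := QuotientGroup.mk'_surjective (center G) q
  refine mem_bot.2 ((QuotientGroup.eq_one_iff x).2 (mem_center_of_commutator_mem fun g => ?_))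
  rw [← QuotientGroup.eq_one_iff]
  simp only [QuotientGroup.mk_mul, QuotientGroup.mk_inv]
  have h1 : (QuotientGroup.mk g : G ⧸ center G) * QuotientGroup.mk x =
      QuotientGroup.mk x * QuotientGroup.mk g := mem_center_iff.1 hq (QuotientGroup.mk g)
  rw [h1]
  simp

/-- A perfect group of the class centralises its nilpotent normal subgroups. -/
theorem nilpotent_le_center [Group.IsPerfect G] (hodd : OddCyclic G) (hcyc : AlmostCyc G)
    {N : Subgroup G} [N.Normal] [Group.IsNilpotent N] : N ≤ center G := by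
  suffices h : Nat.card N ∣ Nat.card ((center G ⊓ N : Subgroup G)) by
    have := eq_of_le_of_card_ge (inf_le_right : center G ⊓ N ≤ N) (Nat.le_of_dvd Nat.card_pos h)
    exact this.ge.trans inf_le_left
  rw [Nat.dvd_iff_prime_pow_dvd_dvd]
  intro q k hq hk
  haveI : Fact q.Prime := ⟨hq⟩
  obtain ⟨P⟩ : Nonempty (Sylow q N) := inferInstance
  haveI : (P : Subgroup N).Characteristic := Sylow.characteristic_of_normal P inferInstance
  haveI : ((P : Subgroup N).map N.subtype).Normal := inferInstance
  have hP : IsPGroup q ((P : Subgroup N).map N.subtype) := P.2.map _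
  have hle : (P : Subgroup N).map N.subtype ≤ center G := by
    by_cases h2 : q = 2
    · subst h2
      exact two_group_le_center hP hcyc
    · haveI := hodd q hq h2 _ hP
      exact zgroup_le_center
  refine (P.pow_dvd_card_of_pow_dvd_card hk).trans ?_
  rw [Nat.card_congr ((P : Subgroup N).equivMapOfInjective _ N.subtype_injective).toEquiv]
  exact card_dvd_of_le (le_inf hle (map_subtype_le _))

/-- A perfect group of the class with trivial centre has no solvable normal subgroup. -/
theorem solvable_normal_eq_bot [Group.IsPerfect G] (hodd : OddCyclic G) (hcyc : AlmostCyc G)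
    (hz : center G = ⊥) : ∀ N : Subgroup G, N.Normal → Group.IsSolvable N → N = ⊥ := by
  suffices ∀ n, ∀ N : Subgroup G, Nat.card N = n → N.Normal → Group.IsSolvable N → N = ⊥ from
    fun N => this _ N rfl
  intro n
  induction n using Nat.strong_induction_on with
  | _ n ih =>
  intro N hn hN hs
  haveI := hN
  haveI := hs
  by_contra hne
  haveI : Nontrivial N := (nontrivial_iff_ne_bot N).2 hne
  have hlt := Group.IsSolvable.commutator_lt_top_of_nontrivial N
  have hmap : (commutator N).map N.subtype < N := by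
    refine lt_of_le_of_ne (map_subtype_le _) fun e => hlt.ne ?_
    apply map_injective N.subtype_injective
    rw [e, ← MonoidHom.range_eq_map, range_subtype]
  haveI : ((commutator N).map N.subtype).Normal := inferInstance
  have hab : (commutator N).map N.subtype = ⊥ := by
    refine ih _ (hn ▸ ?_) _ rfl inferInstance (Group.isSolvable_of_isSolvable_injective
      (f := inclusion hmap.le) (inclusion_injective _))
    exact Nat.lt_of_le_of_ne (card_le_of_le hmap.le) fun e =>
      hmap.ne (eq_of_le_of_card_ge hmap.le e.ge)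
  rw [map_eq_bot_iff_of_injective _ N.subtype_injective] at hab
  have hct : center N = ⊤ := (commutator_eq_bot_iff_center_eq_top N).1 hab
  haveI : IsMulCommutative N :=
    ⟨⟨fun a b => (mem_center_iff.1 (hct.ge (mem_top b)) a)⟩⟩
  letI : CommGroup N := { (inferInstance : Group N) with mul_comm := mul_comm' }
  exact hne (le_bot_iff.1 (hz ▸ nilpotent_le_center hodd hcyc))

theorem not_solvable_of_perfect [Group.IsPerfect G] [Nontrivial G] : ¬ Group.IsSolvable G :=
  fun h => (Group.IsSolvable.commutator_lt_top_of_nontrivial G).ne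
    (Group.IsPerfect.commutator_eq_top)

theorem not_solvable_psl {p : ℕ} [Fact p.Prime] (h5 : 5 ≤ p) :
    IsSimpleGroup (Matrix.ProjectiveSpecialLinearGroup (Fin 2) (ZMod p)) ∧
    ¬ Group.IsSolvable (Matrix.ProjectiveSpecialLinearGroup (Fin 2) (ZMod p)) := by
  have hperf : Group.IsPerfect (Matrix.SpecialLinearGroup (Fin 2) (ZMod p)) := by
    obtain ⟨a, ha, ha2⟩ := CentralExt.TypeA.exists_pow_ne_one (F := ZMod p) (k := 2) fun hd => by
      have := Nat.le_of_dvd (by norm_num) hd
      rw [ZMod.card] at this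
      omega
    exact Group.isPerfect_def.2 (Matrix.SL2.commutator_eq_top ha ha2)
  have hs : IsSimpleGroup (Matrix.ProjectiveSpecialLinearGroup (Fin 2) (ZMod p)) :=
    Matrix.ProjectiveSpecialLinearGroup.rank_two_simple (by rw [Nat.card_zmod]; omega)
  haveI := hs
  haveI := hperf
  haveI : Group.IsPerfect (Matrix.ProjectiveSpecialLinearGroup (Fin 2) (ZMod p)) :=
    Group.IsPerfect.ofSurjective (QuotientGroup.mk'_surjective _)
  exact ⟨hs, not_solvable_of_perfect⟩

theorem perfect_sl {p : ℕ} [Fact p.Prime] (h5 : 5 ≤ p) :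
    Group.IsPerfect (Matrix.SpecialLinearGroup (Fin 2) (ZMod p)) := by
  obtain ⟨a, ha, ha2⟩ := CentralExt.TypeA.exists_pow_ne_one (F := ZMod p) (k := 2) fun hd => by
    have := Nat.le_of_dvd (by norm_num) hd
    rw [ZMod.card] at this
    omega
  exact Group.isPerfect_def.2 (Matrix.SL2.commutator_eq_top ha ha2)

/-- A four-group in a copy of `PSL₂(p)`. -/
theorem exists_four {T : Type u} [Group T] [Finite T] {p : ℕ} [Fact p.Prime] (h5 : 5 ≤ p)
    (e : T ≃* Matrix.ProjectiveSpecialLinearGroup (Fin 2) (ZMod p)) :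
    ∃ E : Subgroup T, IsKleinFour E := by
  obtain ⟨hs, hns⟩ := not_solvable_psl h5
  haveI := hs
  haveI : Nontrivial T := e.toEquiv.nontrivial
  haveI : IsSimpleGroup T :=
    IsSimpleGroup.isSimpleGroup_of_surjective e.symm.toMonoidHom e.symm.surjective
  refine S0204.result fun hc => hns ?_
  haveI := hc
  haveI : Group.IsSolvable T :=
    Group.isSolvable_of_comm fun a b => (IsCyclic.commGroup).mul_comm a b
  exact Group.isSolvable_of_surjective e.surjective (f := e.toMonoidHom)

/-- The centraliser of a normal `PSL₂(p)` has odd order. -/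
theorem centralizer_odd (hcyc : AlmostCyc G) {T : Subgroup G} {p : ℕ} [Fact p.Prime] (h5 : 5 ≤ p)
    (e : T ≃* Matrix.ProjectiveSpecialLinearGroup (Fin 2) (ZMod p)) :
    Odd (Nat.card (centralizer (T : Set G))) := by
  haveI : Fact (Nat.Prime 2) := ⟨Nat.prime_two⟩
  rw [← Nat.not_even_iff_odd, even_iff_two_dvd]
  intro hd
  obtain ⟨⟨c, hc⟩, hco⟩ := exists_prime_orderOf_dvd_card' 2 hd
  rw [orderOf_mk] at hco
  obtain ⟨E, hE⟩ := exists_four h5 e
  haveI := hE
  have hcE : c ∈ E.map T.subtype := by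
    refine hcyc.mem_four ?_ ?_ (by rw [← pow_two, ← hco, pow_orderOf_eq_one]) ?_
    · rw [card_map_of_injective T.subtype_injective, IsKleinFour.card_four]
    · rintro _ ⟨x, hx, rfl⟩
      have := IsKleinFour.mul_self (⟨x, hx⟩ : E)
      exact congrArg (fun z : E => ((z : T) : G)) this
    · rintro _ ⟨x, -, rfl⟩
      exact mem_centralizer_iff.1 hc _ x.2
  obtain ⟨y, -, rfl⟩ := hcE
  obtain ⟨hs, hns⟩ := not_solvable_psl h5
  haveI := hs
  have hy : e y ∈ center (Matrix.ProjectiveSpecialLinearGroup (Fin 2) (ZMod p)) := by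
    refine mem_center_iff.2 fun g => ?_
    obtain ⟨t, rfl⟩ := e.surjective g
    rw [← map_mul, ← map_mul]
    exact congrArg e (Subtype.ext (mem_centralizer_iff.1 hc t t.2))
  rcases (inferInstance : (center (Matrix.ProjectiveSpecialLinearGroup (Fin 2) (ZMod p))).Normal).eq_bot_or_eq_top
    with h | h
  · rw [h, mem_bot, MulEquiv.map_eq_one_iff] at hy
    rw [hy, map_one, orderOf_one] at hco
    norm_num at hco
  · exact hns (Group.isSolvable_of_comm fun a b => (mem_center_iff.1 (h ▸ mem_top b) a))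

/-- A normal `PSL₂(p)` together with its centraliser has index at most two. -/
theorem index_sup_centralizer {T : Subgroup G} [T.Normal] {p : ℕ} [Fact p.Prime] (h5 : 5 ≤ p)
    (e : T ≃* Matrix.ProjectiveSpecialLinearGroup (Fin 2) (ZMod p)) :
    (T ⊔ centralizer (T : Set G)).index ∣ 2 := by
  obtain ⟨χ, -, -, hk⟩ := S2602.result (F := ZMod p) (p := p) (f := 1) le_rfl
    (by rw [ZMod.card, pow_one]) (by rw [pow_one]; omega)
  have hker : χ.ker = ⊤ := eq_top_iff.2 fun x _ => MonoidHom.mem_ker.2 (Subsingleton.elim _ _)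
  rw [hker, card_top] at hk
  let φ : G →* MulAut (Matrix.ProjectiveSpecialLinearGroup (Fin 2) (ZMod p)) :=
    (MulAut.congr e).toMonoidHom.comp MulAut.conjNormal
  let ψ : G →* Cfsg.Out (Matrix.ProjectiveSpecialLinearGroup (Fin 2) (ZMod p)) :=
    (QuotientGroup.mk' _).comp φ
  have hψ : ψ.ker ≤ T ⊔ centralizer (T : Set G) := by
    intro g hg
    obtain ⟨y, hy⟩ : φ g ∈ Cfsg.Inn _ := (QuotientGroup.eq_one_iff _).1 (MonoidHom.mem_ker.1 hg)
    obtain ⟨t, rfl⟩ := e.surjective y
    rw [show g = (t : G) * ((t : G)⁻¹ * g) by group]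
    refine mul_mem_sup t.2 (mem_centralizer_iff.2 fun x hx => ?_)
    have h1 : e (MulAut.conjNormal g (e.symm (e ⟨x, hx⟩))) = e t * e ⟨x, hx⟩ * (e t)⁻¹ :=
      (DFunLike.congr_fun hy (e ⟨x, hx⟩)).symm
    rw [MulEquiv.symm_apply_apply, ← map_inv, ← map_mul, ← map_mul] at h1
    have h2 := congrArg Subtype.val (e.injective h1)
    simp only [MulAut.conjNormal_apply, Subgroup.coe_mul, Subgroup.coe_inv] at h2
    calc x * ((t : G)⁻¹ * g) = (t : G)⁻¹ * ((t : G) * x * (t : G)⁻¹) * g := by group
      _ = (t : G)⁻¹ * (g * x * g⁻¹) * g := by rw [h2]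
      _ = (t : G)⁻¹ * g * x := by group
  refine (index_dvd_of_le hψ).trans ?_
  rw [index_ker]
  refine (card_subgroup_dvd_card _).trans ?_
  rw [hk]
  exact Nat.gcd_dvd_left _ _

theorem index_two_top [Group.IsPerfect G] {H : Subgroup G} (h : H.index ∣ 2) : H = ⊤ := by
  rcases (Nat.dvd_prime Nat.prime_two).1 h with e | e
  · exact index_eq_one.1 e
  · exact absurd e (no_index_two_of_perfect H)

/-- The central quotient of a perfect group of the class. -/
theorem center_quotient_psl (hSD : NoSD.{u}) [Group.IsPerfect G] [Nontrivial G]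
    (hodd : OddCyclic G) (hcyc : AlmostCyc G)
    (hIH : ∀ (H : Type u) [Group H] [Finite H], Nat.card H < Nat.card G → OddCyclic H →
      AlmostCyc H → ¬ Group.IsSolvable H → AlmostPSL H) :
    ∃ (p : ℕ) (_ : Fact p.Prime), 5 ≤ p ∧
      Nonempty (G ⧸ center G ≃* Matrix.ProjectiveSpecialLinearGroup (Fin 2) (ZMod p)) := by
  set Y := G ⧸ center G
  haveI hYp : Group.IsPerfect Y := Group.IsPerfect.ofSurjective (QuotientGroup.mk'_surjective _)
  haveI : Nontrivial Y := by
    rw [QuotientGroup.nontrivial_iff]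
    intro h
    exact not_solvable_of_perfect (Group.isSolvable_of_comm fun a b : G =>
      (mem_center_iff.1 (h ▸ mem_top b) a))
  have hoY : OddCyclic Y := hodd.of_surjective (QuotientGroup.mk'_surjective _)
  have hcY : AlmostCyc Y := hcyc.of_surjective (QuotientGroup.mk'_surjective _)
  have hzY : center Y = ⊥ := center_quotient_center
  have hle : Nat.card Y ≤ Nat.card G :=
    Nat.card_le_card_of_surjective _ (QuotientGroup.mk'_surjective _)
  have hlt : ∀ H : Subgroup Y, H ≠ ⊤ → Nat.card H < Nat.card G := fun H hH =>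
    lt_of_lt_of_le (Nat.lt_of_le_of_ne (card_le_card_group H) fun e =>
      hH (eq_top_of_card_eq H e)) hle
  by_cases hsimp : ∀ N : Subgroup Y, N.Normal → N = ⊥ ∨ N = ⊤
  · haveI : IsSimpleGroup Y := ⟨hsimp⟩
    exact exists_psl_of_simple hSD not_solvable_of_perfect hoY hcY fun H hH hns =>
      hIH H (hlt H hH) (hoY.of_injective H.subtype_injective) (hcY.of_injective H.subtype_injective) hns
  exfalso
  push Not at hsimp
  obtain ⟨N, hN, hNb, hNt⟩ := hsimp
  haveI := hN
  have hNns : ¬ Group.IsSolvable N := fun h => hNb (solvable_normal_eq_bot hoY hcY hzY N hN h)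
  obtain ⟨p, hp, h5, X, L, hX, hL, hXL, hidx, hXo, -, hLiso⟩ :=
    hIH N (hlt N hNt) (hoY.of_injective N.subtype_injective) (hcY.of_injective N.subtype_injective) hNns
  haveI := hX
  haveI := hL
  have hX1 : X = ⊥ := by
    have h1 : X.map N.subtype ≤ Cfsg.pPrimeCore 2 Y :=
      (map_mono (PSolv.le_pPrimeCore hX hXo.coprime_two_right)).trans PSolv.map_pPrimeCore_subtype_le
    have h2 : Cfsg.pPrimeCore 2 Y = ⊥ := by
      haveI : (Cfsg.pPrimeCore 2 Y).Characteristic := PSolv.pPrimeCore_characteristic 2 Y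
      exact solvable_normal_eq_bot hoY hcY hzY _ inferInstance
        (S0205.result (Nat.coprime_two_right.1 (PSolv.coprime_card_pPrimeCore 2 Y)))
    exact (map_eq_bot_iff_of_injective X N.subtype_injective).1 (le_bot_iff.1 (h1.trans_eq h2))
  rw [hX1, bot_sup_eq] at hidx
  haveI hLp : Group.IsPerfect L := by
    rcases hLiso with ⟨⟨e⟩⟩ | ⟨⟨e⟩⟩
    · haveI := perfect_sl (p := p) h5
      haveI : Group.IsPerfect (Matrix.ProjectiveSpecialLinearGroup (Fin 2) (ZMod p)) :=
        Group.IsPerfect.ofSurjective (QuotientGroup.mk'_surjective _)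
      exact Group.IsPerfect.ofSurjective (f := e.symm.toMonoidHom) e.symm.surjective
    · haveI := perfect_sl (p := p) h5
      exact Group.IsPerfect.ofSurjective (f := e.symm.toMonoidHom) e.symm.surjective
  have hLc : L = commutator N := by
    refine le_antisymm ?_ ?_
    · have : (commutator L).map L.subtype ≤ commutator N := by
        rw [map_subtype_commutator]
        exact commutator_mono le_top le_top
      rwa [Group.IsPerfect.commutator_eq_top, ← MonoidHom.range_eq_map, range_subtype] at this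
    · refine (Normal.quotient_commutative_iff_commutator_le (N := L)).1 ?_
      have hc : Nat.card (N ⧸ L) ∣ 2 := by rwa [← index_eq_card]
      rcases (Nat.dvd_prime Nat.prime_two).1 hc with h | h
      · haveI := (Nat.card_eq_one_iff_unique.1 h).1
        exact ⟨⟨fun a b => Subsingleton.elim _ _⟩⟩
      · haveI : Fact (Nat.Prime 2) := ⟨Nat.prime_two⟩
        haveI := isCyclic_of_prime_card (p := 2) h
        exact ⟨⟨fun a b => mul_comm' a b⟩⟩
  subst hLc
  set T := (commutator N).map N.subtype with hT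
  haveI : T.Normal := inferInstance
  let eT : commutator N ≃* T := (commutator N).equivMapOfInjective _ N.subtype_injective
  obtain ⟨e⟩ : Nonempty (T ≃* Matrix.ProjectiveSpecialLinearGroup (Fin 2) (ZMod p)) := by
    rcases hLiso with ⟨⟨e⟩⟩ | ⟨⟨e⟩⟩
    · exact ⟨eT.symm.trans e⟩
    exfalso
    -- the central involution would give a solvable normal subgroup
    let C := center T
    haveI : (C.map T.subtype).Normal := inferInstance
    have hC : C.map T.subtype = ⊥ := by
      refine solvable_normal_eq_bot hoY hcY hzY _ inferInstance ?_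
      haveI : Group.IsSolvable C := Group.isSolvable_of_comm fun a b => mul_comm' a b
      exact Group.isSolvable_of_surjective
        (f := (C.equivMapOfInjective _ T.subtype_injective).toMonoidHom) (MulEquiv.surjective _)
    rw [map_eq_bot_iff_of_injective _ T.subtype_injective] at hC
    have hc := Nat.card_congr (Subgroup.centerCongr (eT.symm.trans e)).toEquiv
    rw [show center T = ⊥ from hC, card_bot, Linear.card_center_SL, Fintype.card_fin, ZMod.card] at hc
    have h2 : 2 ∣ p - 1 := by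
      rcases (Fact.out : p.Prime).eq_two_or_odd with h | h <;> omega
    rw [Nat.gcd_eq_left h2] at hc
    omega
  have hTN : T ≤ N := map_subtype_le _
  have hC0 : centralizer (T : Set Y) = ⊥ :=
    solvable_normal_eq_bot hoY hcY hzY _ inferInstance (S0205.result (centralizer_odd hcY h5 e))
  have hTtop := index_two_top (H := T ⊔ centralizer (T : Set Y)) (index_sup_centralizer h5 e)
  rw [hC0, sup_bot_eq] at hTtop
  exact hNt (top_le_iff.1 (hTtop ▸ hTN))

/-- Perfect groups of the class are `PSL₂(p)` or `SL₂(p)`. -/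
theorem perfect_cases [Group.IsPerfect G] {p : ℕ} [Fact p.Prime] (h5 : 5 ≤ p)
    (e : G ⧸ center G ≃* Matrix.ProjectiveSpecialLinearGroup (Fin 2) (ZMod p)) :
    (center G = ⊥ ∧ Nonempty (G ≃* Matrix.ProjectiveSpecialLinearGroup (Fin 2) (ZMod p))) ∨
      (Nat.card (center G) = 2 ∧ (∀ g : G, g * g = 1 → g ∈ center G) ∧
        Nonempty (G ≃* Matrix.SpecialLinearGroup (Fin 2) (ZMod p))) := by
  let f : G →* Equiv.Perm (Fin (Nat.card G)) :=
    (Equiv.permCongrHom (Finite.equivFin G)).toMonoidHom.comp (MulAction.toPermHom G G)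
  have hf : Function.Injective f := (Equiv.permCongrHom _).injective.comp MulAction.toPerm_injective
  let k : G ≃* f.range := MonoidHom.ofInjective hf
  have hK : Group.IsPerfect f.range :=
    Group.IsPerfect.ofSurjective (f := k.toMonoidHom) k.surjective
  have hmap : (center G).map k.toMonoidHom = center f.range := by
    ext x
    obtain ⟨y, rfl⟩ := k.surjective x
    rw [mem_map_equiv, MulEquiv.symm_apply_apply, mem_center_iff, mem_center_iff]
    refine ⟨fun h x => ?_, fun h x => k.injective ?_⟩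
    · obtain ⟨z, rfl⟩ := k.surjective x
      rw [← map_mul, ← map_mul, h]
    · rw [map_mul, map_mul, h]
  have eK : f.range ⧸ center f.range ≃* Matrix.ProjectiveSpecialLinearGroup (Fin 2) (ZMod p) :=
    (QuotientGroup.congr (center G) (center f.range) k hmap).symm.trans e
  rcases AbSyl.PSLTwo.center_cases (F := ZMod p) hK (by rw [ZMod.card]; omega)
      (by rw [ZMod.card]; omega) (by
        rw [ZMod.card]
        intro h
        have := (Fact.out : p.Prime)
        rw [h] at this
        norm_num at this) eK with h | ⟨-, ⟨s⟩⟩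
  · left
    have hz : center G = ⊥ := by
      refine (map_eq_bot_iff_of_injective (center G) (f := k.toMonoidHom) k.injective).1 ?_
      rw [hmap, h]
    exact ⟨hz, ⟨(QuotientGroup.quotientBot.symm.trans (QuotientGroup.quotientMulEquivOfEq hz.symm)).trans e⟩⟩
  · right
    let ε := k.trans s
    have hodd : (2 : ZMod p) ≠ 0 := by
      intro h
      have h' : ((2 : ℕ) : ZMod p) = 0 := by exact_mod_cast h
      rw [ZMod.natCast_eq_zero_iff] at h'
      have := Nat.le_of_dvd (by norm_num) h'
      omega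
    refine ⟨?_, fun g hg => ?_, ⟨ε⟩⟩
    · rw [Nat.card_congr (Subgroup.centerCongr ε).toEquiv, Linear.card_center_SL, Fintype.card_fin,
        ZMod.card]
      exact Nat.gcd_eq_left (by rcases (Fact.out : p.Prime).eq_two_or_odd with h | h <;> omega)
    · have h1 : ε g * ε g = 1 := by rw [← map_mul, hg, map_one]
      refine mem_center_iff.2 fun y => ε.injective ?_
      rw [map_mul, map_mul]
      rcases PSLTwo25.eq_one_or_negS hodd h1 with h | h <;> rw [h]
      · simp
      · exact mem_center_iff.1 PSLTwo25.negS_mem_center _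

theorem coprime_of_odd_inf (hodd : OddCyclic G) {X L : Subgroup G} [X.Normal] [L.Normal]
    (hXL : X ⊓ L = ⊥) (hX : Odd (Nat.card X)) : (Nat.card X).Coprime (Nat.card L) := by
  refine Nat.coprime_of_dvd fun q hq hqX hqL => ?_
  haveI : Fact q.Prime := ⟨hq⟩
  have hq2 : q ≠ 2 := fun h => hX.not_two_dvd_nat (h ▸ hqX)
  obtain ⟨x, hx⟩ := exists_prime_orderOf_dvd_card' q hqX
  obtain ⟨y, hy⟩ := exists_prime_orderOf_dvd_card' q hqL
  have hd : Disjoint X L := disjoint_iff.2 hXL
  have hxy : Commute (x : G) (y : G) :=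
    Subgroup.commute_of_normal_of_disjoint X L inferInstance inferInstance hd _ _ x.2 y.2
  rw [← orderOf_coe] at hx hy
  have hP : IsPGroup q (zpowers (x : G) ⊔ zpowers (y : G) : Subgroup G) :=
    (IsPGroup.of_card (n := 1) (by rw [Nat.card_zpowers, hx, pow_one])).to_sup_of_normal_left'
      (IsPGroup.of_card (n := 1) (by rw [Nat.card_zpowers, hy, pow_one]))
      (zpowers_le.2 (Subgroup.centralizer_le_normalizer _ (mem_centralizer_iff.2 fun z hz => by
        obtain ⟨i, rfl⟩ := hz
        exact (hxy.zpow_left i).eq)))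
  haveI := hodd q hq hq2 _ hP
  set P := zpowers (x : G) ⊔ zpowers (y : G) with hPdef
  have heq : (zpowers (x : G)).subgroupOf P = (zpowers (y : G)).subgroupOf P :=
    FrobeniusCompl.eq_of_card_eq (by
      rw [Nat.card_congr (subgroupOfEquivOfLe le_sup_left).toEquiv,
        Nat.card_congr (subgroupOfEquivOfLe le_sup_right).toEquiv, Nat.card_zpowers,
        Nat.card_zpowers, hx, hy])
  have h1 : (x : G) ∈ zpowers (y : G) :=
    mem_subgroupOf.1 (heq.le (show (⟨(x : G), mem_sup_left (mem_zpowers _)⟩ : P) ∈ _ from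
      mem_subgroupOf.2 (mem_zpowers _)))
  have h2 : (x : G) ∈ X ⊓ L := ⟨x.2, zpowers_le.2 y.2 h1⟩
  rw [hXL, mem_bot] at h2
  rw [h2, orderOf_one] at hx
  exact hq.one_lt.ne hx

/-- The main theorem. -/
theorem almostPSL (hSD : NoSD.{u}) : ∀ (G : Type u) [Group G] [Finite G], OddCyclic G →
    AlmostCyc G → ¬ Group.IsSolvable G → AlmostPSL G := by
  suffices ∀ n, ∀ (G : Type u) [Group G] [Finite G], Nat.card G = n → OddCyclic G →
      AlmostCyc G → ¬ Group.IsSolvable G → AlmostPSL G from
    fun G _ _ => this _ G rfl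
  intro n
  induction n using Nat.strong_induction_on with
  | _ n ih =>
  intro G _ _ hn hodd hcyc hns
  haveI : Fact (Nat.Prime 2) := ⟨Nat.prime_two⟩
  obtain ⟨M, hMn, hMp, hMs⟩ := exists_residual G
  haveI := hMp
  haveI := hMs
  haveI : Nontrivial M := by
    rw [nontrivial_iff_ne_bot]
    rintro rfl
    exact hns (Group.isSolvable_of_surjective (f := (QuotientGroup.quotientBot (G := G)).toMonoidHom)
      (MulEquiv.surjective _))
  have hoM : OddCyclic M := hodd.of_injective M.subtype_injective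
  have hcM : AlmostCyc M := hcyc.of_injective M.subtype_injective
  obtain ⟨p, hp, h5, ⟨eM⟩⟩ := center_quotient_psl hSD hoM hcM fun H _ _ hH ho hc hs =>
    ih _ (lt_of_lt_of_le hH ((card_le_card_group M).trans hn.le)) H rfl ho hc hs
  set Z := (center M).map M.subtype with hZ
  haveI hZn : Z.Normal := inferInstance
  have hZM : Z ≤ M := map_subtype_le _
  set π := QuotientGroup.mk' Z with hπ
  set T := M.map π with hT
  haveI : T.Normal := Subgroup.Normal.map hMn _ (QuotientGroup.mk'_surjective Z)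
  obtain ⟨eT⟩ : Nonempty (T ≃* Matrix.ProjectiveSpecialLinearGroup (Fin 2) (ZMod p)) := by
    have hker : (π.subgroupMap M).ker = center M := by
      ext m
      constructor
      · intro hm
        obtain ⟨z, hz, hzm⟩ := (QuotientGroup.eq_one_iff (m : G)).1 (congrArg Subtype.val (MonoidHom.mem_ker.1 hm))
        exact M.subtype_injective hzm ▸ hz
      · exact fun hm => MonoidHom.mem_ker.2 (Subtype.ext ((QuotientGroup.eq_one_iff (m : G)).2 ⟨m, hm, rfl⟩))
    exact ⟨((QuotientGroup.quotientKerEquivOfSurjective _ (π.subgroupMap_surjective M)).symm.trans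
      (QuotientGroup.quotientMulEquivOfEq hker)).trans eM⟩
  set K := centralizer (M : Set G) with hK
  haveI : K.Normal := inferInstance
  -- `G` modulo `M K`
  have hMK : (M ⊔ K).index ∣ 2 := by
    have h1 := index_sup_centralizer h5 eT
    rw [← index_comap_of_surjective _ (QuotientGroup.mk'_surjective Z)] at h1
    refine dvd_trans (index_dvd_of_le fun g hg => ?_) h1
    obtain ⟨t, ⟨m, hm, rfl⟩, c, hc, hgc⟩ := mem_sup_of_normal_left.1 (mem_comap.1 hg)
    have hk : m⁻¹ * g ∈ K := by
      have hk' : π (m⁻¹ * g) ∈ centralizer (T : Set (G ⧸ Z)) := by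
        rw [map_mul, map_inv, ← hgc, inv_mul_cancel_left]; exact hc
      set k := m⁻¹ * g
      let δ : M → M := fun x => ⟨k * x * k⁻¹ * (x : G)⁻¹, mul_mem (hMn.conj_mem _ x.2 k) (inv_mem x.2)⟩
      have hδ : ∀ x, δ x ∈ center M := fun x => by
        have hq := mem_centralizer_iff.1 hk' (π x) ⟨x, x.2, rfl⟩
        have : π (k * x * k⁻¹ * (x : G)⁻¹) = 1 := by
          rw [map_mul, map_mul, map_mul, map_inv, map_inv, ← hq, mul_inv_cancel_right, mul_inv_cancel]
        obtain ⟨z, hz, hzx⟩ := (QuotientGroup.eq_one_iff _).1 this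
        exact (Subtype.ext hzx : z = δ x) ▸ hz
      haveI : Group.IsSolvable (center M) := Group.isSolvable_of_comm fun a b => mul_comm' a b
      let d : M →* center M :=
        { toFun := fun x => ⟨δ x, hδ x⟩
          map_one' := Subtype.ext (Subtype.ext (by simp [δ]))
          map_mul' := fun x y => Subtype.ext (by
            show δ (x * y) = δ x * δ y
            have e := mem_center_iff.1 (hδ y) x
            calc δ (x * y) = δ x * (x * δ y * x⁻¹) := Subtype.ext (by simp [δ, mul_assoc])
              _ = δ x * δ y := by rw [e, mul_inv_cancel_right]) }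
      refine mem_centralizer_iff.2 fun x hx => ?_
      have := congrArg (fun z : center M => ((z : M) : G)) (hom_eq_one d ⟨x, hx⟩)
      exact (mul_inv_eq_iff_eq_mul.1 (mul_inv_eq_one.1 this)).symm
    rw [show g = m * (m⁻¹ * g) by group]
    exact mul_mem_sup hm hk
  have hKM : ∀ x ∈ K, x ∈ M → x ∈ Z := fun x hx hxM =>
    ⟨⟨x, hxM⟩, mem_center_iff.2 fun y => Subtype.ext (mem_centralizer_iff.1 hx y y.2), rfl⟩
  have hmk : ∀ X L : Subgroup G, X.Normal → L.Normal → X ⊓ L = ⊥ → Odd (Nat.card X) →
      L = M → M ⊔ K ≤ X ⊔ L → (Nonempty (M ≃* Matrix.ProjectiveSpecialLinearGroup (Fin 2) (ZMod p)) ∨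
      Nonempty (M ≃* Matrix.SpecialLinearGroup (Fin 2) (ZMod p))) → AlmostPSL G := by
    intro X L hX hL h1 h2 e hle hiso
    haveI := hX
    haveI := hL
    refine ⟨p, hp, h5, X, L, hX, hL, h1, (index_dvd_of_le hle).trans hMK, h2,
      coprime_of_odd_inf hodd h1 h2, ?_⟩
    subst e
    exact hiso
  rcases perfect_cases h5 eM with ⟨hz, hiso⟩ | ⟨hz, hinv, hiso⟩
  · obtain ⟨e⟩ := hiso
    have hZb : Z = ⊥ := by rw [hZ, hz, Subgroup.map_bot]
    refine hmk K M inferInstance hMn ?_ (centralizer_odd hcyc h5 e) rfl (sup_comm M K).le (.inl ⟨e⟩)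
    exact eq_bot_iff.2 fun x hx => hZb ▸ hKM x hx.1 hx.2
  -- the preimage of a four-group
  obtain ⟨E, hE⟩ := exists_four h5 eM
  haveI := hE
  set E' := E.comap (QuotientGroup.mk' (center M)) with hE'
  have hE8 : Nat.card E' = 8 := by
    rw [hE', PSolv.card_comap_mk, hz, IsKleinFour.card_four]
  obtain ⟨a, b, ha, hb, hab⟩ : ∃ a b : M, a ∈ E' ∧ b ∈ E' ∧ a * b ≠ b * a := by
    by_contra hcon
    push Not at hcon
    haveI : Nontrivial E := Finite.one_lt_card_iff_nontrivial.1 (by rw [IsKleinFour.card_four]; norm_num)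
    obtain ⟨α, hα⟩ : ∃ α : E, α ≠ 1 := exists_ne 1
    obtain ⟨β, hβ1, hβα⟩ : ∃ β : E, β ≠ 1 ∧ β ≠ α := by
      by_contra h
      push Not at h
      have := Nat.card_le_card_of_surjective (fun z : Bool => if z then α else 1) fun w => by
        by_cases hw : w = 1
        · exact ⟨false, hw.symm⟩
        · exact ⟨true, (h w hw).symm⟩
      rw [IsKleinFour.card_four, Nat.card_eq_fintype_card, Fintype.card_bool] at this
      omega
    obtain ⟨a, ha⟩ := QuotientGroup.mk'_surjective (center M) (α : M ⧸ center M)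
    obtain ⟨b, hb⟩ := QuotientGroup.mk'_surjective (center M) (β : M ⧸ center M)
    have hsq : ∀ (w : M) (γ : E), QuotientGroup.mk' (center M) w = γ → γ ≠ 1 →
        w * w ∈ center M ∧ w * w ≠ 1 := fun w γ hw hγ => by
      refine ⟨(QuotientGroup.eq_one_iff _).1 ?_, fun h => hγ (Subtype.ext ?_)⟩
      · rw [QuotientGroup.mk_mul]
        show QuotientGroup.mk' (center M) w * QuotientGroup.mk' (center M) w = 1
        rw [hw]
        exact congrArg Subtype.val (IsKleinFour.mul_self γ)
      · rw [← hw]; exact (QuotientGroup.eq_one_iff _).2 (hinv w h)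
    obtain ⟨h1, h1'⟩ := hsq a α ha hα
    obtain ⟨h2, h2'⟩ := hsq b β hb hβ1
    have hzz : ∀ u v : M, u ∈ center M → v ∈ center M → u ≠ 1 → v ≠ 1 → u * v = 1 := by
      intro u v hu hv hu1 hv1
      obtain ⟨w, -, hw⟩ := (Nat.card_eq_two_iff' (1 : center M)).1 hz
      have e1 := hw ⟨u, hu⟩ (fun e => hu1 (congrArg Subtype.val e))
      have e2 := hw ⟨v, hv⟩ (fun e => hv1 (congrArg Subtype.val e))
      have e3 : (⟨u, hu⟩ : center M) = ⟨v, hv⟩ := e1.trans e2.symm
      have e4 : (⟨u, hu⟩ : center M) * ⟨u, hu⟩ = 1 := by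
        have := pow_card_eq_one' (x := (⟨u, hu⟩ : center M))
        rwa [hz, pow_two] at this
      have e5 : u = v := congrArg Subtype.val e3
      rw [← e5]
      exact congrArg Subtype.val e4
    have hca : a ∈ E' := by rw [hE', mem_comap, ha]; exact α.2
    have hcb : b ∈ E' := by rw [hE', mem_comap, hb]; exact β.2
    have hcm : Commute a b := hcon a b hca hcb
    have hsq1 : a * b * (a * b) = 1 := by
      rw [hcm.symm.mul_mul_mul_comm]
      exact hzz _ _ h1 h2 h1' h2'
    have h3 : QuotientGroup.mk' (center M) (a * b) = 1 := (QuotientGroup.eq_one_iff _).2 (hinv _ hsq1)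
    rw [map_mul, ha, hb] at h3
    refine hβα ?_
    have h4 : α * β = 1 := Subtype.ext h3
    rw [← inv_eq_of_mul_eq_one_right h4, inv_eq_of_mul_eq_one_right (IsKleinFour.mul_self α)]
  have hZ2 : Nat.card Z = 2 := by rw [hZ, card_map_of_injective M.subtype_injective, hz]
  have hKfour : ∀ c ∈ K, c ^ 4 = 1 → c ∈ Z := by
    intro c hc h4
    refine hKM c hc ?_
    have := hcyc.mem_eight (E := E'.map M.subtype)
      (by rw [card_map_of_injective M.subtype_injective, hE8]) (mem_map_of_mem _ ha)
      (mem_map_of_mem _ hb) (fun h => hab (M.subtype_injective (by simpa using h))) h4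
      (by rintro _ ⟨x, -, rfl⟩; exact mem_centralizer_iff.1 hc _ x.2)
    exact map_subtype_le _ this
  have hK2 : ∀ k, ∀ c ∈ K, c ^ 2 ^ k = 1 → c ∈ Z := by
    intro k
    induction k with
    | zero => intro c _ h; simp only [pow_zero, pow_one] at h; rw [h]; exact one_mem _
    | succ k ihk =>
      intro c hc h
      have h2 : c ^ 2 ∈ Z := ihk _ (pow_mem hc 2) (by rwa [← pow_mul, ← pow_succ'])
      refine hKfour c hc ?_
      have := pow_card_eq_one' (x := (⟨c ^ 2, h2⟩ : Z))
      rw [hZ2] at this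
      have h' := congrArg Subtype.val this
      simp only [SubmonoidClass.coe_pow, OneMemClass.coe_one, ← pow_mul] at h'
      exact h'
  have hZK : Z ≤ K := by
    rintro _ ⟨z, hz', rfl⟩
    exact mem_centralizer_iff.2 fun y hy => congrArg Subtype.val (mem_center_iff.1 hz' ⟨y, hy⟩)
  obtain ⟨S⟩ : Nonempty (Sylow 2 K) := inferInstance
  have hSZ : (S : Subgroup K) ≤ Z.subgroupOf K := fun s hs => by
    obtain ⟨k, hk⟩ := S.2 ⟨s, hs⟩
    exact mem_subgroupOf.2 (hK2 k s s.2 (congrArg (fun z : (S : Subgroup K) => ((z : K) : G)) hk))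
  have hScard : Nat.card (S : Subgroup K) ∣ 2 :=
    (card_dvd_of_le hSZ).trans (by rw [Nat.card_congr (subgroupOfEquivOfLe hZK).toEquiv, hZ2])
  have hKeven : 2 ∣ Nat.card K := hZ2 ▸ card_dvd_of_le hZK
  haveI : IsCyclic (S : Subgroup K) := by
    rcases (Nat.dvd_prime Nat.prime_two).1 hScard with h | h
    · haveI := (Nat.card_eq_one_iff_unique.1 h).1
      exact isCyclic_of_subsingleton
    · exact isCyclic_of_prime_card h
  obtain ⟨H, hH⟩ := S0219.result (even_iff_two_dvd.2 hKeven) S inferInstance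
  haveI := normal_of_index_eq_two hH
  have h4 : ¬ 4 ∣ Nat.card K := fun h => by
    have h1 := S.pow_dvd_card_of_pow_dvd_card (n := 2) (by simpa using h)
    have := Nat.le_of_dvd (by norm_num) (h1.trans hScard)
    omega
  have hHodd : Odd (Nat.card H) := by
    rw [← Nat.not_even_iff_odd, even_iff_two_dvd]
    intro h
    apply h4
    rw [← H.index_mul_card, hH]
    exact Nat.mul_dvd_mul_left 2 h
  have hHmem : ∀ x : K, x ∈ H ↔ Odd (orderOf x) := fun x => by
    constructor
    · intro hx
      rw [← Subgroup.orderOf_mk x hx]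
      exact hHodd.of_dvd_nat (_root_.orderOf_dvd_natCard _)
    · intro hx
      refine (QuotientGroup.eq_one_iff x).1 (orderOf_eq_one_iff.1 (Nat.eq_one_of_dvd_coprimes
        hx.coprime_two_left ?_ (orderOf_map_dvd (QuotientGroup.mk' H) x)))
      refine (_root_.orderOf_dvd_natCard _).trans ?_
      rw [← index_eq_card, hH]
  set X := H.map K.subtype with hX
  haveI hXn : X.Normal := ⟨by
    rintro _ ⟨x, hx, rfl⟩ g
    refine ⟨MulAut.conjNormal g x, (hHmem _).2 ?_, by simp⟩
    rw [MulEquiv.orderOf_eq]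
    exact (hHmem x).1 hx⟩
  have hXcard : Odd (Nat.card X) := by rw [hX, card_map_of_injective K.subtype_injective]; exact hHodd
  obtain ⟨e⟩ := hiso
  refine hmk X M hXn hMn ?_ hXcard rfl ?_ (.inr ⟨e⟩)
  · refine eq_bot_iff.2 fun x hx => ?_
    have h1 : orderOf x ∣ Nat.card X := by
      rw [← Subgroup.orderOf_mk x hx.1]; exact _root_.orderOf_dvd_natCard _
    have h2 : orderOf x ∣ 2 := by
      have := hKM x (map_subtype_le _ hx.1) hx.2
      rw [← hZ2, ← Subgroup.orderOf_mk x this]
      exact _root_.orderOf_dvd_natCard _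
    exact mem_bot.2 (orderOf_eq_one_iff.1 (Nat.eq_one_of_dvd_coprimes hXcard.coprime_two_right h1 h2))
  · refine sup_le le_sup_right fun x hx => ?_
    obtain ⟨z, hz', hz1⟩ : ∃ z, z ∈ Z ∧ z ≠ 1 := by
      obtain ⟨w, hw, -⟩ := (Nat.card_eq_two_iff' (1 : Z)).1 hZ2
      exact ⟨w, w.2, fun e => hw (Subtype.ext e)⟩
    by_cases hxH : (⟨x, hx⟩ : K) ∈ H
    · exact mem_sup_left ⟨_, hxH, rfl⟩
    · have hzH : (⟨z, hZK hz'⟩ : K) ∉ H := fun h => hz1 (by
        have h1 := (hHmem _).1 h
        rw [← Subgroup.orderOf_coe] at h1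
        refine orderOf_eq_one_iff.1 (Nat.eq_one_of_dvd_coprimes h1.coprime_two_right dvd_rfl ?_)
        rw [← hZ2, ← Subgroup.orderOf_mk z hz']
        exact _root_.orderOf_dvd_natCard _)
      have hm := (mul_mem_iff_of_index_two hH (a := (⟨x, hx⟩ : K)) (b := ⟨z, hZK hz'⟩)).2
        (iff_of_false hxH hzH)
      rw [show x = x * z * z⁻¹ by group]
      exact mul_mem (mem_sup_left ⟨_, hm, rfl⟩) (inv_mem (mem_sup_right (hZM hz')))

end Cfsg.Agent.GW

namespace Cfsg.Agent.GW

open Subgroup

universe w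

/-- The statement of S4069, given the exclusion of semidihedral Sylow 2-subgroups. -/
theorem structure_of_noSD (hSD : NoSD.{w}) {G : Type w} [Group G] [Finite G]
    (hns : ¬ Group.IsSolvable G)
    (hodd : ∀ p : ℕ, p.Prime → p ≠ 2 → ∀ P : Sylow p G, IsCyclic P)
    (h2 : ∀ S : Sylow 2 G, ∃ C : Subgroup ↥(S : Subgroup G), IsCyclic C ∧ C.index ∣ 2) :
    ∃ G₀ : Subgroup G, G₀.Normal ∧ G₀.index ∣ 2 ∧
      ∃ X L : Subgroup ↥G₀, X.Normal ∧ L.Normal ∧ X ⊓ L = ⊥ ∧ X ⊔ L = ⊤ ∧ (Nat.card X).Coprime (Nat.card L) ∧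
        Odd (Nat.card X) ∧ (∃ (C : Subgroup ↥X) (_ : C.Normal), IsCyclic C ∧ IsCyclic (↥X ⧸ C)) ∧
        ∃ (p : ℕ) (_ : Fact p.Prime), 5 ≤ p ∧
          (Nonempty (↥L ≃* Matrix.ProjectiveSpecialLinearGroup (Fin 2) (ZMod p)) ∨
           Nonempty (↥L ≃* Matrix.SpecialLinearGroup (Fin 2) (ZMod p))) := by
  have hodd' : OddCyclic G := fun q hq hq2 P hP => by
    obtain ⟨Q, hQ⟩ := hP.exists_le_sylow
    haveI := hodd q hq hq2 Q
    exact isCyclic_of_injective (inclusion hQ) (inclusion_injective _)
  obtain ⟨p, hp, h5, X, L, hX, hL, hXL, hidx, hXo, hco, hiso⟩ :=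
    almostPSL hSD G hodd' (almostCyc_of_sylow h2) hns
  haveI := hX
  haveI := hL
  set G₀ := X ⊔ L
  have hXle : X ≤ G₀ := le_sup_left
  have hLle : L ≤ G₀ := le_sup_right
  let eX := subgroupOfEquivOfLe hXle
  let eL := subgroupOfEquivOfLe hLle
  have hXo' : Odd (Nat.card (X.subgroupOf G₀)) := by rw [Nat.card_congr eX.toEquiv]; exact hXo
  haveI : IsZGroup (X.subgroupOf G₀) := ⟨fun q hq P => by
    haveI : Fact q.Prime := ⟨hq⟩
    by_cases h : q = 2
    · subst h; exact sylow_two_cyclic_of_odd hXo' P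
    · exact ((hodd'.of_injective G₀.subtype_injective).of_injective
        (X.subgroupOf G₀).subtype_injective) q hq h _ P.2⟩
  refine ⟨G₀, inferInstance, hidx, X.subgroupOf G₀, L.subgroupOf G₀, inferInstance, inferInstance,
    ?_, ?_, ?_, hXo', ⟨commutator _, inferInstance, IsZGroup.isCyclic_commutator _,
      (IsZGroup.isCyclic_abelianization : IsCyclic (Abelianization (X.subgroupOf G₀)))⟩, p, hp, h5, ?_⟩
  · rw [subgroupOf, subgroupOf, ← comap_inf, hXL]
    exact (MonoidHom.comap_bot _).trans ((MonoidHom.ker_eq_bot_iff _).2 G₀.subtype_injective)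
  · rw [← subgroupOf_sup hXle hLle, subgroupOf_self]
  · rwa [Nat.card_congr eX.toEquiv, Nat.card_congr eL.toEquiv]
  · rcases hiso with ⟨⟨e⟩⟩ | ⟨⟨e⟩⟩
    · exact Or.inl ⟨eL.trans e⟩
    · exact Or.inr ⟨eL.trans e⟩

end Cfsg.Agent.GW
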