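import Cfsg.Prelude.Def_CaseTheorems
import Cfsg.Agent.TwoFusion.DihedralFusion
import Cfsg.Agent.PSolv.Cores
import Cfsg.Agent.S0205

/-!
# Reduction of the perfect Gorenstein-Walter theorem to simple groups

If `X` is perfect with dihedral Sylow 2-subgroups of order at least 4, then `X/O(X)` is simple, again with
dihedral Sylow 2-subgroups of the same order.
-/

set_option autoImplicit false
set_option linter.style.haveILetI false

namespace Cfsg.Agent.GW

open Cfsg Cfsg.Agent

universe u

/-- The conclusion of the Gorenstein-Walter theorem for the quotient by the core. -/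
def GWType (Y : Type*) [Group Y] : Prop :=
  (∃ (F : Type) (_ : Field F) (_ : Fintype F), Odd (Fintype.card F) ∧ 3 < Fintype.card F ∧
      Nonempty (Y ≃* Matrix.ProjectiveSpecialLinearGroup (Fin 2) F)) ∨
    Nonempty (Y ≃* alternatingGroup (Fin 7))

theorem GWType.congr {Y Z : Type*} [Group Y] [Group Z] (e : Y ≃* Z) (h : GWType Y) : GWType Z := by
  rcases h with ⟨F, i, j, ho, h3, ⟨f⟩⟩ | ⟨⟨f⟩⟩
  · exact Or.inl ⟨F, i, j, ho, h3, ⟨e.symm.trans f⟩⟩
  · exact Or.inr ⟨e.symm.trans f⟩

/-- A perfect group has no subgroup of index two. -/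
theorem no_index_two_of_perfect {Y : Type*} [Group Y] [Group.IsPerfect Y] (H : Subgroup Y) :
    H.index ≠ 2 := by
  intro hH
  haveI := Subgroup.normal_of_index_eq_two hH
  haveI : Fact (Nat.Prime 2) := ⟨Nat.prime_two⟩
  haveI : IsCyclic (Y ⧸ H) := isCyclic_of_prime_card (p := 2) (Subgroup.index_eq_card H ▸ hH)
  have hc : commutator Y ≤ H := Subgroup.Normal.quotient_commutative_iff_commutator_le.1
    ⟨⟨fun a b => mul_comm' a b⟩⟩
  rw [Group.IsPerfect.commutator_eq_top, top_le_iff] at hc
  rw [hc, Subgroup.index_top] at hH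
  omega

/-- A solvable quotient of a perfect group is trivial. -/
theorem eq_top_of_perfect_of_solvable_quotient {Y : Type*} [Group Y] [Finite Y] [Group.IsPerfect Y]
    (N : Subgroup Y) [N.Normal] (hs : Group.IsSolvable (Y ⧸ N)) : N = ⊤ := by
  by_contra hN
  haveI : Nontrivial (Y ⧸ N) := by
    rw [QuotientGroup.nontrivial_iff]; exact hN
  have h1 := Group.IsSolvable.commutator_lt_top_of_nontrivial (Y ⧸ N)
  have h2 : commutator (Y ⧸ N) = ⊤ := by
    rw [← MonoidHom.range_eq_top_of_surjective (QuotientGroup.mk' N) (QuotientGroup.mk'_surjective N),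
      MonoidHom.range_eq_map, ← Group.IsPerfect.commutator_eq_top (G := Y)]
    simp only [commutator_def, Subgroup.map_commutator, ← MonoidHom.range_eq_map,
      MonoidHom.range_eq_top_of_surjective _ (QuotientGroup.mk'_surjective N)]
  rw [h2] at h1
  exact lt_irrefl _ h1

/-- A perfect group with trivial core and dihedral Sylow 2-subgroups is simple. -/
theorem simple_of_perfect_dihedral {Y : Type*} [Group Y] [Finite Y] [Group.IsPerfect Y]
    (hO : oddCore Y = ⊥) (S : Sylow 2 Y) (n : ℕ) (hn : 2 ≤ n)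
    (e : (S : Subgroup Y) ≃* DihedralGroup n) : IsSimpleGroup Y := by
  classical
  haveI : Fact (Nat.Prime 2) := ⟨Nat.prime_two⟩
  have hA : ∀ x y : Y, orderOf x = 2 → orderOf y = 2 → IsConj x y := by
    rcases TwoFusion.dihedral_cases hn e with h4 | ⟨⟨k, a, b, h⟩, -⟩
    · exact TwoFusion.all_conj_of_no_index_two_four h4 no_index_two_of_perfect
    · exact TwoFusion.Dih.all_conj_of_no_index_two h no_index_two_of_perfect
  obtain ⟨X, hXS, hX⟩ := TwoFusion.exists_four_le hn e
  haveI : Nontrivial Y := by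
    by_contra hnt
    rw [not_nontrivial_iff_subsingleton] at hnt
    have h1 : Nat.card X ≤ 1 := Finite.card_le_one_iff_subsingleton.2 inferInstance
    rw [hX.1] at h1
    omega
  refine ⟨fun N hN => or_iff_not_imp_left.2 fun hne => ?_⟩
  haveI := hN
  have heven : ¬ (Nat.card N).Coprime 2 := fun hc =>
    hne (le_bot_iff.1 (hO ▸ PSolv.le_pPrimeCore hN hc))
  obtain ⟨w, hw⟩ := exists_prime_orderOf_dvd_card' (G := N) 2
    (by
      by_contra h2
      exact heven ((Nat.prime_two.coprime_iff_not_dvd.2 h2).symm))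
  have hw' : orderOf (w : Y) = 2 := by rw [Subgroup.orderOf_coe]; exact hw
  have hinv : ∀ x ∈ (S : Subgroup Y), x * x = 1 → x ∈ N := fun x _ hx2 => by
    by_cases hx1 : x = 1
    · rw [hx1]; exact N.one_mem
    obtain ⟨g, hg⟩ := isConj_iff.1 (hA w x hw' (orderOf_eq_prime (by rw [pow_two]; exact hx2) hx1))
    rw [← hg]
    exact hN.conj_mem w w.2 g
  have hSN : (S : Subgroup Y) ≤ N := TwoFusion.le_of_involutions_mem e hinv
  have hodd : Odd (Nat.card (Y ⧸ N)) := by
    rw [← Subgroup.index_eq_card, ← Nat.not_even_iff_odd, even_iff_two_dvd]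
    exact fun h2 => S.not_dvd_index (h2.trans (Subgroup.index_dvd_of_le hSN))
  exact eq_top_of_perfect_of_solvable_quotient N (Cfsg.Agent.S0205.result hodd)

/-- The image of a Sylow subgroup modulo the core is isomorphic to it. -/
theorem sylow_quotient_core {X : Type*} [Group X] [Finite X] (S : Sylow 2 X) :
    ∃ T : Sylow 2 (X ⧸ oddCore X), Nonempty ((S : Subgroup X) ≃* (T : Subgroup (X ⧸ oddCore X))) := by
  haveI : Fact (Nat.Prime 2) := ⟨Nat.prime_two⟩
  refine ⟨S.mapSurjective (QuotientGroup.mk'_surjective (oddCore X)), ⟨?_⟩⟩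
  have hinf : (oddCore X) ⊓ (S : Subgroup X) = ⊥ := by
    refine PSolv.inf_eq_bot_of_coprime_card ?_
    obtain ⟨k, hk⟩ := IsPGroup.iff_card.1 S.isPGroup'
    rw [hk]
    exact (PSolv.coprime_card_pPrimeCore 2 X).pow_right k
  refine MulEquiv.ofBijective
    (((QuotientGroup.mk' (oddCore X)).subgroupMap (S : Subgroup X))) ⟨?_, ?_⟩
  · intro a b hab
    have h1 : (QuotientGroup.mk' (oddCore X)) ((a : X)⁻¹ * b) = 1 := by
      have := congrArg Subtype.val hab
      simp only [MonoidHom.subgroupMap, MonoidHom.submonoidMap] at this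
      rw [map_mul, map_inv]
      exact inv_mul_eq_one.2 this
    have h2 : (a : X)⁻¹ * b ∈ (oddCore X) ⊓ (S : Subgroup X) :=
      ⟨(QuotientGroup.eq_one_iff _).1 h1, mul_mem ((S : Subgroup X).inv_mem a.2) b.2⟩
    rw [hinf, Subgroup.mem_bot, inv_mul_eq_one] at h2
    exact Subtype.ext h2
  · exact MonoidHom.subgroupMap_surjective _ _

/-- The perfect theorem follows from the theorem for simple groups. -/
theorem perfect_of_simple {X : Type u} [Group X] [Finite X] [Group.IsPerfect X]
    (S : Sylow 2 X) (n : ℕ) (hn : 2 ≤ n) (hS : Nonempty ((S : Subgroup X) ≃* DihedralGroup n))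
    (hsimple : ∀ (G : Type u) [Group G] [Finite G] [IsSimpleGroup G] (T : Sylow 2 G) (m : ℕ),
      2 ≤ m → Nonempty ((T : Subgroup G) ≃* DihedralGroup m) → Nat.card G ≤ Nat.card X → GWType G) :
    GWType (X ⧸ oddCore X) := by
  obtain ⟨T, ⟨eT⟩⟩ := sylow_quotient_core S
  obtain ⟨e⟩ := hS
  haveI : Group.IsPerfect (X ⧸ oddCore X) := by
    refine ⟨?_⟩
    rw [← MonoidHom.range_eq_top_of_surjective (QuotientGroup.mk' (oddCore X))
        (QuotientGroup.mk'_surjective _), MonoidHom.range_eq_map,
      ← Group.IsPerfect.commutator_eq_top (G := X)]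
    simp only [commutator_def, Subgroup.map_commutator, ← MonoidHom.range_eq_map,
      MonoidHom.range_eq_top_of_surjective _ (QuotientGroup.mk'_surjective (oddCore X))]
  haveI := simple_of_perfect_dihedral (PSolv.pPrimeCore_quotient_eq_bot 2 X) T n hn (eT.symm.trans e)
  exact hsimple _ T n hn ⟨eT.symm.trans e⟩
    (Nat.card_le_card_of_surjective _ (QuotientGroup.mk'_surjective _))

end Cfsg.Agent.GW
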