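import Cfsg.Agent.GW.Def
import Cfsg.Agent.PSolv.Cores
import Cfsg.Agent.GW.Reduction
import Cfsg.Agent.CharTwo.TwoTimesSymmetricFour
import Mathlib.GroupTheory.SpecificGroups.ZGroup

/-!
Groups with almost cyclic Sylow subgroups: inheritance, 2-rank, and perfect groups acting on
groups with cyclic series.
-/

set_option autoImplicit false
set_option linter.style.haveILetI false
set_option linter.unusedSectionVars false

open Cfsg

namespace Cfsg.Agent.GW

open Subgroup

universe u v

/-- Every 2-subgroup has a cyclic subgroup of index at most two. -/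
def AlmostCyc (G : Type u) [Group G] : Prop :=
  ∀ P : Subgroup G, IsPGroup 2 P → ∃ C : Subgroup G, C ≤ P ∧ IsCyclic C ∧ C.relIndex P ∣ 2

/-- A `p`-subgroup of a quotient is the image of a `p`-subgroup. -/
theorem exists_pGroup_map {G : Type u} {H : Type v} [Group G] [Group H] [Finite G] {f : G →* H}
    (hf : Function.Surjective f) {p : ℕ} [Fact p.Prime] {P : Subgroup H} (hP : IsPGroup p P) :
    ∃ Q : Subgroup G, IsPGroup p Q ∧ Q.map f = P := by
  have hg : Function.Surjective (f.subgroupComap P) :=
    f.subgroupComap_surjective_of_surjective P hf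
  obtain ⟨S⟩ : Nonempty (Sylow p (P.comap f)) := inferInstance
  haveI : Finite P := Finite.of_surjective _ hg
  have htop : ((S.mapSurjective hg : Sylow p P) : Subgroup P) = ⊤ :=
    (hP.to_subgroup ⊤ |> fun h => ((S.mapSurjective hg).3 h le_top).symm)
  refine ⟨(S : Subgroup (P.comap f)).map (P.comap f).subtype, S.2.map _, ?_⟩
  refine le_antisymm ?_ fun y hy => ?_
  · rintro _ ⟨_, ⟨x, hx, rfl⟩, rfl⟩
    exact x.2
  · obtain ⟨x, hx, hxy⟩ : (⟨y, hy⟩ : P) ∈ (S : Subgroup (P.comap f)).map (f.subgroupComap P) := by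
      rw [← Sylow.coe_mapSurjective hg S, htop]
      exact mem_top _
    exact ⟨x, ⟨x, hx, rfl⟩, congrArg Subtype.val hxy⟩

theorem OddCyclic.of_injective {G : Type u} [Group G] {H : Type v} [Group H] {f : H →* G}
    (hf : Function.Injective f) (h : OddCyclic G) : OddCyclic H := by
  intro q hq hq2 P hP
  haveI := h q hq hq2 (P.map f) (hP.map f)
  exact isCyclic_of_injective (P.equivMapOfInjective f hf).toMonoidHom
    (P.equivMapOfInjective f hf).injective

theorem OddCyclic.of_surjective {G : Type u} [Group G] [Finite G] {H : Type v} [Group H]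
    {f : G →* H} (hf : Function.Surjective f) (h : OddCyclic G) : OddCyclic H := by
  intro q hq hq2 P hP
  haveI : Fact q.Prime := ⟨hq⟩
  obtain ⟨Q, hQ, rfl⟩ := exists_pGroup_map hf hP
  haveI := h q hq hq2 Q hQ
  exact isCyclic_of_surjective (f.subgroupMap Q) (f.subgroupMap_surjective Q)

theorem AlmostCyc.of_injective {G : Type u} [Group G] [Finite G] {H : Type v} [Group H]
    {f : H →* G} (hf : Function.Injective f) (h : AlmostCyc G) : AlmostCyc H := by
  intro P hP
  obtain ⟨C, hC, hcyc, hi⟩ := h (P.map f) (hP.map f)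
  haveI : Finite H := Finite.of_injective f hf
  refine ⟨C.comap f ⊓ P, inf_le_right, ?_, ?_⟩
  · haveI := hcyc
    exact isCyclic_of_injective
      ((f.comp (C.comap f ⊓ P).subtype).codRestrict C fun x => x.2.1)
      fun a b e => Subtype.ext (hf (congrArg Subtype.val e))
  · rw [inf_relIndex_right, relIndex_comap]
    exact hi

theorem AlmostCyc.of_surjective {G : Type u} [Group G] [Finite G] {H : Type v} [Group H]
    {f : G →* H} (hf : Function.Surjective f) (h : AlmostCyc G) : AlmostCyc H := by
  intro P hP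
  haveI : Fact (Nat.Prime 2) := ⟨Nat.prime_two⟩
  obtain ⟨Q, hQ, rfl⟩ := exists_pGroup_map hf hP
  obtain ⟨C, hC, hcyc, hi⟩ := h Q hQ
  haveI := hcyc
  refine ⟨C.map f, map_mono hC, isCyclic_of_surjective (f.subgroupMap C)
    (f.subgroupMap_surjective C), dvd_trans ?_ hi⟩
  have e : (C.map f).subgroupOf (Q.map f) = (C.subgroupOf Q).map (f.subgroupMap Q) := by
    ext ⟨y, hy⟩
    constructor
    · rintro ⟨x, hx, hxy⟩
      exact ⟨⟨x, hC hx⟩, hx, Subtype.ext hxy⟩
    · rintro ⟨⟨x, hxQ⟩, hx, hxy⟩
      exact ⟨x, hx, congrArg Subtype.val hxy⟩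
  show ((C.map f).subgroupOf (Q.map f)).index ∣ (C.subgroupOf Q).index
  rw [e]
  exact index_map_dvd _ (f.subgroupMap_surjective Q)

theorem almostCyc_of_sylow {G : Type u} [Group G] [Finite G]
    (h : ∀ S : Sylow 2 G, ∃ C : Subgroup (S : Subgroup G), IsCyclic C ∧ C.index ∣ 2) :
    AlmostCyc G := by
  intro P hP
  obtain ⟨S, hPS⟩ := hP.exists_le_sylow
  obtain ⟨C, hcyc, hi⟩ := h S
  haveI := hcyc
  haveI : IsCyclic (C.map (S : Subgroup G).subtype) := isCyclic_of_surjective _
    (C.equivMapOfInjective _ (S : Subgroup G).subtype_injective).surjective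
  refine ⟨C.map (S : Subgroup G).subtype ⊓ P, inf_le_right, isCyclic_of_injective
    (inclusion (inf_le_left : C.map (S : Subgroup G).subtype ⊓ P ≤ _)) (inclusion_injective _), ?_⟩
  rw [inf_relIndex_right]
  have hn : C.Normal := by
    rcases (Nat.dvd_prime Nat.prime_two).1 hi with h1 | h2
    · rw [index_eq_one] at h1; rw [h1]; infer_instance
    · exact normal_of_index_eq_two h2
  haveI := hn
  have : (C.map (S : Subgroup G).subtype).relIndex P = C.relIndex (P.subgroupOf S) := by
    rw [← relIndex_map_map_of_injective _ _ (S : Subgroup G).subtype_injective,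
      map_subgroupOf_eq_of_le hPS]
  rw [this]
  exact (relIndex_dvd_index_of_normal C _).trans hi

variable {G : Type u} [Group G] [Finite G]

/-- No elementary abelian subgroup of order eight. -/
theorem AlmostCyc.card_le_four (h : AlmostCyc G) (E : Subgroup G) (hsq : ∀ x ∈ E, x * x = 1) :
    Nat.card E ≤ 4 := by
  have hE : IsPGroup 2 E := fun x => ⟨1, Subtype.ext (by simp [pow_succ, hsq x x.2])⟩
  obtain ⟨C, hC, hcyc, hi⟩ := h E hE
  obtain ⟨c, hc⟩ := hcyc.exists_generator
  have h2 : Nat.card C ≤ 2 := by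
    rw [← orderOf_eq_card_of_forall_mem_zpowers hc]
    exact Nat.le_of_dvd (by norm_num) (orderOf_dvd_of_pow_eq_one
      (Subtype.ext (by simp [pow_succ, hsq c (hC c.2)])))
  have := Nat.le_of_dvd (by norm_num) hi
  rw [← inf_relIndex_right, inf_eq_left.2 hC, relIndex] at this
  rw [← (C.subgroupOf E).index_mul_card, Nat.card_congr (subgroupOfEquivOfLe hC).toEquiv]
  calc (C.subgroupOf E).index * Nat.card C ≤ 2 * 2 := Nat.mul_le_mul this h2
    _ = 4 := rfl

/-- An involution centralising a four-group lies in it. -/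
theorem AlmostCyc.mem_four (h : AlmostCyc G) {E : Subgroup G} (hE : Nat.card E = 4)
    (hsq : ∀ x ∈ E, x * x = 1) {c : G} (hc : c * c = 1) (hcomm : ∀ x ∈ E, x * c = c * x) : c ∈ E := by
  have hEc : ∀ x ∈ E, x⁻¹ = x := fun x hx => inv_eq_of_mul_eq_one_right (hsq x hx)
  let F : Subgroup G :=
    { carrier := {g | g ∈ E ∨ c * g ∈ E}
      one_mem' := Or.inl E.one_mem
      mul_mem' := by
        rintro a b (ha | ha) (hb | hb)
        · exact Or.inl (mul_mem ha hb)
        · refine Or.inr ?_
          rw [← mul_assoc, ← hcomm a ha, mul_assoc]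
          exact mul_mem ha hb
        · refine Or.inr ?_
          rw [← mul_assoc]
          exact mul_mem ha hb
        · refine Or.inl ?_
          have : a * b = c * a * (c * b) := by
            have e := hcomm _ ha
            calc a * b = c * (c * a) * b := by rw [← mul_assoc c c a, hc, one_mul]
              _ = c * a * (c * b) := by rw [← e]; group
          rw [this]
          exact mul_mem ha hb
      inv_mem' := by
        rintro a (ha | ha)
        · exact Or.inl (inv_mem ha)
        · refine Or.inr ?_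
          have e : c * a⁻¹ = (c * a)⁻¹ := by
            rw [mul_inv_rev, inv_eq_of_mul_eq_one_right hc]
            have h1 := hcomm _ ha
            calc c * a⁻¹ = c * (a⁻¹ * c) * c := by rw [mul_assoc, mul_assoc, hc, mul_one]
              _ = c * (c * a)⁻¹ * c := by rw [mul_inv_rev, inv_eq_of_mul_eq_one_right hc]
              _ = (c * a)⁻¹ * c * c := by rw [hcomm _ (inv_mem ha)]
              _ = a⁻¹ * c := by
                rw [mul_assoc, hc, mul_one, mul_inv_rev, inv_eq_of_mul_eq_one_right hc]
          rw [e]; exact inv_mem ha }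
  by_contra hcE
  have hF : ∀ x ∈ F, x * x = 1 := by
    rintro x (hx | hx)
    · exact hsq x hx
    · have h1 := hsq _ hx
      have h2 := hcomm _ hx
      calc x * x = c * (c * x) * (c * (c * x)) := by rw [← mul_assoc c c x, hc, one_mul]
        _ = c * ((c * x) * c) * (c * x) := by group
        _ = c * (c * (c * x)) * (c * x) := by rw [h2]
        _ = c * c * (c * x * (c * x)) := by group
        _ = 1 := by rw [hc, h1, one_mul]
  have hlt : E < F := lt_of_le_of_ne (fun x hx => Or.inl hx) fun e => hcE (e ▸ Or.inr (hc ▸ E.one_mem))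
  have h4 := h.card_le_four F hF
  have hdvd := card_dvd_of_le hlt.le
  have hne : Nat.card F ≠ Nat.card E := fun e =>
    hlt.ne (eq_of_le_of_card_ge hlt.le e.le)
  have hpos : 0 < Nat.card F := Nat.card_pos
  obtain ⟨k, hk⟩ := hdvd
  rw [hE] at hk hne
  rcases k with _ | _ | k <;> omega

/-- An element of order dividing four centralising a non-abelian subgroup of order eight. -/
theorem AlmostCyc.mem_eight (h : AlmostCyc G) {E : Subgroup G} (hE : Nat.card E = 8)
    {x y : G} (hx : x ∈ E) (hy : y ∈ E) (hxy : x * y ≠ y * x) {c : G} (hc : c ^ 4 = 1)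
    (hcomm : ∀ x ∈ E, x * c = c * x) : c ∈ E := by
  haveI : Fact (Nat.Prime 2) := ⟨Nat.prime_two⟩
  have hE2 : IsPGroup 2 E := IsPGroup.of_card (n := 3) hE
  have hc2 : IsPGroup 2 (zpowers c) := by
    obtain ⟨k, -, hk⟩ := (Nat.dvd_prime_pow Nat.prime_two (m := 2)).1
      (show orderOf c ∣ 2 ^ 2 from orderOf_dvd_of_pow_eq_one hc)
    exact IsPGroup.of_card (n := k) (by rw [Nat.card_zpowers, hk])
  have hnorm : zpowers c ≤ normalizer (E : Set G) := by
    refine zpowers_le.2 (Subgroup.centralizer_le_normalizer _ (mem_centralizer_iff.2 hcomm))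
  obtain ⟨C, hCR, hcyc, hi⟩ := h _ (hE2.to_sup_of_normal_left' hc2 hnorm)
  haveI := hcyc
  letI := IsCyclic.commGroup (α := C)
  have hCc : ∀ a ∈ C, ∀ b ∈ C, a * b = b * a := fun a ha b hb =>
    congrArg Subtype.val (mul_comm (⟨a, ha⟩ : C) ⟨b, hb⟩)
  set R := E ⊔ zpowers c with hR
  have hne : ¬ E ≤ C := fun e => hxy (hCc x (e hx) y (e hy))
  obtain ⟨y', hy', hyC⟩ := SetLike.not_le_iff_exists.1 hne
  have hir : C.relIndex R = 2 := by
    rcases (Nat.dvd_prime Nat.prime_two).1 hi with e | e
    · exact absurd ((relIndex_eq_one.1 e) (le_sup_left (b := zpowers c) hy')) hyC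
    · exact e
  have hmul : ∀ a ∈ R, ∀ b ∈ R, (a * b ∈ C ↔ (a ∈ C ↔ b ∈ C)) := fun a ha b hb =>
    mul_mem_iff_of_index_two (H := C.subgroupOf R) hir (a := ⟨a, ha⟩) (b := ⟨b, hb⟩)
  have hyR : y' ∈ R := mem_sup_left hy'
  have hcR : c ∈ R := mem_sup_right (mem_zpowers c)
  by_cases hcC : c ∈ C
  · have h4 : Nat.card (C ⊓ E : Subgroup G) = 4 := by
      have h1 : C.relIndex E = 2 := by
        refine index_eq_two_iff.2 ⟨⟨y', hy'⟩, fun b => ?_⟩
        have := hmul b (mem_sup_left b.2) y' hyR
        by_cases hb : (b : G) ∈ C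
        · exact Or.inr ⟨hb, fun e => hyC ((this.1 e).1 hb)⟩
        · exact Or.inl ⟨this.2 (iff_of_false hb hyC), hb⟩
      have h2 := (C.subgroupOf E).index_mul_card
      rw [← relIndex, h1, hE, show C.subgroupOf E = (C ⊓ E).subgroupOf E from (inf_subgroupOf_right _ _).symm,
        Nat.card_congr (subgroupOfEquivOfLe inf_le_right).toEquiv] at h2
      omega
    refine (?_ : c ∈ C ⊓ E).2
    let K : Subgroup C := (C ⊓ E).subgroupOf C
    have hK : Nat.card K = 4 := by
      rw [Nat.card_congr (subgroupOfEquivOfLe inf_le_left).toEquiv, h4]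
    let T : Subgroup C := (powMonoidHom 4).ker
    have hKT : K ≤ T := fun k hk => by
      have := pow_card_eq_one' (x := (⟨k, hk⟩ : K))
      rw [hK] at this
      exact MonoidHom.mem_ker.2 (congrArg Subtype.val this)
    have hT : Nat.card T ≤ 4 := by
      rw [IsCyclic.card_powMonoidHom_ker]
      exact Nat.le_of_dvd (by norm_num) (Nat.gcd_dvd_right _ _)
    have hcT : (⟨c, hcC⟩ : C) ∈ T := MonoidHom.mem_ker.2 (Subtype.ext (by simpa using hc))
    rw [← eq_of_le_of_card_ge hKT (hK ▸ hT)] at hcT
    exact hcT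
  · exfalso
    have hw : y'⁻¹ * c ∈ C := (hmul _ (inv_mem hyR) c hcR).2
      (iff_of_false (fun e => hyC (by simpa using inv_mem e)) hcC)
    have hyc : ∀ a ∈ E, a ∈ C → Commute y' a := fun a ha haC => by
      have h1 : Commute (y'⁻¹ * c) a := hCc _ hw a haC
      have h2 : Commute c a := (hcomm a ha).symm
      have h3 := h2.mul_left h1.inv_left
      simpa [mul_assoc] using h3
    have key : ∀ a ∈ E, Commute y' a := fun a ha => by
      by_cases haC : a ∈ C
      · exact hyc a ha haC
      · have h1 := hyc _ (mul_mem hy' ha) ((hmul _ hyR a (mem_sup_left ha)).2 (iff_of_false hyC haC))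
        have := (Commute.refl y').inv_right.mul_right h1
        rwa [inv_mul_cancel_left] at this
    refine hxy ?_
    have key2 : ∀ a ∈ E, ∃ i : ℕ, y' ^ i * a ∈ C := fun a ha => by
      by_cases haC : a ∈ C
      · exact ⟨0, by simpa using haC⟩
      · exact ⟨1, by simpa using (hmul _ hyR a (mem_sup_left ha)).2 (iff_of_false hyC haC)⟩
    obtain ⟨i, hi'⟩ := key2 x hx
    obtain ⟨j, hj⟩ := key2 y hy
    have e1 : Commute (y' ^ i * x) (y' ^ j * y) := hCc _ hi' _ hj
    have e2 : Commute (y' ^ i) (y' ^ j * y) :=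
      ((Commute.pow_pow_self y' i j)).mul_right ((key y hy).pow_left i)
    have e3 : Commute x (y' ^ j * y) := by
      have := (e2.inv_left).mul_left e1
      rwa [inv_mul_cancel_left] at this
    have e4 := ((key x hx).symm.pow_right j).inv_right.mul_right e3
    rwa [inv_mul_cancel_left] at e4

/-- A perfect group has no nontrivial map to a solvable group. -/
theorem hom_eq_one {M : Type u} {A : Type v} [Group M] [Group A] [Group.IsPerfect M]
    [Group.IsSolvable A] (f : M →* A) (m : M) : f m = 1 := by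
  haveI : Group.IsPerfect f.range :=
    Group.IsPerfect.ofSurjective f.rangeRestrict_surjective
  by_contra hm
  haveI : Nontrivial f.range := ⟨⟨⟨f m, m, rfl⟩, 1, fun e => hm (congrArg Subtype.val e)⟩⟩
  have h := Group.IsSolvable.commutator_lt_top_of_nontrivial f.range
  rw [Group.IsPerfect.commutator_eq_top] at h
  exact lt_irrefl _ h

/-- A perfect group centralises a normal subgroup with a cyclic subgroup that is central modulo. -/
theorem centralize_of_chain [Group.IsPerfect G] {X C : Subgroup G} [C.Normal] (hCX : C ≤ X)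
    (hcyc : IsCyclic C) (hmod : ∀ g : G, ∀ x ∈ X, g * x * g⁻¹ * x⁻¹ ∈ C) : X ≤ center G := by
  letI := hcyc.commGroup
  have hCcen : ∀ g : G, ∀ c ∈ C, g * c = c * g := fun g c hc => by
    haveI : Group.IsSolvable (MulAut C) := Group.isSolvable_of_comm fun a b =>
      (IsCyclic.mulAutMulEquiv C).injective (by rw [map_mul, map_mul, mul_comm])
    have := DFunLike.congr_fun (hom_eq_one (MulAut.conjNormal (H := C)) g) ⟨c, hc⟩
    have h2 := congrArg Subtype.val this
    simp only [MulAut.conjNormal_apply, MulAut.one_apply] at h2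
    exact mul_inv_eq_iff_eq_mul.1 h2
  intro x hx
  let δ : G →* C :=
    { toFun := fun g => ⟨g * x * g⁻¹ * x⁻¹, hmod g x hx⟩
      map_one' := Subtype.ext (by simp)
      map_mul' := fun g h => by
        rw [mul_comm]
        refine Subtype.ext ?_
        show g * h * x * (g * h)⁻¹ * x⁻¹ = h * x * h⁻¹ * x⁻¹ * (g * x * g⁻¹ * x⁻¹)
        have e := hCcen g _ (hmod h x hx)
        calc g * h * x * (g * h)⁻¹ * x⁻¹
            = g * (h * x * h⁻¹ * x⁻¹) * (x * g⁻¹ * x⁻¹) := by group
          _ = h * x * h⁻¹ * x⁻¹ * g * (x * g⁻¹ * x⁻¹) := by rw [e]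
          _ = _ := by group }
  haveI : Group.IsSolvable C := Group.isSolvable_of_comm fun a b => mul_comm a b
  exact mem_center_iff.2 fun g => mul_inv_eq_iff_eq_mul.1
    (mul_inv_eq_one.1 (congrArg Subtype.val (hom_eq_one δ g)))

/-- A perfect group centralises a normal Z-group. -/
theorem zgroup_le_center [Group.IsPerfect G] {X : Subgroup G} [X.Normal] [IsZGroup X] :
    X ≤ center G := by
  haveI : ((commutator X).map X.subtype).Normal := inferInstance
  haveI := IsZGroup.isCyclic_commutator (G := X)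
  have hcyc : IsCyclic ((commutator X).map X.subtype) := isCyclic_of_surjective _
    ((commutator X).equivMapOfInjective _ X.subtype_injective).surjective
  refine centralize_of_chain (C := (commutator X).map X.subtype) (map_subtype_le _) hcyc
    fun g x hx => ?_
  haveI := IsZGroup.isCyclic_abelianization (G := X)
  haveI : Group.IsSolvable (MulAut (Abelianization X)) :=
    Group.isSolvable_of_comm fun a b =>
      (IsCyclic.mulAutMulEquiv (Abelianization X)).injective (by rw [map_mul, map_mul, mul_comm])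
  let f : G →* MulAut (Abelianization X) :=
    { toFun := fun g => MulEquiv.abelianizationCongr (MulAut.conjNormal g)
      map_one' := by rw [map_one]; exact abelianizationCongr_refl
      map_mul' := fun g h => by rw [map_mul]; exact (abelianizationCongr_trans _ _).symm }
  have := DFunLike.congr_fun (hom_eq_one f g) (Abelianization.of ⟨x, hx⟩)
  simp only [f, MonoidHom.coe_mk, OneHom.coe_mk, abelianizationCongr_of, MulAut.one_apply] at this
  have h1 : MulAut.conjNormal g ⟨x, hx⟩ * (⟨x, hx⟩ : X)⁻¹ ∈ commutator X := by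
    rw [← Abelianization.ker_of, MonoidHom.mem_ker, map_mul, map_inv, this, mul_inv_cancel]
  exact ⟨_, h1, by simp⟩

theorem isSolvable_perm_le_four (n : ℕ) (hn : n ≤ 4) : Group.IsSolvable (Equiv.Perm (Fin n)) :=
  haveI := CharTwo.TwoSymFour.solvable_perm_four'
  Group.isSolvable_of_isSolvable_injective (f := Equiv.Perm.viaEmbeddingHom (Fin.castLEEmb hn))
    (Equiv.Perm.viaEmbeddingHom_injective _)

/-- A perfect group centralises a normal 2-subgroup with a cyclic subgroup of index at most two. -/
theorem two_group_le_center [Group.IsPerfect G] {P : Subgroup G} [P.Normal] (hP : IsPGroup 2 P)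
    (h : AlmostCyc G) : P ≤ center G := by
  obtain ⟨C, hCP, hcyc, hi⟩ := h P hP
  haveI := hcyc
  set Q := closure {g : G | ∃ x ∈ P, x * x = g} with hQ
  haveI hQn : Q.Normal := by
    refine ⟨fun g hg a => ?_⟩
    have : Q.map (MulAut.conj a).toMonoidHom ≤ Q := by
      rw [hQ, MonoidHom.map_closure, closure_le]
      rintro _ ⟨g, ⟨x, hx, rfl⟩, rfl⟩
      exact subset_closure ⟨a * x * a⁻¹, ‹P.Normal›.conj_mem x hx a, by simp⟩
    exact this ⟨g, hg, by simp⟩
  have hQC : Q ≤ C := by
    rw [hQ, closure_le]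
    rintro _ ⟨x, hx, rfl⟩
    rcases (Nat.dvd_prime Nat.prime_two).1 hi with e | e
    · exact mul_mem (relIndex_eq_one.1 e hx) (relIndex_eq_one.1 e hx)
    · exact (mul_mem_iff_of_index_two (H := C.subgroupOf P) e (a := ⟨x, hx⟩) (b := ⟨x, hx⟩)).2 Iff.rfl
  have hQP : Q ≤ P := hQC.trans hCP
  have hQcyc : IsCyclic Q := isCyclic_of_injective (inclusion hQC) (inclusion_injective _)
  refine centralize_of_chain (C := Q) hQP hQcyc fun g x hx => ?_
  -- the orbit set `P / Q` has at most four points
  have hidx : Q.relIndex P ≤ 4 := by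
    have h1 : Q.relIndex C ≤ 2 := by
      obtain ⟨c, hc⟩ := hcyc.exists_generator
      have hcc : (c : G) * c ∈ Q := subset_closure ⟨c, hCP c.2, rfl⟩
      have : ∀ z : C, z ∈ Q.subgroupOf C ∨ z * c⁻¹ ∈ Q.subgroupOf C := fun z => by
        obtain ⟨i, rfl⟩ := hc z
        rcases Int.even_or_odd i with ⟨k, rfl⟩ | ⟨k, rfl⟩
        · left
          show c ^ (k + k) ∈ Q.subgroupOf C
          rw [← two_mul, zpow_mul, zpow_two]
          exact zpow_mem (show c * c ∈ Q.subgroupOf C from hcc) k
        · right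
          show c ^ (2 * k + 1) * c⁻¹ ∈ Q.subgroupOf C
          rw [zpow_add, zpow_one, mul_inv_cancel_right, zpow_mul, zpow_two]
          exact zpow_mem (show c * c ∈ Q.subgroupOf C from hcc) k
      rw [relIndex]
      refine (Nat.card_le_card_of_surjective (fun b : Bool => if b then (QuotientGroup.mk c : C ⧸ Q.subgroupOf C) else QuotientGroup.mk 1) fun z => ?_).trans_eq (by rw [Nat.card_eq_fintype_card, Fintype.card_bool])
      obtain ⟨z, rfl⟩ := QuotientGroup.mk_surjective z
      rcases this z with e | e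
      · exact ⟨false, (QuotientGroup.eq.2 (by simpa using e)).trans rfl⟩
      · refine ⟨true, QuotientGroup.eq.2 ?_⟩
        rw [mul_comm' (c⁻¹) z]; exact e
    rw [← relIndex_mul_relIndex Q C P hQC hCP]
    exact Nat.mul_le_mul h1 (Nat.le_of_dvd (by norm_num) hi)
  let act : G →* Equiv.Perm (P ⧸ Q.subgroupOf P) :=
    MonoidHom.mk' (fun g => (QuotientGroup.congr (Q.subgroupOf P) (Q.subgroupOf P)
      (MulAut.conjNormal g) (by
        ext y
        rw [map_equiv_eq_comap_symm, mem_comap, mem_subgroupOf, mem_subgroupOf]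
        show ((MulAut.conjNormal g).symm y : G) ∈ Q ↔ (y : G) ∈ Q
        rw [MulAut.conjNormal_symm_apply]
        exact ⟨fun e => by simpa [mul_assoc] using hQn.conj_mem _ e g, fun e => by
          simpa using hQn.conj_mem _ e g⁻¹⟩)).toEquiv) fun a b => Equiv.ext fun z => by
      induction z using QuotientGroup.induction_on with | _ z =>
      show (QuotientGroup.mk (MulAut.conjNormal (a * b) z) : P ⧸ Q.subgroupOf P) =
        QuotientGroup.mk (MulAut.conjNormal a (MulAut.conjNormal b z))
      rw [map_mul]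
      rfl
  haveI : Group.IsSolvable (Equiv.Perm (P ⧸ Q.subgroupOf P)) := by
    haveI := isSolvable_perm_le_four (Nat.card (P ⧸ Q.subgroupOf P)) hidx
    exact Group.isSolvable_of_isSolvable_injective
      (f := (Equiv.permCongrHom (Finite.equivFin (P ⧸ Q.subgroupOf P))).toMonoidHom)
      (Equiv.permCongrHom _).injective
  have := Equiv.congr_fun (hom_eq_one act g) (QuotientGroup.mk (⟨x, hx⟩ : P)⁻¹)
  simp only [act, MonoidHom.mk'_apply, Equiv.Perm.coe_one, id_eq] at this
  have h1 := (QuotientGroup.eq (s := Q.subgroupOf P)).1 this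
  rw [mem_subgroupOf] at h1
  simpa [mul_assoc] using h1

end Cfsg.Agent.GW
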