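import Cfsg.Agent.GW.CycEightE
import Cfsg.Agent.S0508
import Cfsg.Agent.PSolv.Cores
import Cfsg.Agent.Linear.SmallIso
import Cfsg.Agent.SmallPSL.Projective

/-!
# Simple groups with dihedral Sylow 2-subgroups and cyclic odd Sylow subgroups are `PSL₂(p)`
-/

set_option autoImplicit false
set_option linter.style.haveILetI false
set_option linter.unusedSectionVars false

open Cfsg

namespace Cfsg.Agent.GW

open Cfsg.Agent.TwoGroups Cfsg.Agent.TwoFusion Subgroup

universe u

theorem four_of_commuting {G : Type*} [Group G] [Finite G] {a b : G} (ha : a * a = 1) (hb : b * b = 1)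
    (ha1 : a ≠ 1) (hb1 : b ≠ 1) (hab : a ≠ b) (hc : a * b = b * a) :
    ∃ U : Subgroup G, IsFour U ∧ a ∈ U ∧ b ∈ U ∧ ∀ x, x ∈ U ↔ x = 1 ∨ x = a ∨ x = b ∨ x = a * b := by
  have a1 : ∀ x, a * (a * x) = x := fun x => by rw [← mul_assoc, ha, one_mul]
  have a2 : ∀ x, b * (b * x) = x := fun x => by rw [← mul_assoc, hb, one_mul]
  have a3 : ∀ x, b * (a * x) = a * (b * x) := fun x => by rw [← mul_assoc, ← hc, mul_assoc]
  let U : Subgroup G :=
    { carrier := {g | g = 1 ∨ g = a ∨ g = b ∨ g = a * b}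
      one_mem' := Or.inl rfl
      mul_mem' := by
        rintro x y (hx | hx | hx | hx) (hy | hy | hy | hy) <;>
          simp [hx, hy, mul_assoc, ha, hb, a1, a2, a3, ← hc]
      inv_mem' := by
        rintro x (hx | hx | hx | hx) <;>
          simp [hx, mul_inv_rev, inv_eq_of_mul_eq_one_right ha, inv_eq_of_mul_eq_one_right hb, ← hc] }
  have n3 : a * b ≠ 1 := fun q => hab (by rw [← a1 b, q, mul_one])
  have n4 : a * b ≠ a := fun q => hb1 (mul_left_cancel (q.trans (mul_one a).symm))
  have n5 : a * b ≠ b := fun q => ha1 (mul_right_cancel (q.trans (one_mul b).symm))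
  refine ⟨U, ⟨?_, ?_⟩, Or.inr (Or.inl rfl), Or.inr (Or.inr (Or.inl rfl)), fun x => Iff.rfl⟩
  · rw [show (4 : ℕ) = Nat.card (Fin 4) by simp]
    refine (Nat.card_congr (Equiv.ofBijective (fun i : Fin 4 =>
      (⟨![1, a, b, a * b] i, by fin_cases i <;> simp [U]⟩ : U)) ⟨?_, ?_⟩)).symm
    · intro i i' hij
      have hij' : ![1, a, b, a * b] i = ![1, a, b, a * b] i' := congrArg Subtype.val hij
      fin_cases i <;> fin_cases i' <;>
        first
          | rfl
          | exact absurd hij' ha1 | exact absurd hij'.symm ha1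
          | exact absurd hij' hb1 | exact absurd hij'.symm hb1
          | exact absurd hij' hab | exact absurd hij'.symm hab
          | exact absurd hij' n3 | exact absurd hij'.symm n3
          | exact absurd hij' n4 | exact absurd hij'.symm n4
          | exact absurd hij' n5 | exact absurd hij'.symm n5
    · rintro ⟨g, hg⟩
      rcases (show g = 1 ∨ g = a ∨ g = b ∨ g = a * b from hg) with rfl | rfl | rfl | rfl
      exacts [⟨0, rfl⟩, ⟨1, rfl⟩, ⟨2, rfl⟩, ⟨3, rfl⟩]
  · rintro x (hx | hx | hx | hx) <;> simp [hx, mul_assoc, ha, hb, a1, a2, a3, ← hc]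

/-- A field whose special linear group has cyclic odd Sylow subgroups is a prime field. -/
theorem prime_card_of_cyclic_unipotent {F : Type} [Field F] [Fintype F] (hodd : Odd (Fintype.card F))
    (hcyc : ∀ (p : ℕ), p.Prime → p ≠ 2 → ∀ R : Subgroup (Matrix.ProjectiveSpecialLinearGroup (Fin 2) F),
      IsPGroup p R → IsCyclic R) : (Fintype.card F).Prime := by
  classical
  obtain ⟨p, hchar⟩ := CharP.exists F
  haveI := hchar
  obtain ⟨⟨f, hf⟩, hp, hcard⟩ := FiniteField.card F p
  haveI : Fact p.Prime := ⟨hp⟩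
  simp only [PNat.mk_coe] at hcard
  have hp2 : p ≠ 2 := by
    rintro rfl
    rw [hcard] at hodd
    exact (Nat.not_even_iff_odd.2 hodd) ((even_two).pow_of_ne_zero (by omega))
  let uH : Multiplicative F →* Matrix.SpecialLinearGroup (Fin 2) F :=
    { toFun := fun b => ⟨!![1, b.toAdd; 0, 1], by simp [Matrix.det_fin_two]⟩
      map_one' := Subtype.ext (by ext i j; fin_cases i <;> fin_cases j <;> simp)
      map_mul' := fun b c => Subtype.ext (by
        show !![1, (b * c).toAdd; 0, 1] = !![1, b.toAdd; 0, 1] * !![1, c.toAdd; 0, 1]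
        ext i j
        fin_cases i <;> fin_cases j <;>
          simp [Matrix.mul_apply, Matrix.vecMul, dotProduct, Fin.sum_univ_two, add_comm]) }
  let bH : Multiplicative F →* Matrix.ProjectiveSpecialLinearGroup (Fin 2) F :=
    (QuotientGroup.mk' (Subgroup.center (Matrix.SpecialLinearGroup (Fin 2) F))).comp uH
  have hinj : Function.Injective bH := by
    rw [← MonoidHom.ker_eq_bot_iff, eq_bot_iff]
    intro b hb
    rw [MonoidHom.mem_ker] at hb
    have hb' : uH b ∈ Subgroup.center (Matrix.SpecialLinearGroup (Fin 2) F) :=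
      (QuotientGroup.eq_one_iff _).1 hb
    rw [Subgroup.mem_center_iff] at hb'
    have h0 := congrArg (fun M : Matrix.SpecialLinearGroup (Fin 2) F => (M : Matrix (Fin 2) (Fin 2) F) 0 0)
      (hb' ⟨!![1, 0; 1, 1], by simp [Matrix.det_fin_two]⟩)
    change (((!![1, 0; 1, 1] : Matrix (Fin 2) (Fin 2) F) * (!![1, b.toAdd; 0, 1] : Matrix (Fin 2) (Fin 2) F) :
        Matrix (Fin 2) (Fin 2) F)) 0 0
      = (((!![1, b.toAdd; 0, 1] : Matrix (Fin 2) (Fin 2) F) * (!![1, 0; 1, 1] : Matrix (Fin 2) (Fin 2) F) :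
        Matrix (Fin 2) (Fin 2) F)) 0 0 at h0
    simp [Matrix.mul_apply, Fin.sum_univ_two] at h0
    rw [Subgroup.mem_bot]
    exact toAdd_eq_zero.1 h0
  have hR : IsPGroup p bH.range := IsPGroup.of_card (n := f) (by
    rw [← Nat.card_congr (MonoidHom.ofInjective hinj).toEquiv,
      Nat.card_congr Multiplicative.toAdd, Nat.card_eq_fintype_card, hcard])
  haveI := hcyc p hp hp2 _ hR
  haveI : IsCyclic (Multiplicative F) :=
    isCyclic_of_injective (MonoidHom.ofInjective hinj).toMonoidHom (MonoidHom.ofInjective hinj).injective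
  obtain ⟨g, hg⟩ := IsCyclic.exists_ofOrder_eq_natCard (α := Multiplicative F)
  have h1 : g ^ p = 1 := by
    refine Multiplicative.toAdd.injective ?_
    rw [toAdd_pow, toAdd_one, nsmul_eq_mul, CharP.cast_eq_zero, zero_mul]
  have h2 := orderOf_dvd_of_pow_eq_one h1
  rw [hg, Nat.card_congr Multiplicative.toAdd, Nat.card_eq_fintype_card, hcard] at h2
  have h3 : p ^ f ∣ p ^ 1 := by rwa [pow_one]
  have := (Nat.pow_dvd_pow_iff_le_right hp.one_lt).1 h3
  rw [hcard, show f = 1 by omega, pow_one]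
  exact hp

namespace CycHyp

variable {G : Type u} [Group G] [Finite G] {S : Sylow 2 G} {n : ℕ} (h : CycHyp S n)
include h

/-- The centralizer of a four-group has no odd part. -/
theorem four_no_odd {V : Subgroup G} (hV : IsFour V) {x : G} (hx : x ∈ centralizer (V : Set G))
    (ho : Odd (orderOf x)) : x = 1 := by
  haveI := Fintype.ofFinite G
  by_cases h4 : Nat.card (S : Subgroup G) = 4
  · exact h.four_trivial h4 hV hx ho
  · have := h.card_S
    have := h.hn
    exact h.eight_trivial (by omega) hV hx ho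

theorem inverts_oc {t : G} (ht : orderOf t = 2) {a : G} (haa : a * a = 1) (ha1 : a ≠ 1) (hat : a ≠ t)
    (hc : a * t = t * a) : (∀ y ∈ oc t, a * y * a⁻¹ = y⁻¹) ∧ IsCyclic (oc t) := by
  have htt : t * t = 1 := by rw [← pow_two, ← ht, pow_orderOf_eq_one]
  have ht1 : t ≠ 1 := fun e => by rw [e, orderOf_one] at ht; norm_num at ht
  obtain ⟨-, hodd, -⟩ := h.oc_spec ht
  have han : a ∈ normalizer (oc t : Set G) :=
    h.centralizer_le_normalizer_oc ht (mem_centralizer_singleton_iff.2 hc)
  obtain ⟨D, hD, -, -, hinv, -, -, hsup⟩ := h.split_involution hodd haa han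
  have hfix : oc t ⊓ centralizer ({a} : Set G) = ⊥ := by
    rw [eq_bot_iff]
    rintro x ⟨hx, hxa⟩
    obtain ⟨U, hU, -, -, hUmem⟩ := four_of_commuting haa htt ha1 ht1 hat hc
    refine mem_bot.2 (h.four_no_odd hU (mem_centralizer_iff.2 fun v hv => ?_) ((h.mem_oc ht).1 hx).1)
    have e1 := (mem_centralizer_singleton_iff.1 hxa).symm
    have e2 := ((h.mem_oc ht).1 hx).2.symm
    rcases (hUmem v).1 hv with q | q | q | q <;> rw [q]
    · simp
    · exact e1
    · exact e2
    · rw [mul_assoc, e2, ← mul_assoc, e1, mul_assoc]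
  rw [hfix, sup_bot_eq] at hsup
  subst hsup
  exact ⟨fun y hy => by rw [inv_eq_of_mul_eq_one_right haa]; exact hinv y hy, hD⟩

theorem sylow_pm {t : G} (ht : orderOf t = 2) (htS : t ∈ (S : Subgroup G))
    (htZ : ∀ s ∈ (S : Subgroup G), s * t = t * s) :
    ∀ s ∈ (S : Subgroup G), (∀ y ∈ oc t, s * y * s⁻¹ = y) ∨ (∀ y ∈ oc t, s * y * s⁻¹ = y⁻¹) := by
  obtain ⟨e⟩ := h.hS
  obtain ⟨U, hUS, hU⟩ := TwoFusion.exists_four_le h.hn e
  obtain ⟨-, hsq⟩ := four_in_two_group e S.isPGroup' hU hUS
  have hinv : ∀ a ∈ (S : Subgroup G), a * a = 1 →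
      (∀ y ∈ oc t, a * y * a⁻¹ = y) ∨ (∀ y ∈ oc t, a * y * a⁻¹ = y⁻¹) := by
    intro a ha haa
    by_cases ha1 : a = 1
    · exact Or.inl fun y _ => by simp [ha1]
    by_cases hat : a = t
    · exact Or.inl fun y hy => by
        rw [hat, ← ((h.mem_oc ht).1 hy).2, mul_inv_cancel_right]
    exact Or.inr (h.inverts_oc ht haa ha1 hat (htZ a ha)).1
  intro s hs
  rcases hsq s hs with q | ⟨u', hu', q⟩
  · exact hinv s hs q
  · have h1 := hinv _ (mul_mem hs (hUS hu')) q
    have h2 := hinv u' (hUS hu') (hU.2 u' hu')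
    have key : ∀ y, s * y * s⁻¹ = s * u' * (u'⁻¹ * y * u'⁻¹⁻¹) * (s * u')⁻¹ := fun y => by group
    have hu'' : u'⁻¹ = u' := inv_eq_of_mul_eq_one_right (hU.2 u' hu')
    rcases h1 with h1 | h1 <;> rcases h2 with h2 | h2
    · exact Or.inl fun y hy => by rw [key, hu'', h2 y hy, h1 y hy]
    · exact Or.inr fun y hy => by rw [key, hu'', h2 y hy, h1 _ (inv_mem hy)]
    · exact Or.inr fun y hy => by rw [key, hu'', h2 y hy, h1 y hy]
    · exact Or.inl fun y hy => by rw [key, hu'', h2 y hy, h1 _ (inv_mem hy), inv_inv]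

/-- The centralizer of an element of prime order in the core lies in the centralizer of the involution. -/
theorem centralizer_le_of_mem_oc {t a y : G} (ht : orderOf t = 2) (haa : a * a = 1) (ha1 : a ≠ 1)
    (hat : a ≠ t) (hc : a * t = t * a) (hy : y ∈ oc t) (hy1 : y ≠ 1) :
    centralizer ({y} : Set G) ≤ centralizer ({t} : Set G) ∧
      ∀ i ∈ centralizer ({y} : Set G), i * i = 1 → i ≠ 1 → i = t := by
  classical
  haveI : Fact (Nat.Prime 2) := ⟨Nat.prime_two⟩
  obtain ⟨hinv, hcyc⟩ := h.inverts_oc ht haa ha1 hat hc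
  obtain ⟨e⟩ := h.hS
  set C := centralizer ({y} : Set G) with hC
  have htt : t * t = 1 := by rw [← pow_two, ← ht, pow_orderOf_eq_one]
  have ht1 : t ≠ 1 := fun q => by rw [q, orderOf_one] at ht; norm_num at ht
  have htC : t ∈ C := mem_centralizer_singleton_iff.2 ((h.mem_oc ht).1 hy).2.symm
  have hyo := ((h.mem_oc ht).1 hy).1
  have hcomm : ∀ i ∈ C, ∀ j ∈ C, i * i = 1 → j * j = 1 → i ≠ 1 → j ≠ 1 → i * j = j * i → i = j := by
    intro i hi j hj hii hjj hi1 hj1 hij
    by_contra hne
    obtain ⟨U, hU, -, -, hUmem⟩ := four_of_commuting hii hjj hi1 hj1 hne hij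
    refine hy1 (h.four_no_odd hU (mem_centralizer_iff.2 fun v hv => ?_) hyo)
    have e1 : i * y = y * i := mem_centralizer_singleton_iff.1 hi
    have e2 : j * y = y * j := mem_centralizer_singleton_iff.1 hj
    rcases (hUmem v).1 hv with q | q | q | q <;> rw [q]
    · simp
    · exact e1
    · exact e2
    · rw [mul_assoc, e2, ← mul_assoc, e1, mul_assoc]
  obtain ⟨P, hP⟩ := (IsPGroup.of_card (G := zpowers (⟨t, htC⟩ : C)) (n := 1)
    (by rw [Nat.card_zpowers, orderOf_mk, ht, pow_one])).exists_le_sylow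
  have htP : (⟨t, htC⟩ : C) ∈ (P : Subgroup C) := hP (mem_zpowers _)
  -- `t` is the only involution of `P`
  have honly : ∀ x ∈ (P : Subgroup C), x * x = 1 → x ≠ 1 → x = (⟨t, htC⟩ : C) := by
    intro x hx hxx hx1
    set R := (P : Subgroup C).map C.subtype with hR
    have hR2 : IsPGroup 2 R := P.isPGroup'.map _
    -- a central involution of the two-group `R`
    obtain ⟨f, hfi⟩ := exists_embed e hR2
    haveI : Nontrivial R := ⟨⟨⟨t, ⟨_, htP, rfl⟩⟩, 1, fun q => ht1 (congrArg Subtype.val q)⟩⟩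
    haveI := hR2.center_nontrivial
    obtain ⟨k, hk⟩ := IsPGroup.iff_card.1 (hR2.to_subgroup (center R))
    have hk0 : k ≠ 0 := by
      rintro rfl
      rw [pow_zero, Nat.card_eq_one_iff_unique] at hk
      exact not_subsingleton _ hk.1
    obtain ⟨⟨⟨zc, hzR⟩, hzc⟩, hzo⟩ := exists_prime_orderOf_dvd_card' (G := center R) 2
      (hk ▸ dvd_pow_self 2 hk0)
    rw [orderOf_mk, orderOf_mk] at hzo
    have hzC : zc ∈ C := map_subtype_le _ hzR
    have hzz : zc * zc = 1 := by rw [← pow_two, ← hzo, pow_orderOf_eq_one]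
    have hz1 : zc ≠ 1 := fun q => by rw [q, orderOf_one] at hzo; norm_num at hzo
    have hzcomm : ∀ w ∈ R, w * zc = zc * w := fun w hw =>
      congrArg Subtype.val (Subgroup.mem_center_iff.1 hzc ⟨w, hw⟩)
    have hxx' : (x : G) * x = 1 := congrArg Subtype.val hxx
    have hx1' : (x : G) ≠ 1 := fun q => hx1 (Subtype.ext q)
    have r1 := hcomm x x.2 zc hzC hxx' hzz hx1' hz1 (hzcomm _ ⟨x, hx, rfl⟩)
    have r2 := hcomm t htC zc hzC htt hzz ht1 hz1 (hzcomm _ ⟨_, htP, rfl⟩)
    exact Subtype.ext (r1.trans r2.symm)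
  have hPcyc : IsCyclic (P : Subgroup C) := by
    set R := (P : Subgroup C).map C.subtype with hR
    obtain ⟨f, hfi⟩ := exists_embed e (R := R) (P.isPGroup'.map C.subtype)
    have htR : t ∈ R := ⟨_, htP, rfl⟩
    suffices hcR : IsCyclic R by
      haveI := hcR
      exact isCyclic_of_surjective _
        ((P : Subgroup C).equivMapOfInjective C.subtype C.subtype_injective).symm.surjective
    haveI := neZero_of_equiv e
    by_cases hsr : ∃ (x : R) (i : ZMod n), f x = DihedralGroup.sr i
    · -- `R` has order two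
      obtain ⟨x, i, hxi⟩ := hsr
      have hxx : x * x = 1 := hfi (by rw [map_mul, hxi, DihedralGroup.sr_mul_self, map_one])
      have hx1 : x ≠ 1 := fun q => by
        rw [q, map_one, DihedralGroup.one_def] at hxi; cases hxi
      obtain ⟨xx, hxx', hxe⟩ := x.2
      have hxt : x = ⟨t, htR⟩ := by
        have h1 := honly xx hxx' (Subtype.ext (by
            have := congrArg Subtype.val hxx
            simp only [Subgroup.coe_mul, OneMemClass.coe_one, ← hxe] at this ⊢
            exact this))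
          (fun q => hx1 (Subtype.ext (by rw [← hxe, q]; rfl)))
        exact Subtype.ext (by rw [← hxe, h1]; rfl)
      have hall : ∀ y : R, y = 1 ∨ y = x := by
        intro y
        rcases hfy : f y with j | j
        · by_cases hj : j = 0
          · left; exact hfi (by rw [hfy, hj, map_one, DihedralGroup.one_def])
          · exfalso
            -- `y * x` is another reflection
            have hyx : f (y * x) = DihedralGroup.sr (i - j) := by
              rw [map_mul, hfy, hxi, DihedralGroup.r_mul_sr]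
            have hyx2 : y * x * (y * x) = 1 := hfi (by rw [map_mul, hyx, DihedralGroup.sr_mul_self, map_one])
            obtain ⟨yy, hyy', hye⟩ := (y * x).2
            have hyx1 : y * x ≠ 1 := fun q => by
              rw [q, map_one, DihedralGroup.one_def] at hyx; cases hyx
            have h1 := honly yy hyy' (Subtype.ext (by
                have := congrArg Subtype.val hyx2
                simp only [Subgroup.coe_mul, OneMemClass.coe_one] at this hye ⊢
                rw [← hye] at this
                exact this))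
              (fun q => hyx1 (Subtype.ext (by rw [← hye, q]; rfl)))
            have hyxe : y * x = x := Subtype.ext (by rw [← hye, h1, hxt]; rfl)
            rw [mul_eq_right] at hyxe
            rw [hyxe, map_one, DihedralGroup.one_def, DihedralGroup.r.injEq] at hfy
            exact hj hfy.symm
        · right
          have hyy : y * y = 1 := hfi (by rw [map_mul, hfy, DihedralGroup.sr_mul_self, map_one])
          have hy1' : y ≠ 1 := fun q => by
            rw [q, map_one, DihedralGroup.one_def] at hfy; cases hfy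
          obtain ⟨yy, hyy', hye⟩ := y.2
          have h1 := honly yy hyy' (Subtype.ext (by
              have := congrArg Subtype.val hyy
              simp only [Subgroup.coe_mul, OneMemClass.coe_one, ← hye] at this ⊢
              exact this))
            (fun q => hy1' (Subtype.ext (by rw [← hye, q]; rfl)))
          rw [hxt]; exact Subtype.ext (by rw [← hye, h1]; rfl)
      refine ⟨⟨x, fun y => ?_⟩⟩
      rcases hall y with q | q
      · exact ⟨0, by simp [q]⟩
      · exact ⟨1, by simp [q]⟩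
    · push Not at hsr
      let g : R →* zpowers (DihedralGroup.r 1 : DihedralGroup n) := f.codRestrict _ fun x => by
        rcases hfx : f x with j | j
        · exact ⟨(j.val : ℤ), by simp⟩
        · exact absurd hfx (hsr x j)
      exact isCyclic_of_injective g fun a b q => hfi (congrArg Subtype.val q)
  have hnpc : HasNormalPComplement 2 C := by
    refine Transfer.hasNormalPComplement_of_normalizer_le_centralizer P fun g hg => ?_
    haveI := hPcyc
    obtain ⟨⟨z0, hz0⟩, hgen⟩ := IsCyclic.exists_generator (α := (P : Subgroup C))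
    have hgen' : ∀ x ∈ (P : Subgroup C), ∃ i : ℤ, z0 ^ i = x := fun x hx => by
      obtain ⟨i, hi⟩ := Subgroup.mem_zpowers_iff.mp (hgen ⟨x, hx⟩)
      exact ⟨i, congrArg Subtype.val hi⟩
    obtain ⟨s, hs⟩ := FGSev.pElem_of_mem P.2 hz0
    obtain ⟨tt, htt'⟩ := hgen' _ htP
    set m := Element.pComplPart 2 g with hm
    have hmN : m ∈ normalizer ((P : Subgroup C) : Set C) :=
      zpowers_le.mpr hg (Element.pComplPart_mem_zpowers 2 g)
    obtain ⟨e', he'⟩ := hgen' (m * z0 * m⁻¹) ((Subgroup.mem_normalizer_iff.mp hmN z0).mp hz0)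
    have hfix : m * ⟨t, htC⟩ * m⁻¹ = ⟨t, htC⟩ := by
      refine honly _ ((Subgroup.mem_normalizer_iff.mp hmN _).mp htP) ?_ fun q => ht1 ?_
      · rw [conj_mul, show (⟨t, htC⟩ : C) * ⟨t, htC⟩ = 1 from Subtype.ext htt]; group
      · rw [conj_eq_one_iff] at q; exact congrArg Subtype.val q
    have hmz : Commute m z0 := FGSev.commute_of_fix_nontrivial hs
      (Element.coprime_orderOf_pComplPart Nat.prime_two g) he'.symm (t := tt)
      (by rw [htt']; exact fun q => ht1 (congrArg Subtype.val q)) (by rw [htt', hfix])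
    have hgP : Element.pPart 2 g ∈ (P : Subgroup C) := by
      have hz' := (FGSev.pElem_iff_isPGroup 2 _).mp ⟨_, Element.orderOf_pPart_eq_pow Nat.prime_two g⟩
      have hle := hz'.inf_normalizer_sylow P
      exact (hle.le ⟨mem_zpowers _, zpowers_le.mpr hg (Element.pPart_mem_zpowers 2 g)⟩).2
    obtain ⟨j, hj⟩ := hgen' _ hgP
    refine Subgroup.mem_centralizer_iff.mpr fun x hx => ?_
    obtain ⟨i, rfl⟩ := hgen' x hx
    have : Commute g z0 := by
      rw [← Element.pPart_mul_pComplPart 2 g, ← hj]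
      exact ((Commute.refl z0).zpow_left j).mul_left hmz
    exact (this.zpow_right i).eq.symm
  obtain ⟨K, hKn, hKo, hcomp, -, hKmem⟩ := DihBlock.exists_split hnpc P
  set L := K.map C.subtype with hL
  have hLodd : Odd (Nat.card L) := by
    rw [hL, card_map_of_injective C.subtype_injective]
    exact Nat.not_even_iff_odd.1 fun q => hKo (even_iff_two_dvd.1 q)
  have hmemL : ∀ x, x ∈ L ↔ x ∈ C ∧ Odd (orderOf x) := by
    intro x
    constructor
    · rintro ⟨k, hk, rfl⟩
      have hkL : C.subtype k ∈ L := ⟨k, hk, rfl⟩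
      exact ⟨k.2, hLodd.of_dvd_nat (Subgroup.orderOf_mk _ hkL ▸ _root_.orderOf_dvd_natCard (⟨_, hkL⟩ : L))⟩
    · rintro ⟨hxC, ho⟩
      exact ⟨⟨x, hxC⟩, hKmem _ (by rw [orderOf_mk]; exact ho.not_two_dvd_nat), rfl⟩
  have hnL : ∀ g : G, g * y * g⁻¹ ∈ zpowers y → g⁻¹ * y * g ∈ zpowers y → g ∈ normalizer (L : Set G) := by
    intro g hg hg'
    have key : ∀ g : G, g⁻¹ * y * g ∈ zpowers y → ∀ x ∈ L, g * x * g⁻¹ ∈ L := by
      intro g hg x hx
      obtain ⟨hxC, hxo⟩ := (hmemL x).1 hx
      obtain ⟨i, hi⟩ := hg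
      simp only at hi
      refine (hmemL _).2 ⟨?_, odd_orderOf_conj hxo⟩
      have hxy : Commute x y := mem_centralizer_singleton_iff.1 hxC
      rw [hC, mem_centralizer_singleton_iff]
      calc g * x * g⁻¹ * y = g * (x * (g⁻¹ * y * g)) * g⁻¹ := by group
        _ = g * (g⁻¹ * y * g * x) * g⁻¹ := by rw [← hi, (hxy.zpow_right i).eq]
        _ = y * (g * x * g⁻¹) := by group
    rw [Subgroup.mem_normalizer_iff]
    intro x
    refine ⟨key g hg' x, fun hx => ?_⟩
    have := key g⁻¹ (by simpa using hg) _ hx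
    simpa [mul_assoc] using this
  have hai : a⁻¹ = a := inv_eq_of_mul_eq_one_right haa
  have htn : t ∈ normalizer (L : Set G) := by
    have e1 : t * y = y * t := mem_centralizer_singleton_iff.1 htC
    refine hnL t ?_ ?_
    · rw [e1, mul_inv_cancel_right]; exact mem_zpowers y
    · rw [mul_assoc, ← e1, inv_mul_cancel_left]; exact mem_zpowers y
  have han : a ∈ normalizer (L : Set G) := by
    have e1 := hinv y hy
    rw [hai] at e1
    refine hnL a ?_ ?_ <;> rw [hai, e1] <;> exact inv_mem (mem_zpowers y)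
  have hOL : oc t ≤ L := fun x hx => (hmemL x).2 ⟨mem_centralizer_singleton_iff.2 (by
    letI := IsCyclic.commGroup (α := oc t)
    exact congrArg Subtype.val (mul_comm (⟨x, hx⟩ : oc t) ⟨y, hy⟩)), ((h.mem_oc ht).1 hx).1⟩
  have htfix : ∀ x ∈ L, t * x = x * t := by
    refine h.centralizes_of_all_fixed hLodd htt htn fun q hq hqL => ?_
    haveI : Fact q.Prime := ⟨hq⟩
    have hq2 : q ≠ 2 := fun q' => hLodd.not_two_dvd_nat (q' ▸ hqL)
    have fromOc : ∀ i : G, i * i = 1 → i ≠ 1 → ∀ x ∈ L, orderOf x = q → i * x = x * i →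
        ∃ x ∈ L, orderOf x = q ∧ t * x = x * t := by
      intro i hii hi1 x _ hxo hix
      have hio : orderOf i = 2 := orderOf_eq_prime (by rw [pow_two, hii]) hi1
      have hxI : x ∈ oc i := (h.mem_oc hio).2 ⟨hxo ▸ hq.odd_of_ne_two hq2, hix.symm⟩
      have hd : q ∣ Nat.card (oc t) := by
        rw [h.card_oc_eq ht hio, ← hxo, ← Subgroup.orderOf_mk x hxI]
        exact _root_.orderOf_dvd_natCard _
      obtain ⟨⟨x', hx'⟩, hx'o⟩ := exists_prime_orderOf_dvd_card' q hd
      rw [orderOf_mk] at hx'o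
      exact ⟨x', hOL hx', hx'o, ((h.mem_oc ht).1 hx').2.symm⟩
    rcases h.fixed_or_inverted hLodd htt htn hq hqL with q1 | ⟨y1, hy1, hy1o, hy1t⟩
    · exact q1
    rcases h.fixed_or_inverted hLodd haa han hq hqL with ⟨x, hx, hxo, hxa⟩ | ⟨y2, hy2, hy2o, hy2a⟩
    · exact fromOc a haa ha1 x hx hxo hxa
    · obtain ⟨i, rfl⟩ := (h.inverted_unique hLodd htt htn hq hq2 hy1 hy1o hy1t).2 y2 hy2 hy2o
      simp only at hy2a hy2o hy2 ⊢
      have hti : t⁻¹ = t := inv_eq_of_mul_eq_one_right htt
      have hyt : t * y1 ^ i * t = (y1 ^ i)⁻¹ := by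
        rw [show t * y1 ^ i * t = t * y1 ^ i * t⁻¹ by rw [hti], ← conj_zpow, hti, hy1t, inv_zpow]
      have hat2 : a * t * (a * t) = 1 := by
        rw [mul_assoc, ← mul_assoc t, ← hc, mul_assoc a t t, htt, mul_one, haa]
      refine fromOc (a * t) hat2 (fun q' => hat ?_) _ hy2 hy2o ?_
      · rw [eq_inv_of_mul_eq_one_left q', hti]
      · have hfix2 : a * t * y1 ^ i * (a * t) = y1 ^ i := by
          calc a * t * y1 ^ i * (a * t) = a * (t * y1 ^ i * (t * a)) := by
                rw [show a * t * y1 ^ i * (a * t) = a * (t * y1 ^ i * (a * t)) by group, hc]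
            _ = a * (t * y1 ^ i * t) * a := by group
            _ = (a * y1 ^ i * a)⁻¹ := by rw [hyt, mul_inv_rev, mul_inv_rev, hai, mul_assoc]
            _ = y1 ^ i := by rw [hy2a, inv_inv]
        calc a * t * y1 ^ i = a * t * y1 ^ i * (a * t * (a * t)) := by rw [hat2, mul_one]
          _ = y1 ^ i * (a * t) := by rw [← mul_assoc, hfix2]
  have hle : C ≤ centralizer ({t} : Set G) := by
    intro g hg
    obtain ⟨⟨p0, k0⟩, hd⟩ := hcomp.2 (⟨g, hg⟩ : C)
    have hd' : ((p0 : C) : G) * ((k0 : C) : G) = g := congrArg Subtype.val hd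
    rw [← hd']
    refine mul_mem (mem_centralizer_singleton_iff.2 ?_)
      (mem_centralizer_singleton_iff.2 (htfix _ ⟨_, k0.2, rfl⟩).symm)
    letI := hPcyc
    letI := IsCyclic.commGroup (α := (P : Subgroup C))
    exact congrArg (fun x : (P : Subgroup C) => ((x : C) : G)) (mul_comm p0 ⟨_, htP⟩)
  refine ⟨hle, fun i hi hii hi1 => ?_⟩
  exact hcomm i hi t htC hii htt hi1 ht1 (mem_centralizer_singleton_iff.1 (hle hi))

/-- The Suzuki case of the Gorenstein-Walter theorem. -/
theorem exists_psl : ∃ (p : ℕ) (_ : Fact p.Prime), 5 ≤ p ∧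
    Nonempty (G ≃* Matrix.ProjectiveSpecialLinearGroup (Fin 2) (ZMod p)) := by
  classical
  haveI : Fact (Nat.Prime 2) := ⟨Nat.prime_two⟩
  haveI := h.simple
  obtain ⟨e⟩ := h.hS
  obtain ⟨U, hUS, hU⟩ := TwoFusion.exists_four_le h.hn e
  obtain ⟨⟨t, htU, ht1, htZ⟩, hsq⟩ := four_in_two_group e S.isPGroup' hU hUS
  have htt := hU.2 t htU
  have ht : orderOf t = 2 := orderOf_eq_prime (by rw [pow_two, htt]) ht1
  have htS := hUS htU
  obtain ⟨a, haU, ha1, hat⟩ : ∃ a ∈ U, a ≠ 1 ∧ a ≠ t := by
    by_contra hc; push Not at hc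
    have := Nat.card_le_card_of_injective (fun v : U => decide ((v : G) = 1)) (fun a b hab => by
      simp only [decide_eq_decide] at hab
      by_cases ha : (a : G) = 1
      · exact Subtype.ext (ha.trans (hab.1 ha).symm)
      · exact Subtype.ext ((hc a a.2 ha).trans (hc b b.2 (fun q => ha (hab.2 q))).symm))
    rw [hU.1, Nat.card_eq_fintype_card, Fintype.card_bool] at this
    omega
  have haa := hU.2 a haU
  have haS := hUS haU
  have hc : a * t = t * a := hU.comm haU htU
  obtain ⟨hinv, hcyc⟩ := h.inverts_oc ht haa ha1 hat hc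
  obtain ⟨hmem, hodd, -⟩ := h.oc_spec ht
  set C := centralizer ({t} : Set G) with hC
  have hO : oc t = (oddCore C).map C.subtype := by
    have hle : oc t ≤ C := fun x hx => mem_centralizer_singleton_iff.2 ((hmem x).1 hx).2
    have hn : ((oc t).subgroupOf C).Normal :=
      normal_subgroupOf_of_le_normalizer (h.centralizer_le_normalizer_oc ht)
    refine le_antisymm ?_ ?_
    · have hcop : (Nat.card ((oc t).subgroupOf C)).Coprime 2 := by
        rw [Nat.card_congr (subgroupOfEquivOfLe hle).toEquiv]; exact hodd.coprime_two_right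
      exact fun x hx => ⟨⟨x, hle hx⟩, PSolv.le_pPrimeCore hn hcop hx, rfl⟩
    · rintro _ ⟨x, hx, rfl⟩
      refine (hmem _).2 ⟨?_, mem_centralizer_singleton_iff.1 x.2⟩
      rw [coe_subtype, Subgroup.orderOf_coe]
      exact Nat.coprime_two_right.1
        (Element.coprime_orderOf_of_mem (PSolv.coprime_card_pPrimeCore 2 C) hx)
  have hpm := h.sylow_pm ht htS htZ
  set O := oc t with hOdef
  have hcen : ∀ s : G, (∀ y ∈ O, s * y * s⁻¹ = y) ↔ s ∈ centralizer (O : Set G) := fun s => by
    rw [mem_centralizer_iff]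
    exact ⟨fun q y hy => (mul_inv_eq_iff_eq_mul.1 (q y hy)).symm, fun q y hy => mul_inv_eq_iff_eq_mul.2 (q y hy).symm⟩
  obtain ⟨F, _, _, hF, ⟨φ⟩⟩ := S0508.result S n h.hn h.hS t ht htS htZ O hO (fun hne => by
    obtain ⟨y, hy, hy1⟩ : ∃ y ∈ O, y ≠ 1 := by
      by_contra hc'; push Not at hc'; exact hne (eq_bot_iff.2 fun y hy => mem_bot.2 (hc' y hy))
    have hyy : y⁻¹ ≠ y := fun q => hy1 (orderOf_eq_one_iff.1 (Nat.eq_one_of_dvd_coprimes
      ((hmem y).1 hy).1.coprime_two_left (orderOf_dvd_of_pow_eq_one (by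
        rw [pow_two]; nth_rewrite 1 [← q]; exact inv_mul_cancel y)) dvd_rfl))
    have hanot : a ∉ centralizer (O : Set G) := fun q => hyy ((hinv y hy).symm.trans ((hcen a).2 q y hy))
    refine ⟨?_, ?_⟩
    · -- no four-group centralises `O`
      haveI := neZero_of_equiv e
      set K := (S : Subgroup G) ⊓ centralizer (O : Set G) with hK
      have honly : ∀ x ∈ K, x * x = 1 → x ≠ 1 → x = t := by
        intro x hx hxx hx1
        by_contra hxt
        have := (h.inverts_oc ht hxx hx1 hxt (htZ x hx.1)).1 y hy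
        exact hyy (this.symm.trans ((hcen x).2 hx.2 y hy))
      by_cases hsr : ∃ (x : K) (i : ZMod n), e ⟨x, x.2.1⟩ = DihedralGroup.sr i
      · obtain ⟨x, i, hxi⟩ := hsr
        have hof : ∀ (w : K) (j : ZMod n), e ⟨w, w.2.1⟩ = DihedralGroup.sr j → (w : G) = t := by
          intro w j hw
          refine honly w w.2 ?_ fun q => ?_
          · exact congrArg Subtype.val (e.injective (a₁ := ⟨w, w.2.1⟩ * ⟨w, w.2.1⟩) (a₂ := 1)
              (by rw [map_mul, hw, DihedralGroup.sr_mul_self, map_one]))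
          · rw [show (⟨(w : G), w.2.1⟩ : (S : Subgroup G)) = 1 from Subtype.ext q, map_one,
              DihedralGroup.one_def] at hw
            cases hw
        refine ⟨⟨x, fun w => ?_⟩⟩
        rcases hw : e ⟨w, w.2.1⟩ with j | j
        · have hwx : e ⟨(w : G) * x, (w * x).2.1⟩ = DihedralGroup.sr (i - j) := by
            rw [show (⟨(w : G) * x, (w * x).2.1⟩ : (S : Subgroup G)) = ⟨w, w.2.1⟩ * ⟨x, x.2.1⟩ from rfl,
              map_mul, hw, hxi, DihedralGroup.r_mul_sr]
          have e1 := hof (w * x) _ hwx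
          have e2 := hof x i hxi
          refine ⟨0, ?_⟩
          simp only [zpow_zero]
          refine Subtype.ext ?_
          rw [Subgroup.coe_mul, e2] at e1
          exact (mul_eq_right.1 e1).symm
        · exact ⟨1, by simp only [zpow_one]; exact Subtype.ext ((hof x i hxi).trans (hof w j hw).symm)⟩
      · push Not at hsr
        let g : K →* zpowers (DihedralGroup.r 1 : DihedralGroup n) :=
          (e.toMonoidHom.comp (inclusion (inf_le_left : K ≤ (S : Subgroup G)))).codRestrict _ fun x => by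
            rcases hfx : e ⟨x, x.2.1⟩ with j | j
            · exact ⟨(j.val : ℤ), by simp [show inclusion (inf_le_left : K ≤ (S : Subgroup G)) x = ⟨x, x.2.1⟩ from rfl, hfx]⟩
            · exact absurd hfx (hsr x j)
        exact isCyclic_of_injective g fun a b q =>
          inclusion_injective (inf_le_left : K ≤ (S : Subgroup G)) (e.injective (congrArg Subtype.val q))
    · rw [relIndex, index_eq_two_iff]
      refine ⟨⟨a, haS⟩, fun b => ?_⟩
      have hb : ∀ b : G, b ∈ (S : Subgroup G) → b ∉ centralizer (O : Set G) → ∀ y ∈ O, b * y * b⁻¹ = y⁻¹ :=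
        fun b hb hbn => (hpm b hb).resolve_left fun q => hbn ((hcen b).1 q)
      by_cases hbc : (b : G) ∈ centralizer (O : Set G)
      · refine Or.inr ⟨⟨b.2, hbc⟩, fun q => hanot ?_⟩
        simpa using mul_mem (inv_mem hbc) (mem_subgroupOf.1 q).2
      · refine Or.inl ⟨⟨mul_mem b.2 haS, (hcen _).1 fun y' hy' => ?_⟩, fun q => hbc q.2⟩
        show (b : G) * a * y' * ((b : G) * a)⁻¹ = y'
        rw [show (b : G) * a * y' * ((b : G) * a)⁻¹ = b * (a * y' * a⁻¹) * (b : G)⁻¹ by group, hinv y' hy',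
          hb b b.2 hbc _ (inv_mem hy'), inv_inv])
    (fun s hs hns => (hpm s hs).resolve_left fun q => hns ((hcen s).1 q))
    (fun Y hYO hY1 g hg => by
      obtain ⟨q, hq, hqd⟩ := Nat.exists_prime_and_dvd (mt Subgroup.card_eq_one.1 hY1)
      haveI : Fact q.Prime := ⟨hq⟩
      obtain ⟨⟨y, hyY⟩, hyo⟩ := exists_prime_orderOf_dvd_card' q hqd
      rw [orderOf_mk] at hyo
      have hy1 : y ≠ 1 := fun q' => by rw [q', orderOf_one] at hyo; exact hq.one_lt.ne hyo
      obtain ⟨hle, honly⟩ := h.centralizer_le_of_mem_oc ht haa ha1 hat hc (hYO hyY) hy1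
      have htY : ∀ v ∈ O, t * v = v * t := fun v hv => ((hmem v).1 hv).2.symm
      -- `g` normalises `⟨y⟩`
      have hgy : g⁻¹ * y * g ∈ zpowers y := by
        have hm : g⁻¹ * y * g ∈ Y := by simpa using (Subgroup.mem_normalizer_iff.1 (inv_mem hg) y).1 hyY
        haveI := hcyc
        have heq : zpowers (⟨g⁻¹ * y * g, hYO hm⟩ : O) = zpowers ⟨y, hYO hyY⟩ :=
          FrobeniusCompl.eq_of_card_eq (by
            rw [Nat.card_zpowers, Nat.card_zpowers, orderOf_mk, orderOf_mk,
              show g⁻¹ * y * g = MulAut.conj g⁻¹ y by simp, MulEquiv.orderOf_eq])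
        obtain ⟨i, hi⟩ := heq ▸ mem_zpowers (⟨g⁻¹ * y * g, hYO hm⟩ : O)
        exact ⟨i, congrArg Subtype.val hi⟩
      obtain ⟨i, hi⟩ := hgy
      simp only at hi
      have hy' : Commute t (y ^ i) := ((show Commute t y from htY y (hYO hyY))).zpow_right i
      have hconj : g * t * g⁻¹ ∈ centralizer ({y} : Set G) := by
        rw [mem_centralizer_singleton_iff]
        calc g * t * g⁻¹ * y = g * (t * (g⁻¹ * y * g)) * g⁻¹ := by group
          _ = g * (g⁻¹ * y * g * t) * g⁻¹ := by rw [← hi, hy'.eq]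
          _ = y * (g * t * g⁻¹) := by group
      have := honly _ hconj (by rw [conj_mul, htt]; group) (fun q' => ht1 (by rw [conj_eq_one_iff] at q'; exact q'))
      exact mem_centralizer_singleton_iff.2 (mul_inv_eq_iff_eq_mul.1 this))
  have hprime : (Fintype.card F).Prime := prime_card_of_cyclic_unipotent hF fun p hp hp2 R hR => by
    haveI := h.isCyclic_pgroup hp hp2 (hR.map φ.symm.toMonoidHom)
    exact isCyclic_of_surjective _ (R.equivMapOfInjective φ.symm.toMonoidHom φ.symm.injective).symm.surjective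
  set p := Fintype.card F with hp
  haveI : Fact p.Prime := ⟨hprime⟩
  haveI : CharP F p := charP_of_card_eq_prime hp.symm
  let r : ZMod p ≃+* F := ZMod.ringEquiv F hp.symm
  have h5 : 5 ≤ p := by
    by_contra hle
    have hp3 : p = 3 := by
      rcases hF with ⟨k, hk⟩
      have := hprime.two_le
      omega
    -- order twelve: the Sylow 2-subgroup is normal
    have hcard : Nat.card G = 12 := by
      have := Linear.card_PSL_two_of_odd hF
      rw [← Nat.card_congr φ.toEquiv, ← hp, hp3] at this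
      omega
    have hU6 : 12 ≤ Nat.card (normalizer (U : Set G)) := by
      have hrel : 3 ∣ (centralizer (U : Set G)).relIndex (normalizer (U : Set G)) := by
        rcases h.relIndex_cases hU with q | ⟨q, -⟩ <;> rw [q]
        norm_num
      have h4 : 4 ∣ Nat.card (centralizer (U : Set G)) := hU.1 ▸ card_dvd_of_le hU.le_centralizer
      have hc12 : 12 ∣ Nat.card (normalizer (U : Set G)) := by
        rw [← (((centralizer (U : Set G)).subgroupOf (normalizer (U : Set G)))).index_mul_card,
          Nat.card_congr (subgroupOfEquivOfLe (Subgroup.centralizer_le_normalizer _)).toEquiv]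
        exact Nat.mul_dvd_mul hrel h4
      exact Nat.le_of_dvd Nat.card_pos hc12
    have htop : normalizer (U : Set G) = ⊤ := eq_top_of_le_card _ (by omega)
    haveI hUn : U.Normal := normalizer_eq_top_iff.1 htop
    have hu4 := hU.1
    rcases hUn.eq_bot_or_eq_top with q | q
    · rw [q, Subgroup.card_bot] at hu4; omega
    · rw [q, Subgroup.card_top, hcard] at hu4; omega
  obtain ⟨ψ⟩ := SmallPSL.psl_congr r
  exact ⟨p, inferInstance, h5, ⟨φ.trans ψ.symm⟩⟩

end CycHyp

end Cfsg.Agent.GW
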