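import Cfsg.Agent.GW.AlmostBasic
import Cfsg.Agent.GW.CycMain
import Cfsg.Agent.S1896
import Cfsg.Agent.S3178
import Cfsg.Agent.S0219
import Cfsg.Agent.S0201
import Cfsg.Agent.S0205
import Cfsg.Agent.TwoGroups.Classification

/-!
Simple groups with cyclic odd Sylow subgroups and almost cyclic Sylow 2-subgroups are `PSL₂(p)`,
given the exclusion of semidihedral Sylow 2-subgroups.
-/

set_option autoImplicit false
set_option linter.style.haveILetI false
set_option linter.unusedSectionVars false

open Cfsg

namespace Cfsg.Agent.GW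

open Subgroup

universe u

/-- The exclusion of semidihedral Sylow 2-subgroups. -/
def NoSD : Prop :=
  ∀ (T : Type u) [Group T] [Finite T] [IsSimpleGroup T], OddCyclic T → ∀ S : Sylow 2 T,
    Cfsg.IsQuasiDihedral (S : Subgroup T) →
      (∀ H : Subgroup T, H ≠ ⊤ → ¬ Group.IsSolvable H → AlmostPSL H) → False

variable {T : Type u} [Group T] [Finite T]

theorem not_hasNormalTwoComplement [IsSimpleGroup T] (hns : ¬ Group.IsSolvable T)
    (h : Cfsg.HasNormalPComplement 2 T) : False := by
  haveI : Fact (Nat.Prime 2) := ⟨Nat.prime_two⟩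
  obtain ⟨P, N, hN, hc⟩ := h
  rcases hN.eq_bot_or_eq_top with rfl | rfl
  · refine hns ?_
    haveI := P.2.isNilpotent
    have : (P : Subgroup T) = ⊤ := isComplement'_bot_left.1 hc
    exact Group.isSolvable_of_surjective (f := (P : Subgroup T).subtype) fun x =>
      ⟨⟨x, this ▸ mem_top x⟩, rfl⟩
  · refine hns (S0205.result (Nat.not_even_iff_odd.1 fun he => ?_))
    have hP : (P : Subgroup T) = ⊥ := isComplement'_top_left.1 hc
    have := P.not_dvd_index
    rw [hP, index_bot] at this
    exact this (even_iff_two_dvd.1 he)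

theorem exists_psl_of_simple (hSD : NoSD.{u}) [IsSimpleGroup T] (hns : ¬ Group.IsSolvable T)
    (hodd : OddCyclic T) (hcyc : AlmostCyc T)
    (hIH : ∀ H : Subgroup T, H ≠ ⊤ → ¬ Group.IsSolvable H → AlmostPSL H) :
    ∃ (p : ℕ) (_ : Fact p.Prime), 5 ≤ p ∧
      Nonempty (T ≃* Matrix.ProjectiveSpecialLinearGroup (Fin 2) (ZMod p)) := by
  haveI : Fact (Nat.Prime 2) := ⟨Nat.prime_two⟩
  have heven : Even (Nat.card T) := by
    rw [← Nat.not_odd_iff_even]
    exact fun h => hns (S0205.result h)
  obtain ⟨S⟩ : Nonempty (Sylow 2 T) := inferInstance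
  have hncS : ¬ IsCyclic (S : Subgroup T) := fun hc => by
    obtain ⟨H, hH⟩ := S0219.result heven S hc
    haveI := normal_of_index_eq_two hH
    rcases (inferInstance : H.Normal).eq_bot_or_eq_top with rfl | rfl
    · rw [index_bot] at hH
      haveI := isCyclic_of_prime_card (p := 2) hH
      exact hns (Group.isSolvable_of_comm fun a b => mul_comm' a b)
    · rw [index_top] at hH; norm_num at hH
  obtain ⟨C, hCS, hCc, hi⟩ := hcyc (S : Subgroup T) S.2
  haveI := hCc
  have hidx : (C.subgroupOf S).index = 2 := by
    rcases (Nat.dvd_prime Nat.prime_two).1 hi with e | e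
    · refine absurd ?_ hncS
      rw [show (S : Subgroup T) = C from le_antisymm (relIndex_eq_one.1 e) hCS]
      exact hCc
    · exact e
  obtain ⟨m, hm⟩ := IsPGroup.iff_card.1 S.isPGroup'
  obtain ⟨a, ha⟩ := (isCyclic_of_surjective _ (subgroupOfEquivOfLe hCS).symm.surjective :
    IsCyclic (C.subgroupOf S)).exists_generator
  have hao : orderOf a = Nat.card (C.subgroupOf S) := orderOf_eq_card_of_forall_mem_zpowers ha
  have hmul := (C.subgroupOf S).index_mul_card
  rw [hidx, hm] at hmul
  obtain ⟨n, rfl⟩ : ∃ n, m = n + 1 := ⟨m - 1, by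
    rcases m with _ | m
    · rw [pow_zero] at hmul; omega
    · rfl⟩
  have han : orderOf (a : (S : Subgroup T)) = 2 ^ n := by
    rw [orderOf_coe, hao]; rw [pow_succ] at hmul; omega
  have hcycT : ∀ (p : ℕ), p.Prime → p ≠ 2 → ∀ P : Sylow p T, IsCyclic (P : Subgroup T) :=
    fun p hp hp2 P => hodd p hp hp2 _ P.isPGroup'
  have hdih : ∀ k, 2 ≤ k → Nonempty ((S : Subgroup T) ≃* DihedralGroup k) →
      ∃ (p : ℕ) (_ : Fact p.Prime), 5 ≤ p ∧
        Nonempty (T ≃* Matrix.ProjectiveSpecialLinearGroup (Fin 2) (ZMod p)) :=
    fun k hk e => CycHyp.exists_psl (S := S) (n := k) ⟨hk, e, inferInstance, hcycT⟩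
  by_cases hab : ∀ x y : (S : Subgroup T), x * y = y * x
  · by_cases hn1 : n = 1
    · subst hn1
      haveI : Nontrivial (S : Subgroup T) := Finite.one_lt_card_iff_nontrivial.1 (by rw [hm]; norm_num)
      haveI : IsKleinFour (S : Subgroup T) := by
        refine ⟨by simpa using hm, (Monoid.exponent_eq_prime_iff Nat.prime_two).2 fun x hx => ?_⟩
        have h4 : orderOf x ∣ 2 ^ 2 := by
          have := _root_.orderOf_dvd_natCard x
          rwa [hm] at this
        obtain ⟨i, hi', hxi⟩ := (Nat.dvd_prime_pow Nat.prime_two).1 h4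
        rcases i with _ | _ | _ | i
        · exact absurd (orderOf_eq_one_iff.1 (by simpa using hxi)) hx
        · simpa using hxi
        · exact absurd (isCyclic_of_orderOf_eq_card x (by rw [hxi, hm])) hncS
        · omega
      exact hdih 2 le_rfl (IsKleinFour.nonempty_mulEquiv)
    exfalso
    have hn2 : 2 ≤ n := by
      rcases n with _ | n
      · exact absurd (isCyclic_of_prime_card (p := 2) (by simpa using hm)) hncS
      · omega
    haveI : IsMulCommutative (S : Subgroup T) := ⟨⟨hab⟩⟩
    have hAut : IsPGroup 2 (MulAut (S : Subgroup T)) := by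
      by_contra hA
      haveI hCn : (C.subgroupOf S).Normal := normal_of_index_eq_two hidx
      rcases S1896.result S.isPGroup' ⟨C.subgroupOf S, hCn,
          isCyclic_of_surjective _ (subgroupOfEquivOfLe hCS).symm.surjective,
          isCyclic_of_prime_card (p := 2) (by rw [← index_eq_card, hidx])⟩ hA with ⟨⟨e⟩⟩ | ⟨k, ⟨e⟩⟩
      · have : (QuaternionGroup.a 1 : QuaternionGroup 2) * QuaternionGroup.xa 0 =
            QuaternionGroup.xa 0 * QuaternionGroup.a 1 := by
          apply e.symm.injective
          rw [map_mul, map_mul, hab]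
        exact absurd this (by decide)
      · have hc := Nat.card_congr e.toEquiv
        rw [hm, Nat.card_prod, Nat.card_congr Multiplicative.toAdd, Nat.card_zmod, ← pow_add] at hc
        have hk := Nat.pow_right_injective le_rfl hc
        have h1 : (e (a : (S : Subgroup T))) ^ 2 ^ k = 1 := by
          refine Prod.ext ?_ ?_ <;>
          · simp only [Prod.pow_fst, Prod.pow_snd, Prod.fst_one, Prod.snd_one]
            refine Multiplicative.toAdd.injective ?_
            rw [toAdd_pow, toAdd_one, nsmul_eq_mul, ZMod.natCast_self, zero_mul]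
        have h2 := orderOf_dvd_of_pow_eq_one h1
        rw [e.orderOf_eq, han, Nat.pow_dvd_pow_iff_le_right (by norm_num)] at h2
        omega
    refine not_hasNormalTwoComplement hns ?_
    have hle : normalizer ((S : Subgroup T) : Set T) ≤ centralizer ((S : Subgroup T) : Set T) := by
      set N := normalizer ((S : Subgroup T) : Set T)
      intro g hg
      set φ : N →* MulAut (S : Subgroup T) := (S : Subgroup T).normalizerMonoidHom with hφ
      have hker : (φ.ker).index ∣ 1 := by
        have hS : (S : Subgroup T).subgroupOf N ≤ φ.ker := fun s hs => by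
          refine MonoidHom.mem_ker.2 (MulEquiv.ext fun x => Subtype.ext ?_)
          have := congrArg Subtype.val (hab ⟨s, hs⟩ x)
          simp only [Subgroup.coe_mul] at this
          show (s : T) * (x : T) * (s : T)⁻¹ = (x : T)
          rw [this, mul_inv_cancel_right]
        obtain ⟨i, hi'⟩ := IsPGroup.iff_card.1 (hAut.to_subgroup φ.range)
        rw [index_ker, hi']
        rcases i with _ | i
        · rfl
        · exfalso
          refine S.not_dvd_index ?_
          refine dvd_trans (dvd_trans ?_ (index_dvd_of_le hS))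
            (relIndex_dvd_index_of_le (le_normalizer : (S : Subgroup T) ≤ N))
          rw [index_ker, hi']
          exact dvd_pow_self 2 (by omega)
      have := index_eq_one.1 (Nat.dvd_one.1 hker) ▸ mem_top (⟨g, hg⟩ : N)
      rw [hφ, normalizerMonoidHom_ker, mem_subgroupOf] at this
      exact this
    exact ⟨S, _, inferInstance, MonoidHom.ker_transferSylow_isComplement' S hle⟩
  push Not at hab
  have hn2 : 2 ≤ n := by
    by_contra hlt
    obtain ⟨x, y, hxy⟩ := hab
    rcases n with _ | _ | n
    · haveI := isCyclic_of_prime_card (α := (S : Subgroup T)) (p := 2) (by simpa using hm)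
      exact hxy (mul_comm' x y)
    · haveI := IsPGroup.isMulCommutative_of_card_eq_prime_sq (G := (S : Subgroup T)) (p := 2) (by simpa using hm)
      exact hxy (mul_comm' x y)
    · omega
  rcases TwoGroups.equiv_of_cyclic_index_two hm han hab with he | ⟨⟨e⟩⟩ | hq | ⟨hn3, b, hb, hbb, hrel⟩
  · exact hdih _ (by calc 2 ≤ n := hn2
      _ ≤ 2 ^ n := (Nat.lt_two_pow_self).le) he
  · exfalso
    have hO : ∀ N : Subgroup T, N.Normal → Odd (Nat.card N) → N = ⊥ := fun N hN ho =>
      hN.eq_bot_or_eq_top.resolve_right fun e => by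
        rw [e, Subgroup.card_top] at ho
        exact hns (S0205.result ho)
    have hc := S0201.result S (n - 2) (e.trans (MulEquiv.cast (M := fun k => QuaternionGroup (2 ^ k))
      (show n - 1 = n - 2 + 1 by omega))) hO
    rcases (inferInstance : (center T).Normal).eq_bot_or_eq_top with h | h
    · rw [h, card_bot] at hc; norm_num at hc
    · rw [h, Subgroup.card_top] at hc
      haveI := isCyclic_of_prime_card (p := 2) hc
      exact hns (Group.isSolvable_of_comm fun a b => mul_comm' a b)
  · exact (hSD T hodd S hq hIH).elim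
  · refine (not_hasNormalTwoComplement hns ?_).elim
    refine S3178.result S n hn3 hm ((a : (S : Subgroup T)) : T) (b : T) (SetLike.coe_mem _) b.2
      ((Subgroup.orderOf_coe _).trans han) ?_ ?_
    · exact orderOf_eq_prime (by rw [pow_two]; exact congrArg Subtype.val hbb)
        fun h => hb (by rw [show b = 1 from Subtype.ext h]; exact one_mem _)
    · have := congrArg Subtype.val hrel
      rw [add_comm (2 ^ (n - 1)) 1]
      simpa using this

end Cfsg.Agent.GW
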