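import Cfsg.Agent.GW.DihFacts
import Cfsg.Agent.TwoFusion.DihedralSylow
import Cfsg.Agent.FGSev.CyclicSylow
import Cfsg.Agent.FGSev.ZGroupAction
import Cfsg.Agent.S0514
import Mathlib.RingTheory.RootsOfUnity.Complex

/-!
# Simple groups with dihedral Sylow 2-subgroups and cyclic odd Sylow subgroups: basic facts
-/

set_option autoImplicit false
set_option linter.style.haveILetI false
set_option linter.unusedSectionVars false

namespace Cfsg.Agent.GW

open Cfsg.Agent.TwoGroups Cfsg.Agent.TwoFusion Subgroup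

variable {G : Type*} [Group G] [Finite G]

/-- The hypotheses: simple, dihedral Sylow 2-subgroup, cyclic odd Sylow subgroups. -/
structure CycHyp (S : Sylow 2 G) (n : ℕ) : Prop where
  hn : 2 ≤ n
  hS : Nonempty ((S : Subgroup G) ≃* DihedralGroup n)
  simple : IsSimpleGroup G
  cyc : ∀ (p : ℕ), p.Prime → p ≠ 2 → ∀ P : Sylow p G, IsCyclic (P : Subgroup G)

/-- The subgroup generated by the elements of odd order commuting with `t`. -/
def oc (t : G) : Subgroup G := Subgroup.closure {x | Odd (orderOf x) ∧ x * t = t * x}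

theorem odd_orderOf_conj {g x : G} (h : Odd (orderOf x)) : Odd (orderOf (g * x * g⁻¹)) := by
  rwa [← MulAut.conj_apply, MulEquiv.orderOf_eq]

/-- In a group of odd order every Sylow 2-subgroup is trivial. -/
theorem sylow_two_cyclic_of_odd {K : Type*} [Group K] [Finite K] (hK : Odd (Nat.card K))
    (P : Sylow 2 K) : IsCyclic P := by
  haveI : Fact (Nat.Prime 2) := ⟨Nat.prime_two⟩
  obtain ⟨k, hk⟩ := IsPGroup.iff_card.1 P.isPGroup'
  have h1 : Nat.card (P : Subgroup K) = 1 := by
    rcases k with _ | k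
    · simpa using hk
    · exfalso
      refine (Nat.not_even_iff_odd.2 hK) (even_iff_two_dvd.2 ?_)
      exact (Dvd.intro_left _ rfl : 2 ∣ 2 ^ k * 2).trans (pow_succ 2 k ▸ hk ▸ card_subgroup_dvd_card _)
  haveI := Finite.card_le_one_iff_subsingleton.1 h1.le
  exact isCyclic_of_subsingleton

/-- A linear character faithful on a central subgroup of prime order of a group with cyclic Sylow
`p`-subgroups. -/
theorem exists_hom_central {H : Type*} [Group H] [Finite H] {p : ℕ} [Fact p.Prime]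
    (hcyc : ∀ P : Sylow p H, IsCyclic (P : Subgroup H)) {u : H} (hu : orderOf u = p)
    (hc : u ∈ center H) :
    ∃ lam : H →* ℂˣ, lam u ≠ 1 ∧ ∀ h, lam h ≠ 1 → u ∈ zpowers h := by
  have hp : p.Prime := Fact.out
  obtain ⟨P, hP⟩ := (IsPGroup.of_card (G := zpowers u) (n := 1)
    (by rw [Nat.card_zpowers, hu, pow_one])).exists_le_sylow
  have hu1 : u ≠ 1 := by rintro rfl; rw [orderOf_one] at hu; exact hp.one_lt.ne hu
  have huP : u ∈ (P : Subgroup H) := hP (mem_zpowers u)
  obtain ⟨R, K, hK, hRK⟩ :=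
    FGSev.hasNormalPComplement_of_cyclic_sylow_central P (hcyc P) huP hu1 hc
  haveI := hcyc R
  have e : (R : Subgroup H) ≃* H ⧸ K := hRK.symm.QuotientMulEquiv.symm
  haveI : IsCyclic (H ⧸ K) := isCyclic_of_surjective _ e.surjective
  set N := Nat.card (H ⧸ K)
  haveI : NeZero N := ⟨Nat.card_pos.ne'⟩
  let f : H ⧸ K ≃* rootsOfUnity N ℂ := mulEquivOfCyclicCardEq (by
    rw [(Complex.isPrimitiveRoot_exp N (NeZero.ne N)).card_rootsOfUnity])
  let lam : H →* ℂˣ := ((rootsOfUnity N ℂ).subtype.comp f.toMonoidHom).comp (QuotientGroup.mk' K)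
  have hker : ∀ h, lam h = 1 ↔ h ∈ K := by
    intro h
    simp [lam, QuotientGroup.eq_one_iff]
  obtain ⟨k, hk⟩ := IsPGroup.iff_card.1 R.isPGroup'
  have hKo : ¬ p ∣ Nat.card K := by
    intro h
    apply R.not_dvd_index
    rwa [hRK.index_eq_card]
  refine ⟨lam, fun h => hKo ?_, fun h hh => ?_⟩
  · rw [hker] at h
    rw [← hu, ← Subgroup.orderOf_mk u h]
    exact _root_.orderOf_dvd_natCard _
  · rw [Ne, hker] at hh
    have hd : p ∣ orderOf h := by
      by_contra hd
      refine hh ((QuotientGroup.eq_one_iff h).1 (orderOf_eq_one_iff.1 ?_))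
      have h1 : orderOf (h : H ⧸ K) ∣ orderOf h := orderOf_map_dvd (QuotientGroup.mk' K) h
      have h2 : orderOf (h : H ⧸ K) ∣ p ^ k := by
        rw [← hk, Nat.card_congr e.toEquiv]; exact _root_.orderOf_dvd_natCard _
      exact Nat.eq_one_of_dvd_coprimes
        (Nat.Coprime.pow_left k (hp.coprime_iff_not_dvd.2 hd)) h2 h1
    obtain ⟨v, hvh, hv⟩ : ∃ v ∈ zpowers h, orderOf v = p := by
      obtain ⟨v, hv⟩ := exists_prime_orderOf_dvd_card' (G := zpowers h) p (by rwa [Nat.card_zpowers])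
      exact ⟨v, v.2, by rwa [Subgroup.orderOf_coe]⟩
    have hvu : zpowers u ⊔ zpowers v ≤ centralizer ({u} : Set H) := by
      rw [sup_le_iff, zpowers_le, zpowers_le]
      constructor <;> rw [mem_centralizer_singleton_iff] <;>
        exact (Subgroup.mem_center_iff.1 hc _)
    have hW : IsPGroup p (zpowers u ⊔ zpowers v : Subgroup H) :=
      (IsPGroup.of_card (n := 1) (by rw [Nat.card_zpowers, hu, pow_one])).to_sup_of_normal_right'
        (IsPGroup.of_card (n := 1) (by rw [Nat.card_zpowers, hv, pow_one])) (by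
          rw [zpowers_le, Subgroup.mem_normalizer_iff]
          intro x
          rw [← Subgroup.mem_center_iff.1 hc x, mul_inv_cancel_right])
    obtain ⟨P', hP'⟩ := hW.exists_le_sylow
    haveI := hcyc P'
    have heq : zpowers (⟨u, hP' (mem_sup_left (mem_zpowers u))⟩ : (P' : Subgroup H))
        = zpowers ⟨v, hP' (mem_sup_right (mem_zpowers v))⟩ :=
      FrobeniusCompl.eq_of_card_eq (by
        rw [Nat.card_zpowers, Nat.card_zpowers, orderOf_mk, orderOf_mk, hu, hv])
    obtain ⟨i, hi⟩ := heq ▸ mem_zpowers (⟨u, hP' (mem_sup_left (mem_zpowers u))⟩ : (P' : Subgroup H))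
    rw [← show v ^ i = u from congrArg Subtype.val hi]
    exact zpow_mem hvh i

namespace CycHyp

variable {S : Sylow 2 G} {n : ℕ} (h : CycHyp S n)
include h

theorem card_S : Nat.card (S : Subgroup G) = 2 * n := by
  obtain ⟨e⟩ := h.hS
  rw [Nat.card_congr e.toEquiv, DihedralGroup.nat_card]

theorem four_dvd : 4 ∣ Nat.card G := by
  haveI : Fact (Nat.Prime 2) := ⟨Nat.prime_two⟩
  obtain ⟨k, hk⟩ := IsPGroup.iff_card.1 S.isPGroup'
  have hc := h.card_S
  have hn := h.hn
  refine dvd_trans ?_ (card_subgroup_dvd_card (S : Subgroup G))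
  rw [hk]
  refine dvd_trans (by norm_num) (pow_dvd_pow 2 (?_ : 2 ≤ k))
  by_contra hc'
  interval_cases k <;> omega

theorem no_index_two (H : Subgroup G) : H.index ≠ 2 := by
  intro hH
  haveI := Subgroup.normal_of_index_eq_two hH
  haveI := h.simple
  have h4 := Nat.le_of_dvd Nat.card_pos h.four_dvd
  rcases (inferInstance : H.Normal).eq_bot_or_eq_top with rfl | rfl
  · rw [index_bot] at hH; omega
  · rw [index_top] at hH; omega

theorem all_conj : ∀ x y : G, orderOf x = 2 → orderOf y = 2 → IsConj x y := by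
  obtain ⟨e⟩ := h.hS
  rcases TwoFusion.dihedral_cases h.hn e with h4 | ⟨⟨k, a, b, hd⟩, -⟩
  · exact TwoFusion.all_conj_of_no_index_two_four h4 h.no_index_two
  · exact TwoFusion.Dih.all_conj_of_no_index_two hd h.no_index_two

theorem center_eq_bot : center G = ⊥ := by
  haveI := h.simple
  refine (inferInstance : (center G).Normal).eq_bot_or_eq_top.resolve_right fun hc => ?_
  letI : CommGroup G := { (inferInstance : Group G) with
    mul_comm := fun a b => (Subgroup.mem_center_iff.1 (hc ▸ mem_top a) b).symm }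
  haveI : IsSimpleGroup G := h.simple
  have hp := IsSimpleGroup.prime_card (α := G)
  have := h.four_dvd
  rcases (Nat.dvd_prime hp).1 this with h4 | h4
  · omega
  · rw [← h4] at hp; norm_num at hp

theorem isCyclic_pgroup {p : ℕ} (hp : p.Prime) (h2 : p ≠ 2) {R : Subgroup G} (hR : IsPGroup p R) :
    IsCyclic R := by
  obtain ⟨P, hP⟩ := hR.exists_le_sylow
  haveI := h.cyc p hp h2 P
  exact isCyclic_of_injective (inclusion hP) (inclusion_injective hP)

theorem isCyclic_sylow {p : ℕ} (hp : p.Prime) (h2 : p ≠ 2) (K : Subgroup G) (P : Sylow p K) :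
    IsCyclic (P : Subgroup K) := by
  haveI : Fact p.Prime := ⟨hp⟩
  haveI := h.isCyclic_pgroup hp h2 (P.isPGroup'.map K.subtype)
  exact isCyclic_of_surjective _
    ((P : Subgroup K).equivMapOfInjective K.subtype K.subtype_injective).symm.surjective

theorem isZGroup_of_odd {K : Subgroup G} (hK : Odd (Nat.card K)) : IsZGroup K := by
  refine ⟨fun p hp P => ?_⟩
  by_cases h2 : p = 2
  · subst h2; exact sylow_two_cyclic_of_odd hK P
  · exact h.isCyclic_sylow hp h2 K P

/-- Subgroups of odd prime order are conjugate inside any subgroup containing them. -/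
theorem exists_conj_zpowers {p : ℕ} (hp : p.Prime) (h2 : p ≠ 2) {K : Subgroup G} {x y : G}
    (hxK : x ∈ K) (hyK : y ∈ K) (hx : orderOf x = p) (hy : orderOf y = p) :
    ∃ k ∈ K, zpowers (k * x * k⁻¹) = zpowers y := by
  haveI : Fact p.Prime := ⟨hp⟩
  have hp1 : ∀ z : K, orderOf z = p → ∃ P : Sylow p K, z ∈ (P : Subgroup K) := fun z hz => by
    obtain ⟨P, hP⟩ := (IsPGroup.of_card (G := zpowers z) (n := 1)
      (by rw [Nat.card_zpowers, hz, pow_one])).exists_le_sylow
    exact ⟨P, hP (mem_zpowers z)⟩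
  obtain ⟨P, hxP⟩ := hp1 ⟨x, hxK⟩ (by rwa [orderOf_mk])
  obtain ⟨Q, hyQ⟩ := hp1 ⟨y, hyK⟩ (by rwa [orderOf_mk])
  obtain ⟨k, hk⟩ := MulAction.exists_smul_eq K P Q
  have hkx : k * ⟨x, hxK⟩ * k⁻¹ ∈ (Q : Subgroup K) := by
    rw [← hk, Sylow.coe_subgroup_smul]
    exact smul_mem_pointwise_smul _ (MulAut.conj k) _ hxP
  haveI := h.isCyclic_sylow hp h2 K Q
  have heq : zpowers (⟨_, hkx⟩ : (Q : Subgroup K)) = zpowers ⟨_, hyQ⟩ :=
    FrobeniusCompl.eq_of_card_eq (by
      rw [Nat.card_zpowers, Nat.card_zpowers, ← Subgroup.orderOf_coe, ← Subgroup.orderOf_coe ⟨_, hyQ⟩]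
      change orderOf (MulAut.conj k ⟨x, hxK⟩) = orderOf (⟨y, hyK⟩ : K)
      rw [MulEquiv.orderOf_eq, ← Subgroup.orderOf_coe, ← Subgroup.orderOf_coe ⟨y, hyK⟩, hx, hy])
  refine ⟨k, k.2, ?_⟩
  have h3 := congrArg (fun L => (Subgroup.map (Q : Subgroup K).subtype L).map K.subtype) heq
  simpa [MonoidHom.map_zpowers] using h3

/-- A subgroup of odd prime order is normalised by some element that does not centralise it. -/
theorem exists_normalizer_not_centralizer {p : ℕ} (hp : p.Prime) (h2 : p ≠ 2) {u : G}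
    (hu : orderOf u = p) :
    ∃ g ∈ normalizer (zpowers u : Set G), g * u ≠ u * g := by
  by_contra hcon
  push Not at hcon
  haveI : Fact p.Prime := ⟨hp⟩
  obtain ⟨P, hP⟩ := (IsPGroup.of_card (G := zpowers u) (n := 1)
    (by rw [Nat.card_zpowers, hu, pow_one])).exists_le_sylow
  haveI := h.cyc p hp h2 P
  have huP : u ∈ (P : Subgroup G) := hP (mem_zpowers u)
  have hu1 : u ≠ 1 := by rintro rfl; rw [orderOf_one] at hu; exact hp.one_lt.ne hu
  have hkey : HasNormalPComplement p G := by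
    refine Transfer.hasNormalPComplement_of_normalizer_le_centralizer P fun g hg => ?_
    obtain ⟨⟨z, hz⟩, hgen⟩ := IsCyclic.exists_generator (α := (P : Subgroup G))
    have hgen' : ∀ y ∈ (P : Subgroup G), ∃ i : ℤ, z ^ i = y := fun y hy => by
      obtain ⟨i, hi⟩ := Subgroup.mem_zpowers_iff.mp (hgen ⟨y, hy⟩)
      exact ⟨i, congrArg Subtype.val hi⟩
    obtain ⟨s, hs⟩ := FGSev.pElem_of_mem P.2 hz
    obtain ⟨t, ht⟩ := hgen' u huP
    set m := Element.pComplPart p g with hm
    have hmN : m ∈ normalizer ((P : Subgroup G) : Set G) :=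
      zpowers_le.mpr hg (Element.pComplPart_mem_zpowers p g)
    have hfix : m * u = u * m := by
      refine hcon m ?_
      have hset : ∀ a ∈ normalizer ((P : Subgroup G) : Set G), ∀ x ∈ zpowers u,
          a * x * a⁻¹ ∈ zpowers u := by
        intro a ha x hx
        have hmem : a * u * a⁻¹ ∈ (P : Subgroup G) := (Subgroup.mem_normalizer_iff.1 ha u).1 huP
        have heq : zpowers (⟨_, hmem⟩ : (P : Subgroup G)) = zpowers ⟨u, huP⟩ :=
          FrobeniusCompl.eq_of_card_eq (by
            rw [Nat.card_zpowers, Nat.card_zpowers, orderOf_mk, orderOf_mk, ← MulAut.conj_apply,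
              MulEquiv.orderOf_eq])
        obtain ⟨i, rfl⟩ := hx
        rw [← conj_zpow]
        refine zpow_mem ?_ i
        obtain ⟨j, hj⟩ := heq ▸ mem_zpowers (⟨_, hmem⟩ : (P : Subgroup G))
        exact ⟨j, congrArg Subtype.val hj⟩
      rw [Subgroup.mem_normalizer_iff]
      intro x
      refine ⟨hset m hmN x, fun hx => ?_⟩
      have := hset m⁻¹ (inv_mem hmN) _ hx
      simpa [mul_assoc] using this
    obtain ⟨e, he⟩ := hgen' (m * z * m⁻¹) ((Subgroup.mem_normalizer_iff.mp hmN z).mp hz)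
    have hmz : Commute m z := FGSev.commute_of_fix_nontrivial hs
      (Element.coprime_orderOf_pComplPart hp g) he.symm (t := t) (by rw [ht]; exact hu1)
      (by rw [ht, hfix, mul_inv_cancel_right])
    have hgP : Element.pPart p g ∈ (P : Subgroup G) := by
      have hz' := (FGSev.pElem_iff_isPGroup p _).mp ⟨_, Element.orderOf_pPart_eq_pow hp g⟩
      have hle := hz'.inf_normalizer_sylow P
      exact (hle.le ⟨mem_zpowers _, zpowers_le.mpr hg (Element.pPart_mem_zpowers p g)⟩).2
    obtain ⟨j, hj⟩ := hgen' _ hgP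
    refine Subgroup.mem_centralizer_iff.mpr fun y hy => ?_
    obtain ⟨i, rfl⟩ := hgen' y hy
    have : Commute g z := by
      rw [← Element.pPart_mul_pComplPart p g, ← hj]
      exact ((Commute.refl z).zpow_left j).mul_left hmz
    exact (this.zpow_right i).eq.symm
  obtain ⟨R, K, hK, hRK⟩ := hkey
  haveI := h.simple
  have hR : p ∣ Nat.card (R : Subgroup G) := by
    refine R.dvd_card_of_dvd_card ?_
    rw [← hu]; exact _root_.orderOf_dvd_natCard u
  rcases hK.eq_bot_or_eq_top with rfl | rfl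
  · have h1 := hRK.card_mul
    rw [Subgroup.card_bot, one_mul] at h1
    obtain ⟨k, hk⟩ := IsPGroup.iff_card.1 R.isPGroup'
    have h4 : 2 ∣ p ^ k := by rw [← hk, h1]; exact dvd_trans (by norm_num) h.four_dvd
    exact h2 ((Nat.prime_dvd_prime_iff_eq Nat.prime_two hp).1 (Nat.prime_two.dvd_of_dvd_pow h4)).symm
  · have h1 := hRK.card_mul
    rw [Subgroup.card_top] at h1
    have : Nat.card (R : Subgroup G) = 1 :=
      mul_right_cancel₀ (Nat.card_pos (α := G)).ne' (((mul_comm _ _).trans h1).trans (one_mul _).symm)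
    rw [this] at hR
    exact hp.one_lt.ne' (Nat.dvd_one.1 hR)

/-- Some Sylow 2-subgroup has `t` in its centre. -/
theorem exists_sylow_central {t : G} (ht : orderOf t = 2) :
    ∃ T : Sylow 2 G, t ∈ (T : Subgroup G) ∧ ∀ s ∈ (T : Subgroup G), s * t = t * s := by
  haveI : Fact (Nat.Prime 2) := ⟨Nat.prime_two⟩
  obtain ⟨e⟩ := h.hS
  obtain ⟨U, hUS, hU⟩ := TwoFusion.exists_four_le h.hn e
  obtain ⟨⟨z, hzU, hz1, hzc⟩, -⟩ := four_in_two_group e S.isPGroup' hU hUS
  obtain ⟨g, hg⟩ := isConj_iff.1 (h.all_conj z t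
    (orderOf_eq_prime (by rw [pow_two]; exact hU.2 z hzU) hz1) ht)
  refine ⟨g • S, ?_, ?_⟩
  · rw [Sylow.coe_subgroup_smul, ← hg]
    exact smul_mem_pointwise_smul _ (MulAut.conj g) _ (hUS hzU)
  · intro s hs
    rw [Sylow.coe_subgroup_smul, mem_pointwise_smul_iff_inv_smul_mem, ← map_inv,
      MulAut.smul_def, MulAut.conj_apply, inv_inv] at hs
    have := hzc _ hs
    rw [← hg]
    calc s * (g * z * g⁻¹) = g * (g⁻¹ * s * g * z) * g⁻¹ := by group
      _ = g * (z * (g⁻¹ * s * g)) * g⁻¹ := by rw [this]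
      _ = g * z * g⁻¹ * s := by group

theorem oc_spec {t : G} (ht : orderOf t = 2) :
    (∀ x, x ∈ oc t ↔ Odd (orderOf x) ∧ x * t = t * x) ∧ Odd (Nat.card (oc t)) ∧
      Nat.card (centralizer ({t} : Set G)) = Nat.card (oc t) * Nat.card (S : Subgroup G) := by
  haveI : Fact (Nat.Prime 2) := ⟨Nat.prime_two⟩
  obtain ⟨N, hN, hNo, k, hk⟩ : ∃ N : Subgroup (centralizer ({t} : Set G)), N.Normal ∧
      Odd (Nat.card N) ∧ ∃ k : ℕ, N.index = 2 ^ k := S0514.result S n h.hn h.hS t ht
  generalize hC : centralizer ({t} : Set G) = C at N hN hNo hk ⊢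
  haveI := hN
  have hset : ∀ x, x ∈ N.map C.subtype ↔ Odd (orderOf x) ∧ x * t = t * x := by
    intro x
    constructor
    · rintro ⟨y, hy, rfl⟩
      refine ⟨?_, mem_centralizer_singleton_iff.1 (hC ▸ y.2)⟩
      rw [coe_subtype, Subgroup.orderOf_coe]
      exact hNo.of_dvd_nat (Subgroup.orderOf_mk y hy ▸ _root_.orderOf_dvd_natCard (⟨y, hy⟩ : N))
    · rintro ⟨ho, hc⟩
      refine ⟨⟨x, hC ▸ mem_centralizer_singleton_iff.2 hc⟩, ?_, rfl⟩
      rw [SetLike.mem_coe, ← QuotientGroup.eq_one_iff, ← orderOf_eq_one_iff]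
      refine Nat.eq_one_of_dvd_coprimes (Nat.Coprime.pow_left k ?_)
        (hk ▸ index_eq_card N ▸ _root_.orderOf_dvd_natCard _) (orderOf_map_dvd (QuotientGroup.mk' N) _)
      rw [orderOf_mk]
      exact ho.coprime_two_left
  have hoc : oc t = N.map C.subtype := le_antisymm
    ((closure_le _).2 fun x hx => (hset x).2 hx) fun x hx => subset_closure ((hset x).1 hx)
  refine ⟨fun x => hoc ▸ hset x, ?_, ?_⟩
  · rw [hoc, card_map_of_injective C.subtype_injective]; exact hNo
  · rw [hoc, card_map_of_injective C.subtype_injective, ← N.index_mul_card, hk, mul_comm]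
    congr 1
    obtain ⟨T, htT, hTc⟩ := h.exists_sylow_central ht
    have hTC : (T : Subgroup G) ≤ C := fun s hs => hC ▸ mem_centralizer_singleton_iff.2 (hTc s hs)
    obtain ⟨m, hm⟩ := IsPGroup.iff_card.1 T.isPGroup'
    have hTS : Nat.card (T : Subgroup G) = Nat.card (S : Subgroup G) := Nat.card_congr (Sylow.equiv T S).toEquiv
    rw [← hTS, hm]
    have h1 : 2 ^ m ∣ 2 ^ k := by
      have : 2 ^ m ∣ Nat.card N * 2 ^ k := by
        rw [← hk, mul_comm, N.index_mul_card, ← hm]; exact card_dvd_of_le hTC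
      exact (Nat.Coprime.pow_left m hNo.coprime_two_left).dvd_of_dvd_mul_left this
    have h2 : 2 ^ k ∣ 2 ^ m := by
      obtain ⟨R, hR⟩ := Sylow.exists_subgroup_card_pow_prime (G := C) (n := k) 2
        (Dvd.intro _ (hk ▸ N.index_mul_card))
      obtain ⟨T', hT'⟩ := ((IsPGroup.of_card hR).map C.subtype).exists_le_sylow
      rw [← hm, Nat.card_congr (Sylow.equiv T T').toEquiv, ← hR,
        ← card_map_of_injective C.subtype_injective]
      exact card_dvd_of_le hT'
    exact Nat.dvd_antisymm h2 h1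

theorem mem_oc {t x : G} (ht : orderOf t = 2) : x ∈ oc t ↔ Odd (orderOf x) ∧ x * t = t * x :=
  (h.oc_spec ht).1 x

theorem conj_mem_oc {t x g : G} (ht : orderOf t = 2) (hx : x ∈ oc t) :
    g * x * g⁻¹ ∈ oc (g * t * g⁻¹) := by
  obtain ⟨ho, hc⟩ := (h.mem_oc ht).1 hx
  refine subset_closure ⟨odd_orderOf_conj ho, ?_⟩
  calc g * x * g⁻¹ * (g * t * g⁻¹) = g * (x * t) * g⁻¹ := by group
    _ = g * (t * x) * g⁻¹ := by rw [hc]
    _ = g * t * g⁻¹ * (g * x * g⁻¹) := by group

theorem centralizer_le_normalizer_oc {t : G} (ht : orderOf t = 2) :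
    centralizer ({t} : Set G) ≤ normalizer (oc t : Set G) := by
  have key : ∀ g ∈ centralizer ({t} : Set G), ∀ x ∈ oc t, g * x * g⁻¹ ∈ oc t := by
    intro g hg x hx
    have := h.conj_mem_oc (g := g) ht hx
    rwa [mem_centralizer_singleton_iff.1 hg, mul_inv_cancel_right] at this
  intro g hg
  rw [Subgroup.mem_normalizer_iff]
  intro x
  refine ⟨key g hg x, fun hx => ?_⟩
  have := key g⁻¹ (inv_mem hg) _ hx
  simpa [mul_assoc] using this

theorem card_oc_eq {t s : G} (ht : orderOf t = 2) (hs : orderOf s = 2) :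
    Nat.card (oc t) = Nat.card (oc s) := by
  obtain ⟨g, hg⟩ := isConj_iff.1 (h.all_conj t s ht hs)
  have e : (oc t).map (MulAut.conj g).toMonoidHom = oc s := by
    refine le_antisymm ?_ fun x hx => ?_
    · rintro _ ⟨x, hx, rfl⟩
      exact hg ▸ h.conj_mem_oc ht hx
    · refine ⟨g⁻¹ * x * g, ?_, by simp [MulAut.conj_apply, mul_assoc]⟩
      have := h.conj_mem_oc (g := g⁻¹) hs hx
      rw [← hg] at this
      simpa [mul_assoc] using this
  rw [← e, card_map_of_injective (MulAut.conj g).injective]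

/-- In a centralizer of a four-group, an element is a product of a member and an odd element. -/
theorem centralizer_four {U : Subgroup G} (hU : IsFour U) {t g : G} (ht : t ∈ U)
    (hg : g ∈ centralizer (U : Set G)) :
    ∃ a ∈ U, ∃ b ∈ oc t ⊓ centralizer (U : Set G), a * b = g := by
  obtain ⟨e⟩ := h.hS
  refine ⟨Element.pPart 2 g, ?_, Element.pComplPart 2 g, ⟨?_, ?_⟩, Element.pPart_mul_pComplPart 2 g⟩
  · obtain ⟨k, hk⟩ : ∃ k, orderOf (Element.pPart 2 g) = 2 ^ k :=
      ⟨_, Element.orderOf_pPart_eq_pow Nat.prime_two g⟩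
    exact mem_four_of_centralizes e hU (k := k) (by rw [← hk, pow_orderOf_eq_one])
      (zpowers_le.2 hg (Element.pPart_mem_zpowers 2 g))
  · have hc : Element.pComplPart 2 g ∈ centralizer (U : Set G) :=
      zpowers_le.2 hg (Element.pComplPart_mem_zpowers 2 g)
    exact subset_closure ⟨Nat.coprime_two_right.1 (Element.coprime_orderOf_pComplPart Nat.prime_two g),
      (mem_centralizer_iff.1 hc t ht).symm⟩
  · exact zpowers_le.2 hg (Element.pComplPart_mem_zpowers 2 g)

end CycHyp

end Cfsg.Agent.GW
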