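import Cfsg.Agent.Char.Virtual
import Cfsg.Agent.Char.Linear
import Cfsg.Agent.Char.Kernel
import Cfsg.Agent.DihBlock.Pairs

/-!
# The exceptional generalized character attached to a linear character of a centralizer

For `H ≤ G` and a linear character `lam` of `H`, the coefficients of the class function induced
from `1 - lam`, and their moments.
-/

set_option autoImplicit false
set_option linter.style.haveILetI false

open scoped ComplexConjugate
open Cfsg

namespace Cfsg.Agent.GW

universe u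

variable {G : Type u} [Group G] [Fintype G] (H : Subgroup G) [Fintype H] (lam : H →* ℂˣ)

/-- The coefficient of an irreducible character. -/
noncomputable def coef (ψ : IrrCharacter G) : ℂ :=
  (Nat.card H : ℂ)⁻¹ * ∑ h : H, (1 - (lam h : ℂ)) * conj ((ψ : G → ℂ) h)

theorem coef_int (ψ : IrrCharacter G) : ∃ z : ℤ, coef H lam ψ = z := by
  have hres : IsCharacter H (fun h : H => (ψ : G → ℂ) h) :=
    Char.isCharacter_restrict (Char.isCharacter_of_irr ψ.2) H
  obtain ⟨a, ha⟩ := Char.isCharacter_classInner_nat hres (Char.trivialIrr H)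
  obtain ⟨b, hb⟩ := Char.isCharacter_classInner_nat hres
    ⟨_, Char.isIrrCharacter_monoidHom lam⟩
  refine ⟨(a : ℤ) - b, ?_⟩
  have e1 : classInner (fun _ : H => (1 : ℂ)) (fun h : H => (ψ : G → ℂ) h) = (a : ℂ) := by
    rw [← Char.classInner_conj]
    have := congrArg conj ha
    simpa [Char.trivialIrr] using this
  have e2 : classInner (fun h : H => (lam h : ℂ)) (fun h : H => (ψ : G → ℂ) h) = (b : ℂ) := by
    rw [← Char.classInner_conj]
    have := congrArg conj hb
    simpa using this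
  rw [Int.cast_sub, Int.cast_natCast, Int.cast_natCast, ← e1, ← e2, coef, classInner, classInner,
    ← mul_sub, ← Finset.sum_sub_distrib]
  exact congrArg _ (Finset.sum_congr rfl fun h _ => by ring)

theorem coef_trivial (hlam : lam ≠ 1) : coef H lam (Char.trivialIrr G) = 1 := by
  have h0 := Char.monoidHom_sum_eq_zero hlam
  have h1 : ∀ h : H, (1 - (lam h : ℂ)) * conj (((Char.trivialIrr G : IrrCharacter G) : G → ℂ) h)
      = 1 - (lam h : ℂ) := fun h => by
    rw [show (((Char.trivialIrr G : IrrCharacter G) : G → ℂ) h) = 1 from rfl, map_one, mul_one]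
  rw [coef, Finset.sum_congr rfl (fun h _ => h1 h), Finset.sum_sub_distrib, h0, sub_zero,
    Finset.sum_const, Finset.card_univ, nsmul_eq_mul, mul_one, ← Nat.card_eq_fintype_card]
  exact inv_mul_cancel₀ Char.card_ne_zero_complex

/-- Column orthogonality in counting form. -/
theorem sum_irr_conj_mul (a b : G) :
    ∑ ψ : IrrCharacter G, conj ((ψ : G → ℂ) a) * (ψ : G → ℂ) b
      = (Nat.card {g : G // g * a * g⁻¹ = b} : ℂ) := by
  classical
  have hcl : IsConj b a ↔ IsConj a b := isConj_comm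
  rw [Finset.sum_congr rfl (fun ψ _ => mul_comm _ _), Char.sum_irr_mul_conj]
  have h := DihBlock.sum_isConj_centralizer a ({b} : Finset G)
  rw [Finset.sum_singleton] at h
  rw [show Nat.card {g : G // g * a * g⁻¹ = b} = Nat.card {g : G // g * a * g⁻¹ ∈ ({b} : Finset G)}
      from Nat.card_congr (Equiv.subtypeEquivRight fun g => by simp), ← h]
  by_cases hab : IsConj a b
  · rw [if_pos (hcl.2 hab), if_pos hab, Nat.cast_inj]
    obtain ⟨c, hc⟩ := isConj_iff.1 hab
    refine Nat.card_congr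
      { toFun := fun x => ⟨c⁻¹ * x * c, ?_⟩
        invFun := fun x => ⟨c * x * c⁻¹, ?_⟩
        left_inv := fun x => Subtype.ext (by group)
        right_inv := fun x => Subtype.ext (by group) }
    · have hx := Subgroup.mem_centralizer_singleton_iff.1 x.2
      rw [Subgroup.mem_centralizer_singleton_iff]
      calc c⁻¹ * x * c * a = c⁻¹ * (x.1 * (c * a * c⁻¹)) * c := by group
        _ = c⁻¹ * (c * a * c⁻¹ * x.1) * c := by rw [hc, hx]
        _ = a * (c⁻¹ * x * c) := by group
    · have hx := Subgroup.mem_centralizer_singleton_iff.1 x.2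
      rw [Subgroup.mem_centralizer_singleton_iff, ← hc]
      calc c * x * c⁻¹ * (c * a * c⁻¹) = c * (x.1 * a) * c⁻¹ := by group
        _ = c * (a * x.1) * c⁻¹ := by rw [hx]
        _ = c * a * c⁻¹ * (c * x * c⁻¹) := by group
  · rw [if_neg (mt hcl.1 hab), if_neg hab]

theorem sum_coef_mul (x : G) :
    ∑ ψ : IrrCharacter G, coef H lam ψ * (ψ : G → ℂ) x
      = (Nat.card H : ℂ)⁻¹ * ∑ h : H, (1 - (lam h : ℂ)) *
          (Nat.card {g : G // g * (h : G) * g⁻¹ = x} : ℂ) := by
  simp only [coef, Finset.sum_mul, Finset.mul_sum]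
  rw [Finset.sum_comm]
  refine Finset.sum_congr rfl fun h _ => ?_
  rw [← sum_irr_conj_mul]
  simp only [Finset.mul_sum]
  exact Finset.sum_congr rfl fun ψ _ => by ring

theorem sum_coef_mul_eq_zero (x : G) (h : ∀ h : H, IsConj (h : G) x → lam h = 1) :
    ∑ ψ : IrrCharacter G, coef H lam ψ * (ψ : G → ℂ) x = 0 := by
  rw [sum_coef_mul, Finset.sum_eq_zero, mul_zero]
  intro y _
  by_cases hy : IsConj (y : G) x
  · rw [h y hy, Units.val_one, sub_self, zero_mul]
  · rw [show Nat.card {g : G // g * (y : G) * g⁻¹ = x} = 0 by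
      rw [Nat.card_eq_zero]
      exact Or.inl ⟨fun g => hy (isConj_iff.2 ⟨g.1, g.2⟩)⟩]
    simp

/-- The squared norm of the coefficient vector. -/
theorem sum_coef_sq (hlam : lam ≠ 1) (M : Subgroup G)
    (hHM : H ≤ M) (hnorm : ∀ g ∈ M, ∀ h ∈ H, g * h * g⁻¹ ∈ H)
    (hTI : ∀ (g : G) (h : H) (hg : g * (h : G) * g⁻¹ ∈ H), lam h ≠ 1 →
      lam ⟨g * (h : G) * g⁻¹, hg⟩ ≠ 1 → g ∈ M)
    (hstab : ∀ g, ∀ hg : g ∈ M, g ∉ H → ∃ h : H,
      lam ⟨g * (h : G) * g⁻¹, hnorm g hg h h.2⟩ ≠ lam h) :
    ∑ ψ : IrrCharacter G, coef H lam ψ * coef H lam ψ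
      = (Nat.card M : ℂ) / Nat.card H + 1 := by
  classical
  haveI := Fintype.ofFinite M
  have hH : (Nat.card H : ℂ) ≠ 0 := Char.card_ne_zero_complex
  have hreal : ∀ ψ, coef H lam ψ = conj (coef H lam ψ) := fun ψ => by
    obtain ⟨z, hz⟩ := coef_int H lam ψ
    rw [hz]; simp
  have e0 : ∑ ψ : IrrCharacter G, coef H lam ψ * coef H lam ψ
      = (Nat.card H : ℂ)⁻¹ * ((Nat.card H : ℂ)⁻¹ * ∑ h : H, ∑ k : H, (1 - (lam h : ℂ)) *
          conj (1 - (lam k : ℂ)) * (Nat.card {g : G // g * (h : G) * g⁻¹ = k} : ℂ)) := by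
    calc ∑ ψ : IrrCharacter G, coef H lam ψ * coef H lam ψ
        = ∑ ψ : IrrCharacter G, coef H lam ψ * conj (coef H lam ψ) := by simp only [← hreal]
      _ = (Nat.card H : ℂ)⁻¹ * ((Nat.card H : ℂ)⁻¹ * ∑ ψ : IrrCharacter G, ∑ h : H, ∑ k : H,
            (1 - (lam h : ℂ)) * conj (1 - (lam k : ℂ)) *
              (conj ((ψ : G → ℂ) h) * (ψ : G → ℂ) k)) := by
          simp only [Finset.mul_sum]
          refine Finset.sum_congr rfl fun ψ _ => ?_
          simp only [coef, map_mul, map_inv₀, map_natCast, map_sum, RingHomCompTriple.comp_apply,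
            RingHom.id_apply, Finset.sum_mul, Finset.mul_sum]
          rw [Finset.sum_comm]
          refine Finset.sum_congr rfl fun h _ => Finset.sum_congr rfl fun k _ => ?_
          ring
      _ = _ := by
          congr 2
          rw [Finset.sum_comm]
          refine Finset.sum_congr rfl fun h _ => ?_
          rw [Finset.sum_comm]
          refine Finset.sum_congr rfl fun k _ => ?_
          rw [← Finset.mul_sum, sum_irr_conj_mul]
  let φ : M → H → H := fun g h => ⟨(g : G) * h * (g : G)⁻¹, hnorm g g.2 h h.2⟩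
  have e1 : ∀ h : H, ∑ k : H, (1 - (lam h : ℂ)) * conj (1 - (lam k : ℂ)) *
        (Nat.card {g : G // g * (h : G) * g⁻¹ = k} : ℂ)
      = ∑ g : M, (1 - (lam h : ℂ)) * conj (1 - (lam (φ g h) : ℂ)) := by
    intro h
    by_cases hh : lam h = 1
    · simp [hh]
    have hk : ∀ k : H, (1 - (lam h : ℂ)) * conj (1 - (lam k : ℂ)) *
        (Nat.card {g : G // g * (h : G) * g⁻¹ = k} : ℂ)
      = ∑ g ∈ Finset.univ.filter (fun g : M => φ g h = k),
          (1 - (lam h : ℂ)) * conj (1 - (lam (φ g h) : ℂ)) := by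
      intro k
      by_cases hk1 : lam k = 1
      · rw [Finset.sum_eq_zero (fun g hg => by rw [(Finset.mem_filter.1 hg).2]; simp [hk1])]
        simp [hk1]
      rw [Finset.sum_congr rfl (fun g hg => by rw [(Finset.mem_filter.1 hg).2]), Finset.sum_const,
        nsmul_eq_mul, mul_comm]
      congr 2
      rw [← Fintype.card_subtype, ← Nat.card_eq_fintype_card]
      exact Nat.card_congr
        { toFun := fun g =>
            have hg : g.1 * (h : G) * g.1⁻¹ ∈ H := by rw [g.2]; exact k.2
            ⟨⟨g.1, hTI g.1 h hg hh (by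
              have : (⟨g.1 * (h : G) * g.1⁻¹, hg⟩ : H) = k := Subtype.ext g.2
              rw [this]; exact hk1)⟩, Subtype.ext g.2⟩
          invFun := fun g => ⟨g.1.1, congrArg Subtype.val g.2⟩
          left_inv := fun g => rfl
          right_inv := fun g => rfl }
    rw [Finset.sum_congr rfl (fun k _ => hk k), Finset.sum_fiberwise]
  rw [e0, Finset.sum_congr rfl (fun h _ => e1 h), Finset.sum_comm]
  let lamG : M → (H →* ℂˣ) := fun g =>
    { toFun := fun h => lam (φ g h)
      map_one' := by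
        rw [show φ g 1 = 1 from Subtype.ext (by simp [φ]), map_one]
      map_mul' := fun a b => by
        rw [show φ g (a * b) = φ g a * φ g b from Subtype.ext (by simp [φ, mul_assoc]), map_mul] }
  have hne : ∀ g : M, lamG g ≠ 1 := by
    intro g hg
    refine hlam (MonoidHom.ext fun h => ?_)
    have hh := DFunLike.congr_fun hg (φ g⁻¹ h)
    change lam (φ g (φ g⁻¹ h)) = _ at hh
    rw [show φ g (φ g⁻¹ h) = h from Subtype.ext (by simp [φ, mul_assoc])] at hh
    simpa using hh
  have e2 : ∀ g : M, ∑ h : H, (1 - (lam h : ℂ)) * conj (1 - (lam (φ g h) : ℂ))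
      = (Nat.card H : ℂ) + if (g : G) ∈ H then (Nat.card H : ℂ) else 0 := by
    intro g
    have hc : ∀ h : H, conj ((lam (φ g h) : ℂ)) = (((lamG g)⁻¹ h : ℂˣ) : ℂ) := by
      intro h
      rw [MonoidHom.inv_apply, Units.val_inv_eq_inv_val]
      have h1 : ‖(lam (φ g h) : ℂ)‖ = 1 := by
        refine Char.norm_eq_one_of_pow_orderOf_eq_one (φ g h) ?_
        rw [← Units.val_pow_eq_pow_val, ← map_pow, pow_orderOf_eq_one, map_one, Units.val_one]
      exact (Complex.inv_eq_conj h1).symm
    have s1 := Char.monoidHom_sum_eq_zero hlam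
    have s2 := Char.monoidHom_sum_eq_zero (f := (lamG g)⁻¹)
      (fun h => hne g (by rw [← inv_inv (lamG g), h]; exact MonoidHom.ext fun _ => inv_one))
    have s3 : ∑ h : H, (((lam * (lamG g)⁻¹) h : ℂˣ) : ℂ)
        = if (g : G) ∈ H then (Nat.card H : ℂ) else 0 := by
      split_ifs with hgH
      · have : lam * (lamG g)⁻¹ = 1 := MonoidHom.ext fun h => by
          rw [MonoidHom.mul_apply, MonoidHom.inv_apply, MonoidHom.one_apply, mul_inv_eq_one]
          show lam h = lam (φ g h)
          rw [show φ g h = ⟨g, hgH⟩ * h * ⟨g, hgH⟩⁻¹ from rfl, map_mul, map_mul, map_inv,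
            mul_comm, inv_mul_cancel_left]
        simp [this, Nat.card_eq_fintype_card]
      · refine Char.monoidHom_sum_eq_zero fun h => ?_
        obtain ⟨k, hk⟩ := hstab g g.2 hgH
        refine hk ?_
        have hh := DFunLike.congr_fun h k
        rw [MonoidHom.mul_apply, MonoidHom.inv_apply, MonoidHom.one_apply, mul_inv_eq_one] at hh
        exact hh.symm
    have : ∀ h : H, (1 - (lam h : ℂ)) * conj (1 - (lam (φ g h) : ℂ))
        = 1 - (lam h : ℂ) - (((lamG g)⁻¹ h : ℂˣ) : ℂ) + (((lam * (lamG g)⁻¹) h : ℂˣ) : ℂ) := by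
      intro h
      rw [map_sub, map_one, hc, MonoidHom.mul_apply, Units.val_mul]
      ring
    rw [Finset.sum_congr rfl (fun h _ => this h), Finset.sum_add_distrib, Finset.sum_sub_distrib,
      Finset.sum_sub_distrib, s1, s2, s3]
    simp [Nat.card_eq_fintype_card]
  rw [Finset.sum_congr rfl (fun g _ => e2 g), Finset.sum_add_distrib, Finset.sum_const,
    Finset.card_univ, nsmul_eq_mul, ← Nat.card_eq_fintype_card, ← Finset.sum_filter,
    Finset.sum_const, nsmul_eq_mul]
  have hc : (Finset.univ.filter fun g : M => (g : G) ∈ H).card = Nat.card H := by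
    rw [← Fintype.card_subtype, ← Nat.card_eq_fintype_card]
    exact Nat.card_congr
      { toFun := fun g => ⟨g.1.1, g.2⟩
        invFun := fun h => ⟨⟨h.1, hHM h.2⟩, h.2⟩
        left_inv := fun g => rfl
        right_inv := fun h => rfl }
  rw [hc]
  field_simp

/-- The moment against squares of values at `t`. -/
theorem sum_coef_pairs (t : G) :
    ∑ ψ : IrrCharacter G, coef H lam ψ * (ψ : G → ℂ) t ^ 2 / (ψ : G → ℂ) 1
      = (Nat.card (Subgroup.centralizer ({t} : Set G)) : ℂ) ^ 2 /
          ((Nat.card G : ℂ) * Nat.card H) * ∑ h : H, (1 - (lam h : ℂ)) *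
          (Nat.card {st : G × G // IsConj t st.1 ∧ IsConj t st.2 ∧ st.1 * st.2 = (h : G)} : ℂ) := by
  classical
  have hG : (Nat.card G : ℂ) ≠ 0 := Char.card_ne_zero_complex
  have key : ∀ h : H, (Nat.card (Subgroup.centralizer ({t} : Set G)) : ℂ) ^ 2 *
      (Nat.card {st : G × G // IsConj t st.1 ∧ IsConj t st.2 ∧ st.1 * st.2 = (h : G)} : ℂ)
      = (Nat.card G : ℂ) * ∑ χ : IrrCharacter G,
          conj ((χ : G → ℂ) h) * (χ : G → ℂ) t ^ 2 / (χ : G → ℂ) 1 := by
    intro h
    have h1 := DihBlock.card_pairs_eq_sum t ({(h : G)} : Finset G)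
    rw [DihBlock.card_pairs_class] at h1
    simp only [Finset.sum_singleton, Nat.cast_mul, Nat.cast_pow] at h1
    rw [← h1]
    congr 2
    exact Nat.card_congr (Equiv.subtypeEquivRight fun st => by simp)
  rw [Finset.mul_sum, Finset.sum_congr rfl (fun h _ => show
      (Nat.card (Subgroup.centralizer ({t} : Set G)) : ℂ) ^ 2 / ((Nat.card G : ℂ) * Nat.card H) *
        ((1 - (lam h : ℂ)) * (Nat.card {st : G × G //
          IsConj t st.1 ∧ IsConj t st.2 ∧ st.1 * st.2 = (h : G)} : ℂ))
      = (Nat.card H : ℂ)⁻¹ * ((1 - (lam h : ℂ)) * ∑ χ : IrrCharacter G,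
          conj ((χ : G → ℂ) h) * (χ : G → ℂ) t ^ 2 / (χ : G → ℂ) 1) by
    rw [div_mul_eq_mul_div, mul_left_comm, key h]
    field_simp)]
  simp only [coef, mul_assoc, Finset.sum_mul, Finset.mul_sum, Finset.sum_div]
  rw [Finset.sum_comm]
  refine Finset.sum_congr rfl fun h _ => Finset.sum_congr rfl fun χ _ => ?_
  ring

theorem sum_coef_block (B : Finset (IrrCharacter G)) (t : G) :
    ∑ ψ ∈ B, coef H lam ψ * (ψ : G → ℂ) t
      = (Nat.card H : ℂ)⁻¹ * ∑ h : H, (1 - (lam h : ℂ)) *
          ∑ ψ ∈ B, (ψ : G → ℂ) t * conj ((ψ : G → ℂ) h) := by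
  simp only [coef, mul_assoc, Finset.sum_mul, Finset.mul_sum]
  rw [Finset.sum_comm]
  refine Finset.sum_congr rfl fun h _ => Finset.sum_congr rfl fun ψ _ => ?_
  ring

end Cfsg.Agent.GW
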