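import Cfsg.Agent.GW.CycTools
import Cfsg.Agent.GW.Engine
import Cfsg.Agent.DihBlock.Sections
import Cfsg.Agent.Brauer.KleinFour
import Cfsg.Agent.Char.InvolutionCount

/-!
# Character facts for simple groups with dihedral Sylow 2-subgroups and one class of involutions
-/

set_option autoImplicit false
set_option linter.style.haveILetI false
set_option linter.unusedSectionVars false

open scoped ComplexConjugate
open Cfsg

namespace Cfsg.Agent.GW

open Cfsg.Agent.TwoGroups Cfsg.Agent.TwoFusion Subgroup DihBlock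

universe u

/-- An irreducible character takes an integer value at an involution. -/
theorem irr_value_int {G : Type u} [Group G] [Finite G] (ψ : IrrCharacter G) {t : G}
    (ht : orderOf t = 2) : ∃ z : ℤ, (ψ : G → ℂ) t = z := by
  obtain ⟨m, ρ, -, hρ⟩ := ψ.2
  obtain ⟨ε, hε, hpow⟩ := Char.exists_character_eq_sum_roots ρ t
  have h1 := hpow 1
  simp only [pow_one] at h1
  have h2 : ∀ i, ∃ z : ℤ, ε i = z := fun i => by
    have h3 := hε i
    rw [ht, sq] at h3
    rcases mul_self_eq_one_iff.1 h3 with h | h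
    · exact ⟨1, by simp [h]⟩
    · exact ⟨-1, by simp [h]⟩
  choose z hz using h2
  exact ⟨∑ i, z i, by
    rw [← hρ, h1]; push_cast; exact Finset.sum_congr rfl fun i _ => hz i⟩

namespace CycHyp

variable {G : Type u} [Group G] [Fintype G] {S : Sylow 2 G} {n : ℕ} (h : CycHyp S n)
include h

theorem hasComplement {t : G} (ht : orderOf t = 2) :
    HasNormalPComplement 2 (centralizer ({t} : Set G)) := by
  haveI : Fact (Nat.Prime 2) := ⟨Nat.prime_two⟩
  obtain ⟨N, hN, hNo, k, hk⟩ : ∃ N : Subgroup (centralizer ({t} : Set G)), N.Normal ∧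
      Odd (Nat.card N) ∧ ∃ k : ℕ, N.index = 2 ^ k := S0514.result S n h.hn h.hS t ht
  obtain ⟨P⟩ : Nonempty (Sylow 2 (centralizer ({t} : Set G))) := inferInstance
  refine ⟨P, N, hN, isComplement'_of_coprime ?_ ?_⟩
  · rw [P.card_eq_multiplicity, ← N.index_mul_card, hk, mul_comm, Nat.factorization_mul
      (pow_ne_zero _ two_ne_zero) Nat.card_pos.ne', Finsupp.add_apply,
      Nat.prime_two.factorization_pow, Finsupp.single_eq_same,
      Nat.factorization_eq_zero_of_not_dvd hNo.not_two_dvd_nat, add_zero]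
  · obtain ⟨a, ha⟩ := IsPGroup.iff_card.1 P.isPGroup'
    rw [ha]
    exact Nat.Coprime.pow_right a hNo.coprime_two_right

theorem ordProj_centralizer {t : G} (ht : orderOf t = 2) :
    ordProj[2] (Nat.card (centralizer ({t} : Set G))) = Nat.card (S : Subgroup G) := by
  haveI : Fact (Nat.Prime 2) := ⟨Nat.prime_two⟩
  obtain ⟨-, ho, hc⟩ := h.oc_spec ht
  obtain ⟨a, ha⟩ := IsPGroup.iff_card.1 S.isPGroup'
  rw [hc, ha, Nat.factorization_mul Nat.card_pos.ne' (pow_ne_zero _ two_ne_zero), Finsupp.add_apply,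
    Nat.prime_two.factorization_pow, Finsupp.single_eq_same,
    Nat.factorization_eq_zero_of_not_dvd ho.not_two_dvd_nat, zero_add]

/-- A nontrivial irreducible character is not linear. -/
theorem eq_trivial_of_degree_one (ψ : IrrCharacter G) (h1 : (ψ : G → ℂ) 1 = 1) :
    ψ = Char.trivialIrr G := by
  obtain ⟨f, hf⟩ := Char.exists_monoidHom_of_degree_one (Char.isCharacter_of_irr ψ.2) h1
  haveI := h.simple
  have hker : f.ker = ⊤ := (inferInstance : f.ker.Normal).eq_bot_or_eq_top.resolve_left fun hb => by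
    have hinj := (MonoidHom.ker_eq_bot_iff f).1 hb
    have hc : center G = ⊤ := eq_top_iff.2 fun a _ => mem_center_iff.2 fun b =>
      hinj (by rw [map_mul, map_mul, mul_comm])
    rw [h.center_eq_bot] at hc
    have h1 : Nat.card G = 1 := by rw [← card_top (G := G), ← hc, card_bot]
    have := h.four_dvd
    omega
  refine Subtype.ext (funext fun g => ?_)
  rw [hf]
  change (f g : ℂ) = 1
  rw [MonoidHom.mem_ker.1 (hker ▸ mem_top g), Units.val_one]

/-- Congruence modulo four from a four-group. -/
theorem four_congr {U : Subgroup G} (hU : IsFour U) (ψ : IrrCharacter G) {t : G} (ht : orderOf t = 2)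
    {d z : ℤ} (hd : (ψ : G → ℂ) 1 = d) (hz : (ψ : G → ℂ) t = z) : (4 : ℤ) ∣ d + 3 * z := by
  classical
  haveI := Fintype.ofFinite U
  obtain ⟨m, hm⟩ := Brauer.exists_sum_subgroup_eq_card_mul (Char.isCharacter_of_irr ψ.2) U
  rw [← Finset.add_sum_erase _ _ (Finset.mem_univ (1 : U)),
    Finset.sum_congr rfl (g := fun _ => (z : ℂ)) (fun x hx => ?_), Finset.sum_const, nsmul_eq_mul,
    OneMemClass.coe_one, hd, hU.1, Finset.card_erase_of_mem (Finset.mem_univ _), Finset.card_univ,
    ← Nat.card_eq_fintype_card, hU.1] at hm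
  · exact ⟨m, by exact_mod_cast hm⟩
  · have hx1 : (x : G) ≠ 1 := fun e => (Finset.mem_erase.mp hx).1 (Subtype.ext e)
    rw [← hz]
    exact (Char.isClassFunction_eq_of_isConj (Char.irr_isClassFunction ψ.2)
      (h.all_conj t x ht (orderOf_eq_prime (by rw [pow_two]; exact hU.2 x x.2) hx1))).symm

theorem column_sq {M : Ideal AlgInt} (hM : IsPModular 2 M) {t : G} (ht : orderOf t = 2) :
    ∑ χ ∈ pb M G, (χ : G → ℂ) t ^ 2 = (Nat.card (S : Subgroup G) : ℂ) := by
  classical
  have ht' : orderOf t = 2 ^ 1 := by rw [pow_one, ht]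
  have h1 := DihBlock.col hM ht' ht' (h.hasComplement ht)
  rw [if_pos (IsConj.refl t), h.ordProj_centralizer ht] at h1
  rw [← h1]
  refine Finset.sum_congr rfl fun χ _ => ?_
  obtain ⟨z, hz⟩ := irr_value_int χ ht
  rw [hz, map_intCast, sq]

/-- The inner product of the column at an involution with the coefficient vector, over the block. -/
theorem block_coef {M : Ideal AlgInt} (hM : IsPModular 2 M) {t : G} (ht : orderOf t = 2)
    (H : Subgroup G) [Fintype H] (lam : H →* ℂˣ) [DecidablePred fun x : H => IsConj t (Element.pPart 2 (x : G))] :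
    ∑ ψ ∈ pb M G, coef H lam ψ * (ψ : G → ℂ) t
      = (Nat.card (S : Subgroup G) : ℂ) * ((Nat.card H : ℂ)⁻¹ *
          ∑ x : H, if IsConj t (Element.pPart 2 (x : G)) then 1 - (lam x : ℂ) else 0) := by
  classical
  rw [sum_coef_block, mul_left_comm, Finset.mul_sum (a := (Nat.card (S : Subgroup G) : ℂ))]
  refine congrArg _ (Finset.sum_congr rfl fun x _ => ?_)
  have ht' : orderOf t = 2 ^ 1 := by rw [pow_one, ht]
  split_ifs with hx
  · have hv : orderOf (Element.pPart 2 (x : G)) = 2 := by
      obtain ⟨g, hg⟩ := isConj_iff.1 hx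
      rw [← hg, ← MulAut.conj_apply, MulEquiv.orderOf_eq, ht]
    have hy : ¬ 2 ∣ orderOf (Element.pComplPart 2 (x : G)) := fun hd => by
      have := Element.coprime_orderOf_pComplPart Nat.prime_two (x : G)
      exact absurd (Nat.eq_one_of_dvd_coprimes this hd dvd_rfl) (by norm_num)
    have hval : ∀ χ ∈ pb M G, (χ : G → ℂ) x = (χ : G → ℂ) t := fun χ hχ => by
      have h2 := DihBlock.value hM (v := Element.pPart 2 (x : G)) (y := Element.pComplPart 2 (x : G))
        (k := 1) (by rw [pow_one, hv]) (h.hasComplement hv)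
        (mem_centralizer_singleton_iff.2 (Element.commute_pPart_pComplPart 2 (x : G)).symm.eq) hy hχ
      rw [Element.pPart_mul_pComplPart] at h2
      rw [h2]
      exact (Char.isClassFunction_eq_of_isConj (Char.irr_isClassFunction χ.2) hx).symm
    rw [mul_comm ((Nat.card (S : Subgroup G) : ℂ)), ← h.column_sq hM ht]
    congr 1
    refine Finset.sum_congr rfl fun χ hχ => ?_
    obtain ⟨z, hz⟩ := irr_value_int χ ht
    rw [hval χ hχ, hz, map_intCast, sq]
  · rw [mul_zero]
    refine mul_eq_zero_of_right _ ?_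
    haveI := Fintype.ofFinite (centralizer ({t} : Set G))
    have h2 := Brauer.principal_column_eq_zero hM ht' (centralizer ({t} : Set G)) rfl 1 (g := (x : G))
      (by rw [orderOf_one]; norm_num) hx
    rw [finsum_pb] at h2
    simpa using h2

end CycHyp

end Cfsg.Agent.GW
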