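import Cfsg.Agent.GW.CycFour

/-!
# Sylow 2-subgroups of order at least eight: automorphisms at a smallest prime
-/

set_option autoImplicit false
set_option linter.style.haveILetI false
set_option linter.unusedSectionVars false

open Cfsg

namespace Cfsg.Agent.GW

open Cfsg.Agent.TwoGroups Cfsg.Agent.TwoFusion Subgroup

/-- Two conjugations of a cyclic subgroup commute. -/
theorem conj_comm_of_cyclic {G : Type*} [Group G] [Finite G] {u a b : G}
    (ha : a ∈ normalizer (zpowers u : Set G)) (hb : b ∈ normalizer (zpowers u : Set G)) :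
    a * b * a⁻¹ * b⁻¹ * u * (a * b * a⁻¹ * b⁻¹)⁻¹ = u := by
  haveI : IsCyclic (zpowers u) := inferInstance
  have hm : ∀ g ∈ normalizer (zpowers u : Set G), ∀ m ∈ zpowers u, g * m * g⁻¹ ∈ zpowers u :=
    fun g hg m hm => (Subgroup.mem_normalizer_iff.1 hg m).1 hm
  have hx : a⁻¹ * (b⁻¹ * u * b) * a ∈ zpowers u := by
    have h1 := hm b⁻¹ (inv_mem hb) u (mem_zpowers u)
    rw [inv_inv] at h1
    simpa using hm a⁻¹ (inv_mem ha) _ h1
  have h2 := FGSev.conj_conj_comm (M := zpowers u) (hm a ha) (hm b hb) hx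
  calc a * b * a⁻¹ * b⁻¹ * u * (a * b * a⁻¹ * b⁻¹)⁻¹
      = a * (b * (a⁻¹ * (b⁻¹ * u * b) * a) * b⁻¹) * a⁻¹ := by group
    _ = b * (a * (a⁻¹ * (b⁻¹ * u * b) * a) * a⁻¹) * b⁻¹ := h2
    _ = u := by group

/-- An element whose square centralises an element of prime order centralises or inverts it. -/
theorem pm_of_sq {G : Type*} [Group G] [Finite G] {p : ℕ} [Fact p.Prime] {u g : G}
    (hu : orderOf u = p) (hg : g ∈ normalizer (zpowers u : Set G))
    (hsq : g * g * u * (g * g)⁻¹ = u) : g * u * g⁻¹ = u ∨ g * u * g⁻¹ = u⁻¹ := by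
  obtain ⟨e, he⟩ := (Subgroup.mem_normalizer_iff.1 hg u).1 (mem_zpowers u)
  simp only at he
  have h2 : u ^ (e * e) = u := by
    rw [zpow_mul, he, conj_zpow, he]
    simpa [mul_assoc] using hsq
  have h3 : ((e * e - 1 : ℤ) : ZMod p) = 0 := by
    rw [ZMod.intCast_zmod_eq_zero_iff_dvd, ← hu, orderOf_dvd_iff_zpow_eq_one, zpow_sub, h2, zpow_one,
      mul_inv_cancel]
  push_cast at h3
  rcases mul_self_eq_one_iff.1 (sub_eq_zero.1 h3) with h | h
  · left
    have : u ^ (e - 1) = 1 := by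
      rw [← orderOf_dvd_iff_zpow_eq_one, hu, ← ZMod.intCast_zmod_eq_zero_iff_dvd]
      push_cast; rw [h, sub_self]
    rw [zpow_sub, zpow_one, mul_inv_eq_one] at this
    rw [← he, this]
  · right
    have : u ^ (e + 1) = 1 := by
      rw [← orderOf_dvd_iff_zpow_eq_one, hu, ← ZMod.intCast_zmod_eq_zero_iff_dvd]
      push_cast; rw [h, neg_add_cancel]
    rw [zpow_add, zpow_one] at this
    rw [← he, eq_inv_of_mul_eq_one_left this]

/-- An element of odd order that centralises or inverts an element centralises it. -/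
theorem centralizes_of_odd_pm {G : Type*} [Group G] [Finite G] {u b : G} (hb : Odd (orderOf b))
    (h : b * u * b⁻¹ = u ∨ b * u * b⁻¹ = u⁻¹) : b * u * b⁻¹ = u := by
  rcases h with h | h
  · exact h
  have hc : Commute (b * b) u := by
    refine mul_inv_eq_iff_eq_mul.1 ?_
    calc b * b * u * (b * b)⁻¹ = b * (b * u * b⁻¹) * b⁻¹ := by group
      _ = (b * u * b⁻¹)⁻¹ := by nth_rewrite 1 [h]; group
      _ = u := by rw [h, inv_inv]
  obtain ⟨k, hk⟩ := hb
  have hbb : b = (b * b) ^ (k + 1) := by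
    rw [← pow_two, ← pow_mul, show 2 * (k + 1) = orderOf b + 1 by omega, pow_succ, pow_orderOf_eq_one,
      one_mul]
  rw [hbb, (hc.pow_left _).eq, mul_inv_cancel_right]

namespace CycHyp

variable {G : Type*} [Group G] [Finite G] {S : Sylow 2 G} {n : ℕ} (h : CycHyp S n)
include h

theorem exists_ne_one {V : Subgroup G} (hV : IsFour V) : ∃ t ∈ V, t ≠ 1 := by
  by_contra hc; push Not at hc
  have : V = ⊥ := eq_bot_iff.2 fun v hv => mem_bot.2 (hc v hv)
  have h4 := hV.1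
  rw [this, Subgroup.card_bot] at h4; omega

/-- An element of `C(V)` normalising `⟨u⟩` centralises it, for a smallest prime. -/
theorem cen_of_min {V : Subgroup G} (hV : IsFour V) {p : ℕ} [Fact p.Prime] {u : G}
    (hu : orderOf u = p)
    (hmin : ∀ (x : G) (q : ℕ), q.Prime → q ≠ 2 → orderOf x = q → x ∈ centralizer (V : Set G) → p ≤ q)
    (huV : u ∈ centralizer (V : Set G)) {g : G} (hg : g ∈ centralizer (V : Set G))
    (hgN : g ∈ normalizer (zpowers u : Set G)) : g * u * g⁻¹ = u := by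
  obtain ⟨t, htV, ht1⟩ := h.exists_ne_one hV
  have ht : orderOf t = 2 := orderOf_eq_prime (by rw [pow_two]; exact hV.2 t htV) ht1
  obtain ⟨a, ha, b, hb, rfl⟩ := h.centralizer_four hV htV hg
  have hau : a * u * a⁻¹ = u := mul_inv_eq_iff_eq_mul.2 (mem_centralizer_iff.1 huV a ha)
  have haN : a ∈ normalizer (zpowers u : Set G) := by
    rw [← TwoFusion.map_conj_eq_self_iff_mem_normalizer, MonoidHom.map_zpowers]
    simp only [MulEquiv.coe_toMonoidHom, MulAut.conj_apply, hau]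
  have hbN : b ∈ normalizer (zpowers u : Set G) := by
    have := mul_mem (inv_mem haN) hgN
    simpa [← mul_assoc] using this
  suffices hbu : b * u * b⁻¹ = u by
    calc a * b * u * (a * b)⁻¹ = a * (b * u * b⁻¹) * a⁻¹ := by group
      _ = u := by rw [hbu, hau]
  obtain ⟨e, he⟩ := (Subgroup.mem_normalizer_iff.1 hbN u).1 (mem_zpowers u)
  simp only at he
  have hpow : ∀ k : ℕ, b ^ k * u * (b ^ k)⁻¹ = u ^ e ^ k := by
    intro k
    induction k with
    | zero => simp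
    | succ k ih =>
      rw [pow_succ' b, show b * b ^ k * u * (b * b ^ k)⁻¹ = b * (b ^ k * u * (b ^ k)⁻¹) * b⁻¹ by group,
        ih, ← conj_zpow, ← he, ← zpow_mul, pow_succ']
  have hodd : Odd (orderOf b) := ((h.mem_oc ht).1 hb.1).1
  have h1 : ((e : ZMod p)) ^ orderOf b = 1 := by
    have := hpow (orderOf b)
    rw [pow_orderOf_eq_one, one_mul, inv_one, mul_one] at this
    have h2 : u ^ (e ^ orderOf b - 1) = 1 := by rw [zpow_sub, ← this, zpow_one, mul_inv_cancel]
    rw [← orderOf_dvd_iff_zpow_eq_one, hu, ← ZMod.intCast_zmod_eq_zero_iff_dvd, Int.cast_sub,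
      Int.cast_pow, Int.cast_one, sub_eq_zero] at h2
    exact h2
  have he0 : (e : ZMod p) ≠ 0 := fun e0 => by
    rw [e0, zero_pow (Nat.pos_iff_ne_zero.1 hodd.pos)] at h1
    exact zero_ne_one h1
  have h3 : orderOf (e : ZMod p) ∣ p - 1 := orderOf_dvd_of_pow_eq_one (ZMod.pow_card_sub_one_eq_one he0)
  have h4 : orderOf (e : ZMod p) ∣ orderOf b := orderOf_dvd_of_pow_eq_one h1
  have h5 : orderOf (e : ZMod p) = 1 := by
    by_contra hne1
    obtain ⟨q, hq, hqd⟩ := Nat.exists_prime_and_dvd hne1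
    have hq2 : q ≠ 2 := by
      rintro rfl
      exact hodd.not_two_dvd_nat (hqd.trans h4)
    have := hmin _ q hq hq2 (orderOf_pow_orderOf_div (orderOf_pos b).ne' (hqd.trans h4))
      (pow_mem hb.2 _)
    have hp2 := (Fact.out : p.Prime).two_le
    have := Nat.le_of_dvd (by omega) (hqd.trans h3)
    omega
  rw [orderOf_eq_one_iff, ← Int.cast_one, ZMod.intCast_eq_intCast_iff_dvd_sub] at h5
  have h6 : u ^ (1 - e) = 1 := by rw [← orderOf_dvd_iff_zpow_eq_one, hu]; exact h5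
  rw [zpow_sub, zpow_one, mul_inv_eq_one] at h6
  rw [← he, ← h6]

/-- A three-cycle centralising `u`, and the sign of the action on `⟨u⟩`. -/
theorem cycle_local (h4 : 4 < Nat.card (S : Subgroup G)) {V : Subgroup G} (hV : IsFour V) {p : ℕ}
    [Fact p.Prime] (hp2 : p ≠ 2) {u : G} (hu : orderOf u = p) (huV : u ∈ centralizer (V : Set G))
    (hmin : ∀ (x : G) (q : ℕ), q.Prime → q ≠ 2 → orderOf x = q → x ∈ centralizer (V : Set G) → p ≤ q) :
    ∃ y ∈ normalizer (V : Set G), y * u * y⁻¹ = u ∧ (∀ v ∈ V, v ≠ 1 → y * v * y⁻¹ ≠ v) ∧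
      (∀ v ∈ V, v ≠ 1 → ∀ v' ∈ V, v' ≠ 1 →
        v' = v ∨ v' = y * v * y⁻¹ ∨ v' = y * (y * v * y⁻¹) * y⁻¹) ∧
      ∀ g ∈ normalizer (V : Set G), g ∈ normalizer (zpowers u : Set G) →
        g * u * g⁻¹ = u ∨ g * u * g⁻¹ = u⁻¹ := by
  have hp : p.Prime := Fact.out
  obtain ⟨t, htV, ht1⟩ := h.exists_ne_one hV
  have ht : orderOf t = 2 := orderOf_eq_prime (by rw [pow_two]; exact hV.2 t htV) ht1
  set W := oc t ⊓ centralizer (V : Set G) with hW
  have hmemW : ∀ x, x ∈ centralizer (V : Set G) → Odd (orderOf x) → x ∈ W := fun x hx ho =>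
    ⟨(h.mem_oc ht).2 ⟨ho, (mem_centralizer_iff.1 hx t htV).symm⟩, hx⟩
  have hpodd : Odd p := hp.odd_of_ne_two hp2
  have huW : u ∈ W := hmemW u huV (hu ▸ hpodd)
  have hlift : ∀ g ∈ normalizer (V : Set G), ∃ k ∈ centralizer (V : Set G),
      k * g ∈ normalizer (zpowers u : Set G) := by
    intro g hg
    have h1 : g * u * g⁻¹ ∈ centralizer (V : Set G) := by
      haveI := normal_centralizer_subgroupOf V
      exact this.conj_mem ⟨u, Subgroup.centralizer_le_normalizer _ huV⟩ huV ⟨g, hg⟩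
    have h2 : orderOf (g * u * g⁻¹) = p := by rw [← MulAut.conj_apply, MulEquiv.orderOf_eq, hu]
    obtain ⟨k, hk, hke⟩ := h.exists_conj_zpowers hp hp2 (hmemW _ h1 (h2 ▸ hpodd)) huW h2 hu
    refine ⟨k, hk.2, ?_⟩
    rw [← TwoFusion.map_conj_eq_self_iff_mem_normalizer, MonoidHom.map_zpowers]
    simpa [MulAut.conj_apply, mul_assoc] using hke
  have hact : ∀ k ∈ centralizer (V : Set G), ∀ g ∈ normalizer (V : Set G), ∀ v ∈ V,
      k * g * v * (k * g)⁻¹ = g * v * g⁻¹ := by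
    intro k hk g hg v hv
    have hm := mem_centralizer_iff.1 hk _ ((Subgroup.mem_normalizer_iff.1 hg v).1 hv)
    calc k * g * v * (k * g)⁻¹ = k * (g * v * g⁻¹) * k⁻¹ := by group
      _ = g * v * g⁻¹ := by rw [← hm, mul_inv_cancel_right]
  obtain ⟨r0, hr0, -, hr0f, -⟩ := h.three_cycle hV
  obtain ⟨k1, hk1, hrN⟩ := hlift r0 hr0
  obtain ⟨s0, hs0, hs0C, hs02⟩ := h.exists_of_prime_dvd_relIndex (U := V) Nat.prime_two (by
    rcases h.relIndex_cases hV with e | ⟨e, -⟩
    · exfalso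
      haveI : Fact (Nat.Prime 2) := ⟨Nat.prime_two⟩
      obtain ⟨T, hT⟩ := (isPGroup_four hV).exists_le_sylow
      obtain ⟨e'⟩ := (h.of_sylow T).hS
      have hcT : Nat.card (T : Subgroup G) = Nat.card (S : Subgroup G) := Nat.card_congr (Sylow.equiv T S).toEquiv
      rcases TwoFusion.dihedral_cases h.hn e' with h4' | ⟨⟨k, a, b, hd⟩, -⟩
      · have := h4'.1
        omega
      · rw [TwoFusion.Dih.six_of_all_conj hd (h.of_sylow T).all_conj hV hT] at e; omega
    · rw [e]; norm_num)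
  obtain ⟨k2, hk2, hsN⟩ := hlift s0 hs0
  set r := k1 * r0 with hr
  set s := k2 * s0 with hs
  have hrV : r ∈ normalizer (V : Set G) := mul_mem (Subgroup.centralizer_le_normalizer _ hk1) hr0
  have hsV : s ∈ normalizer (V : Set G) := mul_mem (Subgroup.centralizer_le_normalizer _ hk2) hs0
  have hrf : ∀ v ∈ V, v ≠ 1 → r * v * r⁻¹ ≠ v := fun v hv hv1 => by
    rw [hr, hact k1 hk1 r0 hr0 v hv]; exact hr0f v hv hv1
  have hmem : ∀ g ∈ normalizer (V : Set G), ∀ v ∈ V, g * v * g⁻¹ ∈ V := fun g hg v hv =>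
    (Subgroup.mem_normalizer_iff.1 hg v).1 hv
  have hne1 : ∀ g v : G, v ≠ 1 → g * v * g⁻¹ ≠ 1 := fun g v hv e => hv (by
    rw [show v = g⁻¹ * (g * v * g⁻¹) * g by group, e]; group)
  have hinj : ∀ g v v' : G, g * v * g⁻¹ = g * v' * g⁻¹ → v = v' := fun g v v' e =>
    mul_left_cancel (mul_right_cancel e)
  -- the transposition
  have hs2 : ∀ v ∈ V, s * (s * v * s⁻¹) * s⁻¹ = v := by
    intro v hv
    rw [hs, hact k2 hk2 s0 hs0 v hv, hact k2 hk2 s0 hs0 _ (hmem s0 hs0 v hv)]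
    have := mem_centralizer_iff.1 hs02 v hv
    calc s0 * (s0 * v * s0⁻¹) * s0⁻¹ = s0 ^ 2 * v * (s0 ^ 2)⁻¹ := by simp [pow_two, mul_assoc]
      _ = v := by rw [← this, mul_inv_cancel_right]
  obtain ⟨a, ha, ha1, hsa⟩ : ∃ a ∈ V, a ≠ 1 ∧ s * a * s⁻¹ ≠ a := by
    by_contra hc; push Not at hc
    refine hs0C (mem_centralizer_iff.2 fun v hv => ?_)
    by_cases hv1 : v = 1
    · simp [hv1]
    · have := hc v hv hv1
      rw [hs, hact k2 hk2 s0 hs0 v hv] at this
      exact (mul_inv_eq_iff_eq_mul.1 this).symm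
  obtain ⟨a, b, c, ha, hb, hc, ha1, hb1, hc1, hab, hca, hcb, hσa, hσb, hσc, hρc⟩ : ∃ a b c,
      a ∈ V ∧ b ∈ V ∧ c ∈ V ∧ a ≠ 1 ∧ b ≠ 1 ∧ c ≠ 1 ∧ a ≠ b ∧ c ≠ a ∧ c ≠ b ∧
      s * a * s⁻¹ = b ∧ s * b * s⁻¹ = a ∧ s * c * s⁻¹ = c ∧ r * c * r⁻¹ = a := by
    set b := s * a * s⁻¹ with hb'
    have hb := hmem s hsV a ha
    have hb1 : b ≠ 1 := hne1 s a ha1
    have hσb : s * b * s⁻¹ = a := hs2 a ha
    have hab : a ≠ b := Ne.symm hsa
    have hc1 : a * b ≠ 1 := fun e => hab (by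
      rw [eq_inv_of_mul_eq_one_left e, inv_eq_of_mul_eq_one_right (hV.2 b hb)])
    have hσc : s * (a * b) * s⁻¹ = a * b := by
      rw [← conj_mul, ← hb', hσb, hV.comm hb ha]
    have hca : a * b ≠ a := fun e => hb1 (mul_left_cancel (e.trans (mul_one a).symm))
    have hcb : a * b ≠ b := fun e => ha1 (mul_right_cancel (e.trans (one_mul b).symm))
    rcases four_split hV ha hb ha1 hb1 hab (hmem r hrV _ (mul_mem ha hb)) with e | e | e | e
    · exact absurd e (hne1 r _ hc1)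
    · exact ⟨a, b, a * b, ha, hb, mul_mem ha hb, ha1, hb1, hc1, hab, hca, hcb, rfl, hσb, hσc, e⟩
    · exact ⟨b, a, a * b, hb, ha, mul_mem ha hb, hb1, ha1, hc1, Ne.symm hab, hcb, hca, hσb, rfl,
        hσc, e⟩
    · exact absurd e (hrf _ (mul_mem ha hb) hc1)
  have hsplit : ∀ v ∈ V, v ≠ 1 → v = a ∨ v = b ∨ v = c := by
    intro v hv hv1
    rcases four_split hV ha hb ha1 hb1 hab hv with e | e | e | e
    · exact absurd e hv1
    · exact Or.inl e
    · exact Or.inr (Or.inl e)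
    · rcases four_split hV ha hb ha1 hb1 hab hc with d | d | d | d
      · exact absurd d hc1
      · exact absurd d hca
      · exact absurd d hcb
      · exact Or.inr (Or.inr (e.trans d.symm))
  have hρa : r * a * r⁻¹ = b := by
    rcases hsplit _ (hmem r hrV a ha) (hne1 r a ha1) with e | e | e
    · exact absurd e (hrf a ha ha1)
    · exact e
    · exfalso
      rcases hsplit _ (hmem r hrV b hb) (hne1 r b hb1) with d | d | d
      · exact hcb (hinj r _ _ (hρc.trans d.symm))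
      · exact hrf b hb hb1 d
      · exact hab (hinj r _ _ (e.trans d.symm))
  have hρb : r * b * r⁻¹ = c := by
    rcases hsplit _ (hmem r hrV b hb) (hne1 r b hb1) with d | d | d
    · exact absurd (hinj r _ _ (hρc.trans d.symm)) hcb
    · exact absurd d (hrf b hb hb1)
    · exact d
  have inv' : ∀ g v v' : G, g * v * g⁻¹ = v' → g⁻¹ * v' * g = v := fun g v v' e => by rw [← e]; group
  set y := r * s * r⁻¹ * s⁻¹ with hy
  have hyv : ∀ v, y * v * y⁻¹ = r * (s * (r⁻¹ * (s⁻¹ * v * s) * r) * s⁻¹) * r⁻¹ := fun v => by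
    rw [hy]; group
  have ya : y * a * y⁻¹ = c := by
    rw [hyv, inv' s b a hσb, inv' r a b hρa, hσa, hρb]
  have yb : y * b * y⁻¹ = a := by
    rw [hyv, inv' s a b hσa, inv' r c a hρc, hσc, hρc]
  have yc : y * c * y⁻¹ = b := by
    rw [hyv, inv' s c c hσc, inv' r b c hρb, hσb, hρa]
  have hyV : y ∈ normalizer (V : Set G) := mul_mem (mul_mem (mul_mem hrV hsV) (inv_mem hrV)) (inv_mem hsV)
  have hyu : y * u * y⁻¹ = u := conj_comm_of_cyclic hrN hsN
  refine ⟨y, hyV, hyu, fun v hv hv1 => ?_, fun v hv hv1 v' hv' hv1' => ?_, fun g hgV hgN => ?_⟩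
  · rcases hsplit v hv hv1 with e | e | e <;> rw [e]
    · rw [ya]; exact hca
    · rw [yb]; exact hab
    · rw [yc]; exact Ne.symm hcb
  · rcases hsplit v hv hv1 with e | e | e <;> subst e
    · rw [ya, yc]; rcases hsplit v' hv' hv1' with e | e | e <;> simp [e]
    · rw [yb, ya]; rcases hsplit v' hv' hv1' with e | e | e <;> simp [e]
    · rw [yc, yb]; rcases hsplit v' hv' hv1' with e | e | e <;> simp [e]
  · -- reduce modulo the three-cycle to an element fixing `c`
    have hyN : y ∈ normalizer (zpowers u : Set G) :=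
      mul_mem (mul_mem (mul_mem hrN hsN) (inv_mem hrN)) (inv_mem hsN)
    have hs2u : s * u * s⁻¹ = u ∨ s * u * s⁻¹ = u⁻¹ := by
      refine pm_of_sq hu hsN (h.cen_of_min hV hu hmin huV ?_ (mul_mem hsN hsN))
      rw [mem_centralizer_iff]
      intro v hv
      refine (mul_inv_eq_iff_eq_mul.1 ?_).symm
      calc s * s * v * (s * s)⁻¹ = s * (s * v * s⁻¹) * s⁻¹ := by group
        _ = v := hs2 v hv
    have fixc : ∀ x ∈ normalizer (V : Set G), x ∈ normalizer (zpowers u : Set G) →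
        x * c * x⁻¹ = c → x * u * x⁻¹ = u ∨ x * u * x⁻¹ = u⁻¹ := by
      intro x hxV hxN hxc
      have cent : ∀ z ∈ normalizer (V : Set G), z * a * z⁻¹ = a → z * c * z⁻¹ = c →
          z ∈ centralizer (V : Set G) := by
        intro z hzV za zc
        rw [mem_centralizer_iff]
        intro v hv
        refine (mul_inv_eq_iff_eq_mul.1 ?_).symm
        by_cases hv1 : v = 1
        · simp [hv1]
        rcases hsplit v hv hv1 with e | e | e <;> rw [e]
        · exact za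
        · rcases hsplit _ (hmem z hzV b hb) (hne1 z b hb1) with d | d | d
          · exact absurd (hinj z _ _ (za.trans d.symm)) hab
          · exact d
          · exact absurd (hinj z _ _ (zc.trans d.symm)) hcb
        · exact zc
      rcases hsplit _ (hmem x hxV a ha) (hne1 x a ha1) with d | d | d
      · exact Or.inl (h.cen_of_min hV hu hmin huV (cent x hxV d hxc) hxN)
      · have hz : s * x ∈ centralizer (V : Set G) := cent _ (mul_mem hsV hxV)
          (by rw [show s * x * a * (s * x)⁻¹ = s * (x * a * x⁻¹) * s⁻¹ by group, d, hσb])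
          (by rw [show s * x * c * (s * x)⁻¹ = s * (x * c * x⁻¹) * s⁻¹ by group, hxc, hσc])
        have hsx := h.cen_of_min hV hu hmin huV hz (mul_mem hsN hxN)
        have hxu : x * u * x⁻¹ = s⁻¹ * u * s := by
          rw [show x * u * x⁻¹ = s⁻¹ * (s * x * u * (s * x)⁻¹) * s by group, hsx]
        rw [hxu]
        rcases hs2u with q | q
        · exact Or.inl (inv' s u u q)
        · refine Or.inr ?_
          have := inv' s u⁻¹ u (by rw [← conj_inv, q, inv_inv])
          exact this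
      · exact absurd (hinj x _ _ (hxc.trans d.symm)) hca
    have key : ∀ k, k * g * c * (k * g)⁻¹ = c → k ∈ normalizer (V : Set G) →
        k ∈ normalizer (zpowers u : Set G) → k * u * k⁻¹ = u →
        g * u * g⁻¹ = u ∨ g * u * g⁻¹ = u⁻¹ := by
      intro k hkc hkV hkN hku
      have hkg : g * u * g⁻¹ = k⁻¹ * (k * g * u * (k * g)⁻¹) * k := by group
      have hku' : k⁻¹ * u * k = u := inv' k u u hku
      rcases fixc (k * g) (mul_mem hkV hgV) (mul_mem hkN hgN) hkc with q | q <;> rw [hkg, q]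
      · exact Or.inl hku'
      · refine Or.inr ?_
        rw [show k⁻¹ * u⁻¹ * k = (k⁻¹ * u * k)⁻¹ by group, hku']
    rcases hsplit _ (hmem g hgV c hc) (hne1 g c hc1) with d | d | d
    · refine key y ?_ hyV hyN hyu
      rw [show y * g * c * (y * g)⁻¹ = y * (g * c * g⁻¹) * y⁻¹ by group, d, ya]
    · refine key (y * y) ?_ (mul_mem hyV hyV) (mul_mem hyN hyN) ?_
      · rw [show y * y * g * c * (y * y * g)⁻¹ = y * (y * (g * c * g⁻¹) * y⁻¹) * y⁻¹ by group, d, yb, ya]
      · rw [show y * y * u * (y * y)⁻¹ = y * (y * u * y⁻¹) * y⁻¹ by group, hyu, hyu]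
    · exact fixc g hgV hgN d

/-- Every element of `N⟨u⟩` centralises or inverts `u`, and some involution inverts it. -/
theorem eight_pm (h4 : 4 < Nat.card (S : Subgroup G)) {V : Subgroup G} (hV : IsFour V) {p : ℕ}
    [Fact p.Prime] (hp2 : p ≠ 2) {u : G} (hu : orderOf u = p) (huV : u ∈ centralizer (V : Set G))
    (hmin : ∀ (x : G) (q : ℕ), q.Prime → q ≠ 2 → orderOf x = q → x ∈ centralizer (V : Set G) → p ≤ q) :
    (∀ g ∈ normalizer (zpowers u : Set G), g * u * g⁻¹ = u ∨ g * u * g⁻¹ = u⁻¹) ∧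
      ∃ z ∈ V, z ≠ 1 ∧ ∃ w : G, w * w = 1 ∧ w ≠ 1 ∧ w * u * w⁻¹ = u⁻¹ ∧ w * z = z * w := by
  haveI : Fact (Nat.Prime 2) := ⟨Nat.prime_two⟩
  have hp : p.Prime := Fact.out
  obtain ⟨-, -, -, -, -, hpmV⟩ := h.cycle_local h4 hV hp2 hu huV hmin
  obtain ⟨e⟩ := h.hS
  set C := centralizer ({u} : Set G) with hC
  set N := normalizer (zpowers u : Set G) with hN
  have hVC : V ≤ C := fun v hv => mem_centralizer_singleton_iff.2 (mem_centralizer_iff.1 huV v hv)
  obtain ⟨P, hP⟩ := ((isPGroup_four hV).comap_subtype (K := C)).exists_le_sylow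
  set T := (P : Subgroup C).map C.subtype with hT
  have hT2 : IsPGroup 2 T := P.isPGroup'.map _
  have hVT : V ≤ T := fun v hv => ⟨⟨v, hVC hv⟩, hP hv, rfl⟩
  have hTC : T ≤ C := map_subtype_le _
  have hCu : ∀ g ∈ C, g * u * g⁻¹ = u := fun g hg =>
    mul_inv_eq_iff_eq_mul.2 (mem_centralizer_singleton_iff.1 hg)
  have hCN : C ≤ N := fun g hg => by
    rw [hN, ← TwoFusion.map_conj_eq_self_iff_mem_normalizer, MonoidHom.map_zpowers]
    simp only [MulEquiv.coe_toMonoidHom, MulAut.conj_apply, hCu g hg]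
  have frattini : ∀ g ∈ N, ∃ c ∈ C, c * g ∈ normalizer (T : Set G) := by
    intro g hg
    have hconj : ∀ c ∈ C, g * c * g⁻¹ ∈ C := by
      intro c hc
      obtain ⟨i, hi⟩ := (Subgroup.mem_normalizer_iff.1 (inv_mem hg) u).1 (mem_zpowers u)
      simp only at hi
      have hcu : Commute c u := mem_centralizer_singleton_iff.1 hc
      rw [hC, mem_centralizer_singleton_iff]
      calc g * c * g⁻¹ * u = g * (c * (g⁻¹ * u * g⁻¹⁻¹)) * g⁻¹ := by group
        _ = g * (g⁻¹ * u * g⁻¹⁻¹ * c) * g⁻¹ := by rw [← hi, (hcu.zpow_right i).eq]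
        _ = u * (g * c * g⁻¹) := by group
    let W := (T.map (MulAut.conj g).toMonoidHom).subgroupOf C
    have hW : IsPGroup 2 W := (hT2.map _).comap_subtype
    obtain ⟨Q, hQ⟩ := hW.exists_le_sylow
    obtain ⟨c, hc⟩ := MulAction.exists_smul_eq C Q P
    refine ⟨c, c.2, ?_⟩
    have hsub : T.map (MulAut.conj ((c : G) * g)).toMonoidHom ≤ T := by
      rintro _ ⟨v, hv, rfl⟩
      have hvC : g * v * g⁻¹ ∈ C := hconj v (hTC hv)
      have hvQ : (⟨_, hvC⟩ : C) ∈ (Q : Subgroup C) := hQ ⟨v, hv, rfl⟩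
      have : c * ⟨_, hvC⟩ * c⁻¹ ∈ (P : Subgroup C) := by
        rw [← hc, Sylow.coe_subgroup_smul]
        exact smul_mem_pointwise_smul _ (MulAut.conj c) _ hvQ
      exact ⟨_, this, by simp [MulAut.conj_apply, mul_assoc]⟩
    rw [← TwoFusion.map_conj_eq_self_iff_mem_normalizer]
    exact eq_of_le_of_card_ge hsub (card_map_of_injective (MulAut.conj ((c : G) * g)).injective).ge
  -- odd elements
  have hodd : ∀ b ∈ N, b ∈ normalizer (T : Set G) → Odd (orderOf b) → b * u * b⁻¹ = u := by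
    intro b hbN hbT hbo
    by_cases hTV : T = V
    · exact centralizes_of_odd_pm hbo (hpmV b (hTV ▸ hbT) hbN)
    obtain ⟨⟨z, hzV, hz1, hzc⟩, -⟩ := four_in_two_group e hT2 hV hVT
    have hbz : b * z * b⁻¹ = z := by
      by_contra hne
      apply hTV
      have hz' : ∀ x ∈ T, x * (b * z * b⁻¹) = b * z * b⁻¹ * x := by
        intro x hx
        have hx' : b⁻¹ * x * b ∈ T := by
          simpa using (Subgroup.mem_normalizer_iff.1 (inv_mem hbT) x).1 hx
        calc x * (b * z * b⁻¹) = b * (b⁻¹ * x * b * z) * b⁻¹ := by group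
          _ = b * (z * (b⁻¹ * x * b)) * b⁻¹ := by rw [hzc _ hx']
          _ = b * z * b⁻¹ * x := by group
      have hzz : z * z = 1 := hV.2 z hzV
      have hz'V : b * z * b⁻¹ ∈ V := mem_four_of_centralizes e hV (k := 1)
        (by rw [pow_one, pow_two, conj_mul, hzz]; group)
        (mem_centralizer_iff.2 fun v hv => hz' v (hVT hv))
      refine le_antisymm (fun x hx => ?_) hVT
      obtain ⟨k, hk⟩ := (IsPGroup.iff_orderOf.1 hT2) ⟨x, hx⟩
      refine mem_four_of_centralizes e hV (k := k) (by rw [← hk, orderOf_mk, pow_orderOf_eq_one]) ?_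
      rw [mem_centralizer_iff]
      intro v hv
      rcases four_split hV hzV hz'V hz1 (fun q => hz1 (by
        rw [show z = b⁻¹ * (b * z * b⁻¹) * b by group, q]; group)) (Ne.symm hne) hv with q | q | q | q <;> rw [q]
      · simp
      · exact (hzc x hx).symm
      · exact (hz' x hx).symm
      · exact ((show Commute z x from (hzc x hx).symm).mul_left (hz' x hx).symm).eq
    have hzo : orderOf z = 2 := orderOf_eq_prime (by rw [pow_two]; exact hV.2 z hzV) hz1
    have hbO : b ∈ oc z := (h.mem_oc hzo).2 ⟨hbo, mul_inv_eq_iff_eq_mul.1 hbz⟩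
    refine h.cen_of_min hV hu hmin huV (mem_centralizer_iff.2 fun v hv => ?_) hbN
    have hvz : v ∈ centralizer ({z} : Set G) := mem_centralizer_singleton_iff.2 (hV.comm hv hzV)
    have h1 : b * v * b⁻¹ * v⁻¹ ∈ oc z := by
      rw [mul_assoc b v b⁻¹, mul_assoc b (v * b⁻¹) v⁻¹]
      exact mul_mem hbO ((Subgroup.mem_normalizer_iff.1 (h.centralizer_le_normalizer_oc hzo hvz) _).1 (inv_mem hbO))
    have h2 : b * v * b⁻¹ * v⁻¹ ∈ T :=
      mul_mem ((Subgroup.mem_normalizer_iff.1 hbT v).1 (hVT hv)) (inv_mem (hVT hv))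
    obtain ⟨k, hk⟩ := (IsPGroup.iff_orderOf.1 hT2) ⟨_, h2⟩
    rw [orderOf_mk] at hk
    have h3 := ((h.mem_oc hzo).1 h1).1
    rw [hk] at h3
    have hk0 : k = 0 := by
      by_contra hk0
      exact (Nat.not_even_iff_odd.2 h3) ((even_two).pow_of_ne_zero hk0)
    rw [hk0, pow_zero, orderOf_eq_one_iff, mul_inv_eq_one, mul_inv_eq_iff_eq_mul] at hk
    exact hk.symm
  -- two-elements
  have htwo : ∀ x ∈ N, x ∈ normalizer (T : Set G) → (∃ k, orderOf x = 2 ^ k) →
      (x * u * x⁻¹ = u ∨ x * u * x⁻¹ = u⁻¹) ∧ (x * u * x⁻¹ ≠ u →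
        ∃ z ∈ V, z ≠ 1 ∧ ∃ w : G, w * w = 1 ∧ w ≠ 1 ∧ w * u * w⁻¹ = u⁻¹ ∧ w * z = z * w) := by
    intro x hxN hxT hxo
    obtain ⟨k, hk⟩ := hxo
    set R := zpowers x ⊔ T with hR
    have hR2 : IsPGroup 2 R := (IsPGroup.of_card (n := k) (by rw [Nat.card_zpowers, hk])).to_sup_of_normal_right'
      hT2 (zpowers_le.2 hxT)
    obtain ⟨⟨z, hzV, hz1, hzc⟩, hsq⟩ := four_in_two_group e hR2 hV (hVT.trans le_sup_right)
    have hxR : x ∈ R := mem_sup_left (mem_zpowers x)
    obtain ⟨s, hsV, hsu⟩ : ∃ s ∈ V, x * s * (x * s) = 1 := by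
      rcases hsq x hxR with q | q
      · exact ⟨1, V.one_mem, by simpa using q⟩
      · exact q
    have hsC : s * u * s⁻¹ = u := hCu s (hVC hsV)
    have hxs : x * s * u * (x * s)⁻¹ = x * u * x⁻¹ := by
      rw [show x * s * u * (x * s)⁻¹ = x * (s * u * s⁻¹) * x⁻¹ by group, hsC]
    have hpm : x * u * x⁻¹ = u ∨ x * u * x⁻¹ = u⁻¹ := by
      rw [← hxs]
      exact pm_of_sq hu (mul_mem hxN (hCN (hVC hsV))) (by rw [hsu]; group)
    refine ⟨hpm, fun hne => ⟨z, hzV, hz1, x * s, hsu, fun q => hne ?_, ?_, ?_⟩⟩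
    · rw [← hxs, q]; group
    · rw [hxs]; exact hpm.resolve_left hne
    · exact hzc _ (mul_mem hxR (mem_sup_right (hVT hsV)))
  have main : ∀ g ∈ N, (g * u * g⁻¹ = u ∨ g * u * g⁻¹ = u⁻¹) ∧ (g * u * g⁻¹ ≠ u →
      ∃ z ∈ V, z ≠ 1 ∧ ∃ w : G, w * w = 1 ∧ w ≠ 1 ∧ w * u * w⁻¹ = u⁻¹ ∧ w * z = z * w) := by
    intro g hg
    obtain ⟨c, hc, hcg⟩ := frattini g hg
    have hcgN : c * g ∈ N := mul_mem (hCN hc) hg
    set x := Element.pPart 2 (c * g) with hx
    set b := Element.pComplPart 2 (c * g) with hb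
    have hmemp : ∀ K : Subgroup G, c * g ∈ K → x ∈ K ∧ b ∈ K := fun K hK =>
      ⟨zpowers_le.2 hK (Element.pPart_mem_zpowers 2 _), zpowers_le.2 hK (Element.pComplPart_mem_zpowers 2 _)⟩
    have hbu : b * u * b⁻¹ = u := hodd b (hmemp N hcgN).2 (hmemp _ hcg).2
      (Nat.coprime_two_right.1 (Element.coprime_orderOf_pComplPart Nat.prime_two _))
    obtain ⟨h1, h2⟩ := htwo x (hmemp N hcgN).1 (hmemp _ hcg).1
      ⟨_, Element.orderOf_pPart_eq_pow Nat.prime_two _⟩
    have hgu : g * u * g⁻¹ = c⁻¹ * (x * u * x⁻¹) * c := by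
      rw [← hbu, show x * (b * u * b⁻¹) * x⁻¹ = x * b * u * (x * b)⁻¹ by group, hx, hb,
        Element.pPart_mul_pComplPart]
      rw [← hb, hbu]
      group
    have hcu : c⁻¹ * u * c = u := by
      have := hCu _ (inv_mem hc)
      rwa [inv_inv] at this
    rw [hgu]
    rcases h1 with q | q
    · rw [q]; exact ⟨Or.inl hcu, fun hne => absurd hcu hne⟩
    · rw [q, show c⁻¹ * u⁻¹ * c = (c⁻¹ * u * c)⁻¹ by group, hcu]
      exact ⟨Or.inr rfl, fun hne => h2 (by rw [q]; exact hne)⟩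
  refine ⟨fun g hg => (main g hg).1, ?_⟩
  obtain ⟨g0, hg0, hne⟩ := h.exists_normalizer_not_centralizer hp hp2 hu
  exact (main g0 hg0).2 fun q => hne (mul_inv_eq_iff_eq_mul.1 q)

end CycHyp

end Cfsg.Agent.GW
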