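import Cfsg.Agent.GW.CycEightA

/-!
# Sylow 2-subgroups of order at least eight: the structure of `N⟨u⟩`
-/

set_option autoImplicit false
set_option linter.style.haveILetI false
set_option linter.unusedSectionVars false
set_option linter.unusedSimpArgs false
set_option linter.deprecated false
set_option maxHeartbeats 1600000

open Cfsg

namespace Cfsg.Agent.GW

open Cfsg.Agent.TwoGroups Cfsg.Agent.TwoFusion Subgroup

/-- In a product of an outer and an inner involution some power is an involution commuting with both. -/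
theorem exists_commuting_involution {G : Type*} [Group G] [Finite G] {M H : Subgroup G}
    (hmul : ∀ a ∈ M, ∀ b ∈ M, a ∉ H → b ∉ H → a * b ∈ H) {i j : G} (hi : i ∈ H) (hHM : H ≤ M)
    (hj : j ∈ M) (hjH : j ∉ H) (hii : i * i = 1) (hjj : j * j = 1) :
    ∃ z0 ∈ zpowers (i * j), z0 * z0 = 1 ∧ z0 ≠ 1 ∧ Commute z0 i ∧ Commute z0 j := by
  set d := i * j with hd
  have hdH : d ∉ H := fun hm => hjH (by simpa [hd] using mul_mem (inv_mem hi) hm)
  have heven : 2 ∣ orderOf d := by
    by_contra hodd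
    obtain ⟨k, hk⟩ := Nat.not_even_iff_odd.1 (fun e => hodd (even_iff_two_dvd.1 e))
    have hdd : d * d ∈ H := hmul d (mul_mem (hHM hi) hj) d (mul_mem (hHM hi) hj) hdH hdH
    refine hdH ?_
    have : d = (d * d) ^ (k + 1) := by
      rw [← pow_two, ← pow_mul, show 2 * (k + 1) = orderOf d + 1 by omega, pow_succ, pow_orderOf_eq_one,
        one_mul]
    rw [this]
    exact pow_mem hdd _
  set z0 := d ^ (orderOf d / 2) with hz0
  have hzo : orderOf z0 = 2 := orderOf_pow_orderOf_div (orderOf_pos d).ne' heven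
  have hzz : z0 * z0 = 1 := by rw [← pow_two, ← hzo, pow_orderOf_eq_one]
  have hzi : z0⁻¹ = z0 := inv_eq_of_mul_eq_one_right hzz
  have hinv : ∀ a : G, a * a = 1 → a * d * a⁻¹ = d⁻¹ → Commute z0 a := by
    intro a haa hda
    have : a * z0 * a⁻¹ = z0 := by rw [hz0, ← conj_pow, hda, inv_pow, ← hz0, hzi]
    exact (mul_inv_eq_iff_eq_mul.1 this).symm
  refine ⟨z0, pow_mem (mem_zpowers d) _, hzz, fun e => by rw [e, orderOf_one] at hzo; norm_num at hzo,
    hinv i hii ?_, hinv j hjj ?_⟩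
  · rw [hd, ← mul_assoc, hii, one_mul, mul_inv_rev, inv_eq_of_mul_eq_one_right hjj]
  · rw [hd, mul_inv_rev, inv_eq_of_mul_eq_one_right hjj, inv_eq_of_mul_eq_one_right hii]
    calc j * (i * j) * j = j * i * (j * j) := by group
      _ = j * i := by rw [hjj, mul_one]

/-- The structure at a smallest prime in a group whose Sylow 2-subgroups have order at least eight. -/
structure EightData {G : Type*} [Group G] (V H M : Subgroup G) (u z w : G) : Prop where
  four : IsFour V
  hz : z ∈ V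
  hz1 : z ≠ 1
  hww : w * w = 1
  hw1 : w ≠ 1
  hwz : w * z = z * w
  hwu : w * u * w⁻¹ = u⁻¹
  hwM : w ∈ M
  hH : ∀ g, g ∈ H ↔ g ∈ M ∧ g * u * g⁻¹ = u
  pm : ∀ g ∈ M, g * u * g⁻¹ = u ∨ g * u * g⁻¹ = u⁻¹
  inner : ∀ i ∈ H, i * i = 1 → i ∈ V
  oc_le : oc z ≤ centralizer (V : Set G)
  oc_H : oc z ≤ H
  V_H : V ≤ H
  cent : centralizer ({z} : Set G) ≤ M
  cycle : ∃ y ∈ H, ∀ v ∈ V, v ≠ 1 → v = z ∨ v = y * z * y⁻¹ ∨ v = y * (y * z * y⁻¹) * y⁻¹
  normV : M ≤ normalizer (V : Set G)

namespace CycHyp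

variable {G : Type*} [Group G] [Finite G] {S : Sylow 2 G} {n : ℕ} (h : CycHyp S n)
include h

theorem eight_data (h4 : 4 < Nat.card (S : Subgroup G)) {V : Subgroup G} (hV : IsFour V) {p : ℕ}
    [Fact p.Prime] (hp2 : p ≠ 2) {u : G} (hu : orderOf u = p) (huV : u ∈ centralizer (V : Set G))
    (hmin : ∀ (x : G) (q : ℕ), q.Prime → q ≠ 2 → orderOf x = q → x ∈ centralizer (V : Set G) → p ≤ q) :
    ∃ z w, EightData V (centralizer ({u} : Set G)) (normalizer (zpowers u : Set G)) u z w ∧
      u ∈ oc z := by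
  haveI : Fact (Nat.Prime 2) := ⟨Nat.prime_two⟩
  have hp : p.Prime := Fact.out
  have hpodd : Odd p := hp.odd_of_ne_two hp2
  obtain ⟨y, hyV, hyu, hyf, hyc, -⟩ := h.cycle_local h4 hV hp2 hu huV hmin
  obtain ⟨hpm, z, hzV, hz1, w, hww, hw1, hwu, hwz⟩ := h.eight_pm h4 hV hp2 hu huV hmin
  obtain ⟨e⟩ := h.hS
  set H := centralizer ({u} : Set G) with hH
  set M := normalizer (zpowers u : Set G) with hM
  have hnorm : ∀ g : G, (g * u * g⁻¹ = u ∨ g * u * g⁻¹ = u⁻¹) → g ∈ M := by
    intro g hg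
    rw [hM, ← TwoFusion.map_conj_eq_self_iff_mem_normalizer, MonoidHom.map_zpowers]
    simp only [MulEquiv.coe_toMonoidHom, MulAut.conj_apply]
    rcases hg with q | q <;> rw [q]
    exact zpowers_inv
  have hHiff : ∀ g, g ∈ H ↔ g ∈ M ∧ g * u * g⁻¹ = u := by
    intro g
    rw [hH, mem_centralizer_singleton_iff, mul_inv_eq_iff_eq_mul]
    exact ⟨fun e' => ⟨hnorm g (Or.inl (mul_inv_eq_iff_eq_mul.2 e')), e'⟩, fun e' => e'.2⟩
  have hHM : H ≤ M := fun g hg => ((hHiff g).1 hg).1
  have huu : u ≠ u⁻¹ := fun q => by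
    have h2 : orderOf u ∣ 2 := orderOf_dvd_of_pow_eq_one (by
      rw [pow_two]; nth_rewrite 1 [q]; exact inv_mul_cancel u)
    rw [hu] at h2
    exact hp2 ((Nat.prime_dvd_prime_iff_eq hp Nat.prime_two).1 h2)
  have hwM : w ∈ M := hnorm w (Or.inr hwu)
  have hout : ∀ g ∈ M, g ∉ H → g * u * g⁻¹ = u⁻¹ := fun g hg hgH =>
    (hpm g hg).resolve_left fun q => hgH ((hHiff g).2 ⟨hg, q⟩)
  have hmul : ∀ a ∈ M, ∀ b ∈ M, a ∉ H → b ∉ H → a * b ∈ H := by
    intro a ha b hb haH hbH
    refine (hHiff _).2 ⟨mul_mem ha hb, ?_⟩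
    rw [show a * b * u * (a * b)⁻¹ = a * (b * u * b⁻¹) * a⁻¹ by group, hout b hb hbH, ← conj_inv,
      hout a ha haH, inv_inv]
  have hoddH : ∀ g ∈ M, Odd (orderOf g) → g ∈ H := fun g hg ho =>
    (hHiff g).2 ⟨hg, centralizes_of_odd_pm ho (hpm g hg)⟩
  have hwH : w ∉ H := fun q => huu (((hHiff w).1 q).2.symm.trans hwu)
  have hyH : y ∈ H := (hHiff y).2 ⟨hnorm y (Or.inl hyu), hyu⟩
  have hVH : V ≤ H := fun v hv => by
    rw [hH, mem_centralizer_singleton_iff]; exact mem_centralizer_iff.1 huV v hv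
  have hzo : orderOf z = 2 := orderOf_eq_prime (by rw [pow_two]; exact hV.2 z hzV) hz1
  have hwo : orderOf w = 2 := orderOf_eq_prime (by rw [pow_two, hww]) hw1
  have huO : u ∈ oc z := (h.mem_oc hzo).2 ⟨hu ▸ hpodd, (mem_centralizer_iff.1 huV z hzV).symm⟩
  -- `C(z)` normalises `⟨u⟩`
  have hwC : w ∈ centralizer ({z} : Set G) := mem_centralizer_singleton_iff.2 hwz
  have hwinv : w * u * w = u⁻¹ := by rwa [inv_eq_of_mul_eq_one_right hww] at hwu
  obtain ⟨huN, huU⟩ := h.inverted_unique (h.oc_spec hzo).2.1 hww (h.centralizer_le_normalizer_oc hzo hwC)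
    hp hp2 huO hu hwinv
  have hcent : centralizer ({z} : Set G) ≤ M := by
    intro g hg
    have hmem : g * u * g⁻¹ ∈ zpowers u := huU _
      ((Subgroup.mem_normalizer_iff.1 (h.centralizer_le_normalizer_oc hzo hg) u).1 huO)
      (by rw [← MulAut.conj_apply, MulEquiv.orderOf_eq, hu])
    rw [hM, ← TwoFusion.map_conj_eq_self_iff_mem_normalizer, MonoidHom.map_zpowers]
    refine eq_of_le_of_card_ge (zpowers_le.2 (by simpa using hmem)) ?_
    rw [Nat.card_zpowers, Nat.card_zpowers, MulEquiv.coe_toMonoidHom, MulEquiv.orderOf_eq]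
  have hOH : oc z ≤ H := fun g hg => by
    obtain ⟨ho, hc⟩ := (h.mem_oc hzo).1 hg
    exact hoddH g (hcent (mem_centralizer_singleton_iff.2 hc)) ho
  -- an outer involution centralises only one inner involution
  have commuting_eq : ∀ j ∈ M, j ∉ H → j * j = 1 → ∀ k1 ∈ H, ∀ k2 ∈ H, k1 * k1 = 1 → k2 * k2 = 1 →
      k1 ≠ 1 → k2 ≠ 1 → j * k1 = k1 * j → j * k2 = k2 * j → k1 * k2 = k2 * k1 → k1 = k2 := by
    intro j _ hjH hjj k1 h1 k2 h2 e1 e2 n1 n2 c1 c2 c12
    by_contra hne
    obtain ⟨U, hU, hUH, hk1U, hk2U⟩ : ∃ U : Subgroup G, IsFour U ∧ U ≤ H ∧ k1 ∈ U ∧ k2 ∈ U := by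
      refine ⟨Subgroup.closure {k1, k2}, ?_, (closure_le _).2 (by rintro x (rfl | rfl); exacts [h1, h2]),
        subset_closure (Or.inl rfl), subset_closure (Or.inr rfl)⟩
      have a1 : ∀ a, k1 * (k1 * a) = a := fun a => by rw [← mul_assoc, e1, one_mul]
      have a2 : ∀ a, k2 * (k2 * a) = a := fun a => by rw [← mul_assoc, e2, one_mul]
      have a3 : ∀ a, k2 * (k1 * a) = k1 * (k2 * a) := fun a => by rw [← mul_assoc, ← c12, mul_assoc]
      let U0 : Subgroup G :=
        { carrier := {g | g = 1 ∨ g = k1 ∨ g = k2 ∨ g = k1 * k2}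
          one_mem' := Or.inl rfl
          mul_mem' := by
            rintro a b (ha | ha | ha | ha) (hb | hb | hb | hb) <;>
              simp only [Set.mem_setOf_eq, ha, hb, mul_assoc, e1, e2, a1, a2, a3, one_mul, mul_one,
                ← c12, true_or, or_true, eq_self_iff_true]
          inv_mem' := by
            rintro a (ha | ha | ha | ha) <;>
              simp only [Set.mem_setOf_eq, ha, inv_one, mul_inv_rev, inv_eq_of_mul_eq_one_right e1,
                inv_eq_of_mul_eq_one_right e2, ← c12, true_or, or_true, eq_self_iff_true] }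
      have hle : Subgroup.closure {k1, k2} = U0 := by
        refine le_antisymm ((closure_le _).2 ?_) ?_
        · rintro x (rfl | rfl)
          · exact Or.inr (Or.inl rfl)
          · exact Or.inr (Or.inr (Or.inl rfl))
        · rintro g (q | q | q | q) <;> rw [q]
          · exact one_mem _
          · exact subset_closure (Or.inl rfl)
          · exact subset_closure (Or.inr rfl)
          · exact mul_mem (subset_closure (Or.inl rfl)) (subset_closure (Or.inr rfl))
      rw [hle]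
      have n3 : k1 * k2 ≠ 1 := fun q => hne (by rw [← a1 k2, q, mul_one])
      have n4 : k1 * k2 ≠ k1 := fun q => n2 (mul_left_cancel (q.trans (mul_one k1).symm))
      have n5 : k1 * k2 ≠ k2 := fun q => n1 (mul_right_cancel (q.trans (one_mul k2).symm))
      refine ⟨?_, ?_⟩
      · rw [show (4 : ℕ) = Nat.card (Fin 4) by simp]
        refine (Nat.card_congr (Equiv.ofBijective (fun i : Fin 4 =>
          (⟨![1, k1, k2, k1 * k2] i, by fin_cases i <;> simp [U0]⟩ : U0)) ⟨?_, ?_⟩)).symm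
        · intro i i' hij
          have hij' : ![1, k1, k2, k1 * k2] i = ![1, k1, k2, k1 * k2] i' := congrArg Subtype.val hij
          fin_cases i <;> fin_cases i' <;>
            first
              | rfl
              | exact absurd hij' n1 | exact absurd hij'.symm n1
              | exact absurd hij' n2 | exact absurd hij'.symm n2
              | exact absurd hij' hne | exact absurd hij'.symm hne
              | exact absurd hij' n3 | exact absurd hij'.symm n3
              | exact absurd hij' n4 | exact absurd hij'.symm n4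
              | exact absurd hij' n5 | exact absurd hij'.symm n5
        · rintro ⟨g, hg⟩
          rcases (show g = 1 ∨ g = k1 ∨ g = k2 ∨ g = k1 * k2 from hg) with rfl | rfl | rfl | rfl
          exacts [⟨0, rfl⟩, ⟨1, rfl⟩, ⟨2, rfl⟩, ⟨3, rfl⟩]
      · rintro x (q | q | q | q) <;>
          simp only [q, mul_assoc, e1, e2, a1, a2, a3, one_mul, mul_one, ← c12]
    refine hjH (hUH (mem_four_of_centralizes e hU (k := 1) (by rw [pow_one, pow_two, hjj]) ?_))
    rw [mem_centralizer_iff]
    intro g hg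
    rcases four_split hU hk1U hk2U n1 n2 hne hg with q | q | q | q <;> rw [q]
    · simp
    · exact c1.symm
    · exact c2.symm
    · exact ((show Commute j k1 from c1).mul_right (show Commute j k2 from c2)).symm.eq
  have unique : ∀ j ∈ M, j ∉ H → j * j = 1 → ∀ v ∈ V, v ≠ 1 → j * v = v * j →
      ∀ k ∈ H, k * k = 1 → k ≠ 1 → j * k = k * j → k = v := by
    intro j hj hjH hjj v hv hv1 hjv k hk hkk hk1 hjk
    have hvv := hV.2 v hv
    have hvo : orderOf v = 2 := orderOf_eq_prime (by rw [pow_two, hvv]) hv1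
    have hjo : orderOf j = 2 := orderOf_eq_prime (by rw [pow_two, hjj]) fun q => hjH (q ▸ H.one_mem)
    set d := v * k with hd
    have hjd : Commute j d := (show Commute j v from hjv).mul_right hjk
    have hdH : d ∈ H := mul_mem (hVH hv) hk
    have hvi : v⁻¹ = v := inv_eq_of_mul_eq_one_right hvv
    have hki : k⁻¹ = k := inv_eq_of_mul_eq_one_right hkk
    have hdi : ∀ a : G, a = v ∨ a = k → a * d * a⁻¹ = d⁻¹ := by
      rintro a (q | q) <;> rw [q, hd]
      · rw [← mul_assoc, hvv, one_mul, mul_inv_rev, hvi, hki]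
      · rw [mul_inv_rev, hvi, hki]
        calc k * (v * k) * k = k * v * (k * k) := by group
          _ = k * v := by rw [hkk, mul_one]
    by_cases heven : 2 ∣ orderOf d
    · set z0 := d ^ (orderOf d / 2) with hz0
      have hzo' : orderOf z0 = 2 := orderOf_pow_orderOf_div (orderOf_pos d).ne' heven
      have hzz : z0 * z0 = 1 := by rw [← pow_two, ← hzo', pow_orderOf_eq_one]
      have hcz : ∀ a : G, a = v ∨ a = k → a * z0 = z0 * a := fun a ha => by
        have : a * z0 * a⁻¹ = z0 := by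
          rw [hz0, ← conj_pow, hdi a ha, inv_pow, ← hz0, inv_eq_of_mul_eq_one_right hzz]
        exact mul_inv_eq_iff_eq_mul.1 this
      have hz1' : z0 ≠ 1 := fun q => by rw [q, orderOf_one] at hzo'; norm_num at hzo'
      have r1 := commuting_eq j hj hjH hjj z0 (pow_mem hdH _) v (hVH hv) hzz hvv hz1' hv1
        (hjd.pow_right _).eq hjv (hcz v (Or.inl rfl)).symm
      have r2 := commuting_eq j hj hjH hjj z0 (pow_mem hdH _) k hk hzz hkk hz1' hk1
        (hjd.pow_right _).eq hjk (hcz k (Or.inr rfl)).symm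
      exact r2.symm.trans r1
    by_contra hne
    have hd1 : orderOf d ≠ 1 := fun q => hne (by
      rw [orderOf_eq_one_iff, hd] at q
      rw [eq_inv_of_mul_eq_one_right q, hvi])
    obtain ⟨q, hq, hqd⟩ := Nat.exists_prime_and_dvd hd1
    have hdodd : Odd (orderOf d) := Nat.not_even_iff_odd.1 fun e' => heven (even_iff_two_dvd.1 e')
    have hq2 : q ≠ 2 := fun q' => heven (q' ▸ hqd)
    haveI : Fact q.Prime := ⟨hq⟩
    set y0 := d ^ (orderOf d / q) with hy0
    have hy0o : orderOf y0 = q := orderOf_pow_orderOf_div (orderOf_pos d).ne' hqd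
    have hy0H : y0 ∈ H := pow_mem hdH _
    have hy0j : Commute j y0 := hjd.pow_right _
    have hy0v : v * y0 * v = y0⁻¹ := by
      have h1 := hdi v (Or.inl rfl)
      have : v * y0 * v⁻¹ = y0⁻¹ := by rw [hy0, ← conj_pow, h1, inv_pow]
      rwa [hvi] at this
    have hy0J : y0 ∈ oc j := (h.mem_oc hjo).2 ⟨hy0o ▸ hq.odd_of_ne_two hq2, hy0j.symm.eq⟩
    have hqv : q ∣ Nat.card (oc v) := by
      rw [h.card_oc_eq hvo hjo, ← hy0o, ← Subgroup.orderOf_mk y0 hy0J]
      exact _root_.orderOf_dvd_natCard _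
    obtain ⟨⟨x, hx⟩, hxo⟩ := exists_prime_orderOf_dvd_card' q hqv
    rw [orderOf_mk] at hxo
    have hvy : ∀ g : G, g ∈ oc v → Odd (orderOf g) ∧ g * v = v * g := fun g hg => (h.mem_oc hvo).1 hg
    have hxH : x ∈ H := by
      rcases hyc v hv hv1 z hzV hz1 with q' | q' | q'
      · exact hOH (by rw [q']; exact hx)
      · have := hOH (q' ▸ h.conj_mem_oc (g := y) hvo hx)
        simpa [mul_assoc] using mul_mem (mul_mem (inv_mem hyH) this) hyH
      · have h2 := h.conj_mem_oc (g := y * y) hvo hx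
        rw [show y * y * v * (y * y)⁻¹ = y * (y * v * y⁻¹) * y⁻¹ by group, ← q'] at h2
        simpa [mul_assoc] using mul_mem (mul_mem (inv_mem (mul_mem hyH hyH)) (hOH h2)) (mul_mem hyH hyH)
    obtain ⟨g, hg, hge⟩ := h.exists_conj_zpowers hq hq2 hxH hy0H hxo hy0o
    set k' := g * v * g⁻¹ with hk'
    have hk'H : k' ∈ H := mul_mem (mul_mem hg (hVH hv)) (inv_mem hg)
    have hk'k : k' * k' = 1 := by rw [hk', conj_mul, hvv]; group
    have hk'y : Commute k' y0 := by
      obtain ⟨i, hi⟩ := hge.symm ▸ mem_zpowers y0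
      simp only at hi
      rw [← hi]
      refine Commute.zpow_right ?_ i
      show k' * (g * x * g⁻¹) = g * x * g⁻¹ * k'
      rw [hk', conj_mul, conj_mul, (hvy x hx).2]
    obtain ⟨z0, hz0d, hzz, hz01, hzk, hzj⟩ := exists_commuting_involution hmul hk'H hHM hj hjH hk'k hjj
    have hz0y : Commute z0 y0 := by
      obtain ⟨i, rfl⟩ := hz0d
      exact (hk'y.mul_left hy0j).zpow_left i
    have hz0M : z0 ∈ M := by
      obtain ⟨i, rfl⟩ := hz0d
      exact zpow_mem (mul_mem (hHM hk'H) hj) i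
    obtain ⟨kk, hkkH, hkkk, hkk1, hkky, hkkj⟩ : ∃ kk ∈ H, kk * kk = 1 ∧ kk ≠ 1 ∧ Commute kk y0 ∧
        j * kk = kk * j := by
      by_cases hz0H : z0 ∈ H
      · exact ⟨z0, hz0H, hzz, hz01, hz0y, hzj.symm.eq⟩
      by_cases hz0j : z0 = j
      · refine ⟨k', hk'H, hk'k, fun q' => hv1 ?_, hk'y, ?_⟩
        · rw [hk', conj_eq_one_iff] at q'; exact q'
        · exact hz0j ▸ hzk.eq
      · refine ⟨z0 * j, hmul z0 hz0M j hj hz0H hjH, ?_, fun q' => hz0j ?_, hz0y.mul_left hy0j, ?_⟩
        · calc z0 * j * (z0 * j) = z0 * (j * z0) * j := by group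
            _ = z0 * (z0 * j) * j := by rw [hzj.symm.eq]
            _ = z0 * z0 * (j * j) := by group
            _ = 1 := by rw [hzz, hjj, one_mul]
        · rw [eq_inv_of_mul_eq_one_left q', inv_eq_of_mul_eq_one_right hjj]
        · exact (hzj.symm.mul_right (Commute.refl j)).eq
    set d' := v * kk with hd'
    have hd'i : v * d' * v⁻¹ = d'⁻¹ := by
      rw [hd', ← mul_assoc, hvv, one_mul, mul_inv_rev, hvi, inv_eq_of_mul_eq_one_right hkkk]
    by_cases heven' : 2 ∣ orderOf d'
    · set z1 := d' ^ (orderOf d' / 2) with hz1d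
      have hzo' : orderOf z1 = 2 := orderOf_pow_orderOf_div (orderOf_pos d').ne' heven'
      have hzz1 : z1 * z1 = 1 := by rw [← pow_two, ← hzo', pow_orderOf_eq_one]
      have hz11 : z1 ≠ 1 := fun q' => by rw [q', orderOf_one] at hzo'; norm_num at hzo'
      have hd'k : kk * d' * kk⁻¹ = d'⁻¹ := by
        rw [hd', mul_inv_rev, hvi, inv_eq_of_mul_eq_one_right hkkk]
        calc kk * (v * kk) * kk = kk * v * (kk * kk) := by group
          _ = kk * v := by rw [hkkk, mul_one]
      have hcz : ∀ a : G, a * d' * a⁻¹ = d'⁻¹ → a * z1 = z1 * a := fun a ha => by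
        have : a * z1 * a⁻¹ = z1 := by
          rw [hz1d, ← conj_pow, ha, inv_pow, ← hz1d, inv_eq_of_mul_eq_one_right hzz1]
        exact mul_inv_eq_iff_eq_mul.1 this
      have hjd' : Commute j d' := (show Commute j v from hjv).mul_right hkkj
      have hd'H : d' ∈ H := mul_mem (hVH hv) hkkH
      have r1 := commuting_eq j hj hjH hjj z1 (pow_mem hd'H _) v (hVH hv) hzz1 hvv hz11 hv1
        (hjd'.pow_right _).eq hjv (hcz v hd'i).symm
      have r2 := commuting_eq j hj hjH hjj z1 (pow_mem hd'H _) kk hkkH hzz1 hkkk hz11 hkk1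
        (hjd'.pow_right _).eq hkkj (hcz kk hd'k).symm
      have hvk : kk = v := r2.symm.trans r1
      have : y0⁻¹ = y0 := by
        rw [← hy0v]
        calc v * y0 * v = v * (y0 * v) := mul_assoc _ _ _
          _ = v * (v * y0) := by
            rw [show y0 * v = v * y0 from (show Commute v y0 by rw [← hvk]; exact hkky).eq.symm]
          _ = y0 := by rw [← mul_assoc, hvv, one_mul]
      have h2 : orderOf y0 ∣ 2 := orderOf_dvd_of_pow_eq_one (by
        rw [pow_two]; nth_rewrite 1 [← this]; exact inv_mul_cancel y0)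
      rw [hy0o] at h2
      exact hq2 ((Nat.prime_dvd_prime_iff_eq hq Nat.prime_two).1 h2)
    -- `v` and `kk` are conjugate by an element `l` of `⟨v kk⟩`
    obtain ⟨t', ht'⟩ := Nat.not_even_iff_odd.1 fun e' => heven' (even_iff_two_dvd.1 e')
    set l := d' ^ t' with hl
    have hjd' : Commute j d' := (show Commute j v from hjv).mul_right hkkj
    have hl2 : l * v * l⁻¹ = kk := by
      have h1 : v * l * v⁻¹ = l⁻¹ := by rw [hl, ← conj_pow, hd'i, inv_pow]
      calc l * v * l⁻¹ = v * (v⁻¹ * l * v) * l⁻¹ := by group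
        _ = v * (v * l * v⁻¹) * l⁻¹ := by rw [hvi]
        _ = v * (l * l)⁻¹ := by rw [h1]; group
        _ = v * d' := by
          congr 1
          rw [hl, ← pow_add]
          refine inv_eq_of_mul_eq_one_right ?_
          rw [← pow_succ, show t' + t' + 1 = orderOf d' by omega, pow_orderOf_eq_one]
        _ = kk := by rw [hd', ← mul_assoc, hvv, one_mul]
    have hlJ : l ∈ oc j := (h.mem_oc hjo).2 ⟨Odd.of_dvd_nat (⟨t', ht'⟩ : Odd (orderOf d'))
      (orderOf_pow_dvd _), (hjd'.pow_right _).symm.eq⟩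
    have hvN : v ∈ normalizer (oc j : Set G) :=
      h.centralizer_le_normalizer_oc hjo (mem_centralizer_singleton_iff.2 hjv.symm)
    refine h.no_fix_invert (h.oc_spec hjo).2.1 hvv hvN hq (x := l⁻¹ * y0 * l) (y := y0)
      (mul_mem (mul_mem (inv_mem hlJ) hy0J) hlJ) hy0J ?_ hy0o ?_ hy0v
    · rw [show l⁻¹ * y0 * l = MulAut.conj l⁻¹ y0 by simp, MulEquiv.orderOf_eq, hy0o]
    · calc v * (l⁻¹ * y0 * l) * v = v * (l⁻¹ * y0 * l) * v⁻¹ := by rw [hvi]
        _ = l⁻¹ * ((l * v * l⁻¹) * y0 * (l * v * l⁻¹)⁻¹) * l := by group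
        _ = l⁻¹ * (kk * y0 * kk⁻¹) * l := by rw [hl2]
        _ = l⁻¹ * y0 * l := by rw [hkky.eq, mul_inv_cancel_right]
  -- inner involutions
  have hinner : ∀ i ∈ H, i * i = 1 → i ∈ V := by
    intro i hi hii
    by_cases hi1 : i = 1
    · exact hi1 ▸ V.one_mem
    refine mem_four_of_centralizes e hV (k := 1) (by rw [pow_one, pow_two, hii]) ?_
    rw [mem_centralizer_iff]
    intro v hv
    by_cases hv1 : v = 1
    · simp [hv1]
    obtain ⟨g, hgH, hgv⟩ : ∃ g ∈ H, g * z * g⁻¹ = v := by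
      rcases hyc z hzV hz1 v hv hv1 with q | q | q
      · exact ⟨1, H.one_mem, by simp [q]⟩
      · exact ⟨y, hyH, q.symm⟩
      · exact ⟨y * y, mul_mem hyH hyH, by rw [q]; group⟩
    set j := g * w * g⁻¹ with hj
    have hjM : j ∈ M := mul_mem (mul_mem (hHM hgH) hwM) (inv_mem (hHM hgH))
    have hjH : j ∉ H := fun q => hwH (by
      have := mul_mem (mul_mem (inv_mem hgH) q) hgH
      simpa [hj, mul_assoc] using this)
    have hjj : j * j = 1 := by rw [hj, conj_mul, hww]; group
    have hjv : j * v = v * j := by rw [hj, ← hgv, conj_mul, conj_mul, hwz]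
    obtain ⟨z0, hz0d, hzz, hz01, hzi, hzj⟩ := exists_commuting_involution hmul hi hHM hjM hjH hii hjj
    by_cases hz0H : z0 ∈ H
    · have hzv := unique j hjM hjH hjj v hv hv1 hjv z0 hz0H hzz hz01 hzj.symm.eq
      rw [← hzv]; exact hzi.eq
    have hz0M : z0 ∈ M := by
      obtain ⟨i', rfl⟩ := hz0d
      exact zpow_mem (mul_mem (hHM hi) hjM) i'
    by_cases hz0j : z0 = j
    · have hiv := unique j hjM hjH hjj v hv hv1 hjv i hi hii hi1 (hz0j ▸ hzi.eq)
      rw [hiv]
    · have hzjv : z0 * j = v := unique j hjM hjH hjj v hv hv1 hjv (z0 * j) (hmul z0 hz0M j hjM hz0H hjH)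
        (by
          calc z0 * j * (z0 * j) = z0 * (j * z0) * j := by group
            _ = z0 * (z0 * j) * j := by rw [hzj.symm.eq]
            _ = z0 * z0 * (j * j) := by group
            _ = 1 := by rw [hzz, hjj, one_mul])
        (fun q => hz0j (by rw [eq_inv_of_mul_eq_one_left q, inv_eq_of_mul_eq_one_right hjj]))
        (hzj.symm.mul_right (Commute.refl j)).eq
      have hz0v : z0 * v = v * z0 := by
        rw [← hzjv]; exact ((Commute.refl z0).mul_right hzj).eq
      have hiv := unique z0 hz0M hz0H hzz v hv hv1 hz0v i hi hii hi1 hzi.eq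
      rw [hiv]
  have hnormV : M ≤ normalizer (V : Set G) := by
    intro g hg
    rw [← TwoFusion.map_conj_eq_self_iff_mem_normalizer]
    refine eq_of_le_of_card_ge ?_ (card_map_of_injective (MulAut.conj g).injective).ge
    rintro _ ⟨v, hv, rfl⟩
    simp only [MulEquiv.coe_toMonoidHom, MulAut.conj_apply]
    refine hinner _ ?_ (by rw [conj_mul, hV.2 v hv]; group)
    by_cases hgH : g ∈ H
    · exact mul_mem (mul_mem hgH (hVH hv)) (inv_mem hgH)
    · have : g * v ∉ H := fun q => hgH (by simpa using mul_mem q (inv_mem (hVH hv)))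
      exact hmul _ (mul_mem hg (hHM (hVH hv))) _ (inv_mem hg) this (fun q => hgH (by simpa using inv_mem q))
  have hOV : oc z ≤ centralizer (V : Set G) := by
    intro b hb
    obtain ⟨hbo, hbz⟩ := (h.mem_oc hzo).1 hb
    have hbV : b ∈ normalizer (V : Set G) := hnormV (hHM (hOH hb))
    rw [mem_centralizer_iff]
    intro v hv
    have hz' : b * z * b⁻¹ = z := mul_inv_eq_iff_eq_mul.2 hbz
    have hmem := (Subgroup.mem_normalizer_iff.1 hbV v).1 hv
    by_cases hvz : v = z
    · rw [hvz]; exact hbz.symm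
    by_cases hv1 : v = 1
    · simp [hv1]
    refine (mul_inv_eq_iff_eq_mul.1 ?_).symm
    by_contra hne
    have hbb : b * (b * v * b⁻¹) * b⁻¹ = v := by
      have hne1 : ∀ a : G, a ≠ 1 → b * a * b⁻¹ ≠ 1 := fun a ha q => ha (by
        rw [show a = b⁻¹ * (b * a * b⁻¹) * b by group, q]; group)
      have hnez : ∀ a : G, a ≠ z → b * a * b⁻¹ ≠ z := fun a ha q =>
        ha (mul_left_cancel (mul_right_cancel (q.trans hz'.symm)))
      rcases four_split hV hzV hv hz1 hv1 (Ne.symm hvz) hmem with q | q | q | q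
      · exact absurd q (hne1 v hv1)
      · exact absurd q (hnez v hvz)
      · exact absurd q hne
      · rw [q, ← conj_mul, hz', q, ← mul_assoc, hV.2 z hzV, one_mul]
    obtain ⟨k, hk⟩ := hbo
    have hcomm : Commute (b * b) v := mul_inv_eq_iff_eq_mul.1 (by
      calc b * b * v * (b * b)⁻¹ = b * (b * v * b⁻¹) * b⁻¹ := by group
        _ = v := hbb)
    have hb' : b = (b * b) ^ (k + 1) := by
      rw [← pow_two, ← pow_mul, show 2 * (k + 1) = orderOf b + 1 by omega, pow_succ, pow_orderOf_eq_one,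
        one_mul]
    exact hne (by rw [hb', (hcomm.pow_left _).eq, mul_inv_cancel_right])
  exact ⟨z, w, ⟨hV, hzV, hz1, hww, hw1, hwz, hwu, hwM, hHiff, hpm, hinner, hOV, hOH, hVH, hcent,
    ⟨y, hyH, fun v hv hv1 => hyc z hzV hz1 v hv hv1⟩, hnormV⟩, huO⟩

end CycHyp

end Cfsg.Agent.GW
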