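import Cfsg.Agent.GW.CycEightB
import Cfsg.Agent.S4481
import Cfsg.Agent.S4482

/-!
# Sylow 2-subgroups of order at least eight: the centralizer of a four-group has no odd part
-/

set_option autoImplicit false
set_option linter.style.haveILetI false
set_option linter.unusedSectionVars false
set_option linter.unusedVariables false
set_option maxHeartbeats 1600000

open scoped ComplexConjugate
open Cfsg

namespace Cfsg.Agent.GW

open Cfsg.Agent.TwoGroups Cfsg.Agent.TwoFusion Subgroup DihBlock

universe u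

/-- The final Diophantine contradiction. -/
theorem eight_no_solution {X Y m : ℤ} (hX : 8 ∣ X - 1) (hX1 : X ≠ 1) (hY : 4 ∣ Y - 1) (hY1 : Y ≠ 1)
    (hY3 : Y ≠ -3) (hm : 3 ≤ m) (hmo : ¬ 2 ∣ m)
    (h : X * (X + 1) * ((m + 1) * (m + 1)) * ((Y - 1) * (Y - 1))
      = 3 * Y * (Y + 1) * ((X - 1) * (X - 1)) * (m * m)) : False := by
  have a1 : 0 ≤ (Y - 1) * (Y - 1) := mul_self_nonneg _
  have a2 : 0 < (X - 1) * (X - 1) := mul_self_pos.2 (by omega)
  have a3 : 0 < m * m := by positivity
  have a4 : 9 * ((m + 1) * (m + 1)) ≤ 16 * (m * m) := by nlinarith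
  have hXc : 9 ≤ X ∨ X ≤ -7 := by omega
  have a5 : 0 ≤ X * (X + 1) := by rcases hXc with e | e <;> nlinarith
  have a6 : 64 * (X * (X + 1)) ≤ 90 * ((X - 1) * (X - 1)) := by rcases hXc with e | e <;> nlinarith
  have b1 : 64 * (X * (X + 1)) * (9 * ((m + 1) * (m + 1))) * ((Y - 1) * (Y - 1))
      ≤ 90 * ((X - 1) * (X - 1)) * (16 * (m * m)) * ((Y - 1) * (Y - 1)) :=
    mul_le_mul_of_nonneg_right (mul_le_mul a6 a4 (by positivity) (by linarith)) a1
  have b2 : 0 < ((X - 1) * (X - 1)) * (m * m) := mul_pos a2 a3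
  have b3 : Y * Y + 16 * Y - 5 ≤ 0 := by
    have e : (288 * (Y * Y) + 4608 * Y - 1440) * (((X - 1) * (X - 1)) * (m * m))
        = 64 * (X * (X + 1)) * (9 * ((m + 1) * (m + 1))) * ((Y - 1) * (Y - 1))
          - 90 * ((X - 1) * (X - 1)) * (16 * (m * m)) * ((Y - 1) * (Y - 1)) := by
      linear_combination (-576) * h
    by_contra hc
    have : 0 < (288 * (Y * Y) + 4608 * Y - 1440) * (((X - 1) * (X - 1)) * (m * m)) :=
      mul_pos (by omega) b2
    omega
  have hYb : -16 ≤ Y ∧ Y ≤ 0 := by constructor <;> nlinarith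
  have hYs : Y = -7 ∨ Y = -11 ∨ Y = -15 := by omega
  have c1 := mul_le_mul_of_nonneg_left a4 a5
  have hXb : 9 ≤ X ∧ X < 40 := by
    have key : 1134 * ((X - 1) * (X - 1)) ≤ 1024 * (X * (X + 1)) := by
      by_contra hc
      have := mul_pos (show 0 < 1134 * ((X - 1) * (X - 1)) - 1024 * (X * (X + 1)) by omega) a3
      rcases hYs with rfl | rfl | rfl <;> nlinarith
    constructor <;> by_contra hc <;> rcases hXc with e | e <;> nlinarith
  have hmb : m < 9 := by
    have c2 := mul_le_mul_of_nonneg_right a6 (show 0 ≤ (m + 1) * (m + 1) by positivity)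
    have key : 126 * (m * m) ≤ 90 * ((m + 1) * (m + 1)) := by
      by_contra hc
      have := mul_pos (show 0 < 126 * (m * m) - 90 * ((m + 1) * (m + 1)) by omega) a2
      rcases hYs with rfl | rfl | rfl <;> nlinarith
    nlinarith
  obtain ⟨hX9, hX40⟩ := hXb
  have hXs : X = 9 ∨ X = 17 ∨ X = 25 ∨ X = 33 := by omega
  have hms : m = 3 ∨ m = 5 ∨ m = 7 := by omega
  rcases hYs with rfl | rfl | rfl <;> rcases hXs with rfl | rfl | rfl | rfl <;>
    rcases hms with rfl | rfl | rfl <;> norm_num at h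

namespace CycHyp

variable {G : Type u} [Group G] [Fintype G] {S : Sylow 2 G} {n : ℕ} (h : CycHyp S n)
include h

/-- The counting facts attached to the structure at a smallest prime. -/
theorem eight_counts (h4 : 4 < Nat.card (S : Subgroup G)) {V H Mg : Subgroup G} {uu z w : G}
    (hH : H ≤ Mg) (hu2 : uu * uu ≠ 1) (D : EightData V H Mg uu z w) :
    n = 4 ∧ Nat.card H = 12 * Nat.card (oc z) ∧ Nat.card Mg = 2 * Nat.card H ∧
      Nat.card (centralizer ({z} : Set G)) = 8 * Nat.card (oc z) ∧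
      Nat.card (centralizer (V : Set G)) = 4 * Nat.card (oc z) ∧
      Nat.card ↥(centralizer ({z, w} : Set G)) = 4 * Nat.card ↥(oc z ⊓ centralizer ({w} : Set G)) ∧
      (∀ j ∈ Mg, j ∉ H → j * j = 1 → ∃ g ∈ Mg, g * w * g⁻¹ = j) ∧
      Nat.card {j : G // j ∈ Mg ∧ j ∉ H ∧ j * j = 1} * Nat.card ↥(centralizer ({z, w} : Set G))
        = Nat.card Mg ∧
      ∃ (T : Sylow 2 G) (v0 : G), v0 ∈ V ∧ v0 ≠ 1 ∧ v0 ≠ z ∧ z ∈ (T : Subgroup G) ∧ v0 ∈ (T : Subgroup G) ∧
        w ∈ (T : Subgroup G) ∧ Nat.card (T : Subgroup G) = 8 ∧ w * v0 * w = z * v0 ∧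
        ∀ x ∈ (T : Subgroup G), x ∈ V ∨ ∃ v ∈ V, x = v * w := by
  classical
  haveI : Fact (Nat.Prime 2) := ⟨Nat.prime_two⟩
  haveI : Fact (Nat.Prime 3) := ⟨Nat.prime_three⟩
  obtain ⟨e⟩ := h.hS
  have hzz := D.four.2 z D.hz
  have hzo : orderOf z = 2 := orderOf_eq_prime (by rw [pow_two, hzz]) D.hz1
  have hwi : w⁻¹ = w := inv_eq_of_mul_eq_one_right D.hww
  have huu : uu⁻¹ ≠ uu := fun q => hu2 (by nth_rewrite 1 [← q]; exact inv_mul_cancel uu)
  have hwH : w ∉ H := fun q => huu (D.hwu.symm.trans ((D.hH w).1 q).2)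
  have hout : ∀ g ∈ Mg, g ∉ H → g * uu * g⁻¹ = uu⁻¹ := fun g hg hgH =>
    (D.pm g hg).resolve_left fun q => hgH ((D.hH g).2 ⟨hg, q⟩)
  have hwg : ∀ g ∈ Mg, g ∉ H → w * g ∈ H := by
    intro g hg hgH
    refine (D.hH _).2 ⟨mul_mem D.hwM hg, ?_⟩
    rw [show w * g * uu * (w * g)⁻¹ = w * (g * uu * g⁻¹) * w⁻¹ by group, hout g hg hgH, ← conj_inv,
      D.hwu, inv_inv]
  -- index two
  have hM2 : Nat.card Mg = 2 * Nat.card H := by
    let f : Bool × H → Mg := fun a => ⟨(if a.1 then w else 1) * (a.2 : G),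
      mul_mem (by split_ifs; exacts [D.hwM, one_mem _]) (hH a.2.2)⟩
    have hf : Function.Bijective f := by
      refine ⟨fun a b hab => ?_, fun g => ?_⟩
      · obtain ⟨a1, a2⟩ := a
        obtain ⟨b1, b2⟩ := b
        have e' : (if a1 then w else 1) * (a2 : G) = (if b1 then w else 1) * (b2 : G) :=
          congrArg Subtype.val hab
        cases a1 <;> cases b1 <;> simp only [Bool.false_eq_true, if_false, if_true, one_mul] at e'
        · exact Prod.ext rfl (Subtype.ext e')
        · exact absurd (show w ∈ H by rw [eq_mul_inv_of_mul_eq e'.symm]; exact mul_mem a2.2 (inv_mem b2.2)) hwH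
        · exact absurd (show w ∈ H by rw [eq_mul_inv_of_mul_eq e']; exact mul_mem b2.2 (inv_mem a2.2)) hwH
        · exact Prod.ext rfl (Subtype.ext (mul_left_cancel e'))
      · by_cases hg : (g : G) ∈ H
        · exact ⟨(false, ⟨g, hg⟩), Subtype.ext (one_mul _)⟩
        · exact ⟨(true, ⟨_, hwg g g.2 hg⟩), Subtype.ext (by
            change (if true = true then w else 1) * (w * (g : G)) = g
            rw [if_pos rfl, ← mul_assoc, D.hww, one_mul])⟩
    rw [← Nat.card_congr (Equiv.ofBijective f hf), Nat.card_prod, Nat.card_eq_fintype_card (α := Bool),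
      Fintype.card_bool]
  -- centralizer of `V`
  have hCV : Nat.card (centralizer (V : Set G)) = 4 * Nat.card (oc z) := by
    let f : V × oc z → centralizer (V : Set G) := fun a =>
      ⟨(a.1 : G) * a.2, mul_mem (D.four.le_centralizer a.1.2) (D.oc_le a.2.2)⟩
    have hf : Function.Bijective f := by
      refine ⟨fun a b hab => ?_, fun g => ?_⟩
      · refine Subgroup.mul_injective_of_disjoint (disjoint_iff.2 ?_) (congrArg Subtype.val hab)
        rw [eq_bot_iff]
        rintro x ⟨hxV, hxO⟩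
        rw [mem_bot, ← orderOf_eq_one_iff]
        exact Nat.eq_one_of_dvd_coprimes ((h.mem_oc hzo).1 hxO).1.coprime_two_left
          (orderOf_dvd_of_pow_eq_one (by rw [pow_two]; exact D.four.2 x hxV)) dvd_rfl
      · obtain ⟨a, ha, b, hb, hab⟩ := h.centralizer_four D.four D.hz g.2
        exact ⟨(⟨a, ha⟩, ⟨b, hb.1⟩), Subtype.ext hab⟩
    rw [← Nat.card_congr (Equiv.ofBijective f hf), Nat.card_prod, D.four.1]
  have hCVM : centralizer (V : Set G) ≤ Mg := fun g hg =>
    D.cent (mem_centralizer_singleton_iff.2 (mem_centralizer_iff.1 hg z D.hz).symm)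
  -- four-group facts
  have hnofix : ∀ v ∈ V, v ≠ 1 → v ≠ z → w * v * w ≠ v := by
    intro v hv hv1 hvz q
    refine hwH (D.V_H (mem_four_of_centralizes e D.four (k := 1) (by rw [pow_one, pow_two, D.hww]) ?_))
    rw [mem_centralizer_iff]
    intro x hx
    have hwv : v * w = w * v := by
      calc v * w = w * v * w * w := by rw [q]
        _ = w * v := by rw [mul_assoc, D.hww, mul_one]
    rcases four_split D.four D.hz hv D.hz1 hv1 (Ne.symm hvz) hx with r | r | r | r <;> rw [r]
    · simp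
    · exact D.hwz.symm
    · exact hwv
    · rw [mul_assoc, hwv, ← mul_assoc, ← D.hwz, mul_assoc]
  obtain ⟨v0, hv0, hv01, hv0z⟩ : ∃ v0 ∈ V, v0 ≠ 1 ∧ v0 ≠ z := by
    by_contra hc; push Not at hc
    have := Nat.card_le_card_of_injective (fun v : V => decide ((v : G) = 1)) (fun a b hab => by
      simp only [decide_eq_decide] at hab
      by_cases ha : (a : G) = 1
      · exact Subtype.ext (ha.trans (hab.1 ha).symm)
      · exact Subtype.ext ((hc a a.2 ha).trans (hc b b.2 (fun q => ha (hab.2 q))).symm))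
    rw [D.four.1, Nat.card_eq_fintype_card, Fintype.card_bool] at this
    omega
  have hwV : w ∈ normalizer (V : Set G) := D.normV D.hwM
  have hwv0 : w * v0 * w = z * v0 := by
    have hm : w * v0 * w ∈ V := by
      have := (Subgroup.mem_normalizer_iff.1 hwV v0).1 hv0
      rwa [hwi] at this
    have hne1 : w * v0 * w ≠ 1 := fun q => hv01 (by
      calc v0 = w * (w * v0 * w) * w := by
            rw [show w * (w * v0 * w) * w = w * w * v0 * (w * w) by group, D.hww, one_mul, mul_one]
        _ = 1 := by rw [q, mul_one, D.hww])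
    rcases four_split D.four D.hz hv0 D.hz1 hv01 (Ne.symm hv0z) hm with r | r | r | r
    · exact absurd r hne1
    · exfalso
      refine hv0z ?_
      calc v0 = w * (w * v0 * w) * w := by
            rw [show w * (w * v0 * w) * w = w * w * v0 * (w * w) by group, D.hww, one_mul, mul_one]
        _ = z := by rw [r, D.hwz, mul_assoc, D.hww, mul_one]
    · exact absurd r (hnofix v0 hv0 hv01 hv0z)
    · exact r
  -- centralizer of `w` in `Mg`
  have hzfix : ∀ g ∈ Mg, g * w = w * g → g * z = z * g := by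
    intro g hg hgw
    have hm : g * z * g⁻¹ ∈ V := (Subgroup.mem_normalizer_iff.1 (D.normV hg) z).1 D.hz
    refine mul_inv_eq_iff_eq_mul.1 ?_
    by_contra hne
    refine hnofix _ hm (fun q => D.hz1 ?_) hne ?_
    · rw [show z = g⁻¹ * (g * z * g⁻¹) * g by group, q]; group
    · calc w * (g * z * g⁻¹) * w = (w * g) * z * (g⁻¹ * w) := by group
        _ = (g * w) * z * (w * g⁻¹) := by
          rw [hgw, show g⁻¹ * w = w * g⁻¹ from ((show Commute g w from hgw).inv_left).eq]
        _ = g * (w * z) * w * g⁻¹ := by group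
        _ = g * z * g⁻¹ := by
          rw [D.hwz, mul_assoc g (z * w) w, mul_assoc z w w, D.hww, mul_one]
  -- `card Mg`
  obtain ⟨y, hyH, hyc⟩ := D.cycle
  have hN : Nat.card (normalizer (V : Set G)) = 6 * (4 * Nat.card (oc z)) := by
    rw [← hCV]
    rcases h.relIndex_cases D.four with q | ⟨q, -⟩
    · exfalso
      haveI := normal_centralizer_subgroupOf V
      have hw3 := pow_index_mem ((centralizer (V : Set G)).subgroupOf (normalizer (V : Set G)))
        (⟨w, hwV⟩ : normalizer (V : Set G))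
      rw [show ((centralizer (V : Set G)).subgroupOf (normalizer (V : Set G))).index = 3 from q,
        mem_subgroupOf] at hw3
      simp only [pow_succ, pow_zero, one_mul, Subgroup.coe_mul, D.hww] at hw3
      refine hnofix v0 hv0 hv01 hv0z ?_
      have := mem_centralizer_iff.1 hw3 v0 hv0
      rw [mul_assoc, this, ← mul_assoc, D.hww, one_mul]
    · rw [← q, relIndex, ← (((centralizer (V : Set G)).subgroupOf (normalizer (V : Set G)))).index_mul_card,
        Nat.card_congr (subgroupOfEquivOfLe (Subgroup.centralizer_le_normalizer _)).toEquiv]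
  obtain ⟨hzodd, -⟩ := (h.oc_spec hzo).2
  have hopos : 0 < Nat.card (oc z) := Nat.card_pos
  have hC8 : Nat.card (centralizer ({z} : Set G)) = Nat.card (oc z) * Nat.card (S : Subgroup G) :=
    (h.oc_spec hzo).2.2
  obtain ⟨k, hk⟩ : 4 * Nat.card (oc z) ∣ Nat.card Mg := hCV ▸ card_dvd_of_le hCVM
  have hk6 : k ∣ 6 := by
    have := card_dvd_of_le D.normV
    rw [hk, hN, mul_comm 6] at this
    exact Nat.dvd_of_mul_dvd_mul_left (by omega) this
  have hS8 : Nat.card (S : Subgroup G) = 8 ∧ k = 6 := by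
    obtain ⟨a, ha⟩ := IsPGroup.iff_card.1 S.isPGroup'
    have hd : Nat.card (S : Subgroup G) ∣ 4 * k := by
      have := card_dvd_of_le D.cent
      rw [hC8, hk, mul_comm 4 (Nat.card (oc z)), mul_assoc] at this
      exact Nat.dvd_of_mul_dvd_mul_left hopos this
    have hdl := Nat.le_of_dvd (Nat.mul_pos (by norm_num) (Nat.pos_of_dvd_of_pos hk6 (by norm_num))) hd
    have hk3 : 3 ∣ k := by
      by_contra h3
      have hk2 : k = 1 ∨ k = 2 := by
        have : k ≤ 6 := Nat.le_of_dvd (by norm_num) hk6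
        interval_cases k <;> simp_all
      have hidx : ((centralizer (V : Set G)).subgroupOf Mg).index = k := by
        have h1 := ((centralizer (V : Set G)).subgroupOf Mg).index_mul_card
        rw [Nat.card_congr (subgroupOfEquivOfLe hCVM).toEquiv, hCV, hk, mul_comm _ k] at h1
        exact Nat.eq_of_mul_eq_mul_right (by omega) h1
      have hy2 : y * y ∈ centralizer (V : Set G) := by
        rcases hk2 with q | q <;> rw [q] at hidx
        · rw [index_eq_one] at hidx
          have : (⟨y * y, mul_mem (hH hyH) (hH hyH)⟩ : Mg) ∈ (centralizer (V : Set G)).subgroupOf Mg := by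
            rw [hidx]; exact mem_top _
          exact this
        · haveI := normal_of_index_eq_two hidx
          have := pow_index_mem ((centralizer (V : Set G)).subgroupOf Mg) (⟨y, hH hyH⟩ : Mg)
          rw [hidx, mem_subgroupOf, SubgroupClass.coe_pow, pow_two] at this
          exact this
      have hfix : y * (y * z * y⁻¹) * y⁻¹ = z := by
        rw [show y * (y * z * y⁻¹) * y⁻¹ = y * y * z * (y * y)⁻¹ by group,
          ← mem_centralizer_iff.1 hy2 z D.hz, mul_inv_cancel_right]
      have h2 : ∀ v ∈ V, v = 1 ∨ v = z ∨ v = y * z * y⁻¹ := fun v hv => by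
        by_cases hv1 : v = 1
        · exact Or.inl hv1
        · rcases hyc v hv hv1 with r | r | r
          · exact Or.inr (Or.inl r)
          · exact Or.inr (Or.inr r)
          · exact Or.inr (Or.inl (r.trans hfix))
      rcases h2 v0 hv0 with r | r | r
      · exact hv01 r
      · exact hv0z r
      · rcases h2 (z * v0) (mul_mem D.hz hv0) with q | q | q
        · exact hv0z (by rw [eq_inv_of_mul_eq_one_right q, inv_eq_of_mul_eq_one_right hzz])
        · exact hv01 (mul_left_cancel (q.trans (mul_one z).symm))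
        · exact D.hz1 (mul_right_cancel ((q.trans r.symm).trans (one_mul v0).symm))
    have : k ≤ 6 := Nat.le_of_dvd (by norm_num) hk6
    have ha5 : a < 5 := by
      by_contra hc
      have : 2 ^ 5 ≤ 2 ^ a := Nat.pow_le_pow_right (by norm_num) (by omega)
      omega
    rw [ha] at hd h4 ⊢
    interval_cases a <;> interval_cases k <;> simp_all
  obtain ⟨hS8, rfl⟩ := hS8
  have hH12 : Nat.card H = 12 * Nat.card (oc z) := by omega
  have hn4 : n = 4 := by have := h.card_S; omega
  -- Sylow subgroup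
  set R := zpowers w ⊔ V with hR
  have hR2 : IsPGroup 2 R := (IsPGroup.of_card (n := 1) (by
    rw [Nat.card_zpowers, pow_one]
    exact orderOf_eq_prime (by rw [pow_two, D.hww]) D.hw1)).to_sup_of_normal_right'
    (isPGroup_four D.four) (zpowers_le.2 hwV)
  obtain ⟨T, hT⟩ := hR2.exists_le_sylow
  have hT8 : Nat.card (T : Subgroup G) = 8 := by rw [Nat.card_congr (Sylow.equiv T S).toEquiv, hS8]
  have hwT : w ∈ (T : Subgroup G) := hT (mem_sup_left (mem_zpowers w))
  have hVT : V ≤ (T : Subgroup G) := fun v hv => hT (mem_sup_right hv)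
  have hTmem : ∀ x ∈ (T : Subgroup G), x ∈ V ∨ ∃ v ∈ V, x = v * w := by
    let f : Bool × V → (T : Subgroup G) := fun a => ⟨(a.2 : G) * (if a.1 then w else 1),
      mul_mem (hVT a.2.2) (by split_ifs; exacts [hwT, one_mem _])⟩
    have hf : Function.Bijective f := by
      rw [Nat.bijective_iff_injective_and_card]
      refine ⟨fun a b hab => ?_, by
        rw [Nat.card_prod, D.four.1, hT8, Nat.card_eq_fintype_card, Fintype.card_bool]⟩
      obtain ⟨a1, a2⟩ := a
      obtain ⟨b1, b2⟩ := b
      have e' : (a2 : G) * (if a1 then w else 1) = (b2 : G) * (if b1 then w else 1) :=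
        congrArg Subtype.val hab
      cases a1 <;> cases b1 <;> simp only [Bool.false_eq_true, if_false, if_true, mul_one] at e'
      · exact Prod.ext rfl (Subtype.ext e')
      · exact absurd (D.V_H (show w ∈ V by rw [eq_inv_mul_of_mul_eq e'.symm]; exact mul_mem (inv_mem b2.2) a2.2)) hwH
      · exact absurd (D.V_H (show w ∈ V by rw [eq_inv_mul_of_mul_eq e']; exact mul_mem (inv_mem a2.2) b2.2)) hwH
      · exact Prod.ext rfl (Subtype.ext (mul_right_cancel e'))
    intro x hx
    obtain ⟨⟨b, v⟩, hbv⟩ := hf.2 ⟨x, hx⟩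
    have e' : (v : G) * (if b then w else 1) = x := congrArg Subtype.val hbv
    cases b
    · left; rw [← e']; simp
    · right; exact ⟨v, v.2, e'.symm⟩
  -- centralizer of `z` and `w`
  have hzw : ∀ g, g ∈ centralizer ({z, w} : Set G) ↔ g * z = z * g ∧ g * w = w * g := by
    intro g
    simp only [mem_centralizer_iff, Set.mem_insert_iff, Set.mem_singleton_iff, forall_eq_or_imp, forall_eq]
    exact ⟨fun q => ⟨q.1.symm, q.2.symm⟩, fun q => ⟨q.1.symm, q.2.symm⟩⟩
  have hCw : Nat.card ↥(centralizer ({z, w} : Set G)) = 4 * Nat.card ↥(oc z ⊓ centralizer ({w} : Set G)) := by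
    have hne : z ≠ w := fun q => hwH (q ▸ D.V_H D.hz)
    let U : Subgroup G :=
      { carrier := {g | g = 1 ∨ g = z ∨ g = w ∨ g = z * w}
        one_mem' := Or.inl rfl
        mul_mem' := by
          have a1 : ∀ a, z * (z * a) = a := fun a => by rw [← mul_assoc, hzz, one_mul]
          have a2 : ∀ a, w * (w * a) = a := fun a => by rw [← mul_assoc, D.hww, one_mul]
          have a3 : ∀ a, w * (z * a) = z * (w * a) := fun a => by rw [← mul_assoc, D.hwz, mul_assoc]
          rintro a b (ha | ha | ha | ha) (hb | hb | hb | hb) <;>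
            simp [ha, hb, mul_assoc, hzz, D.hww, a1, a2, a3, D.hwz]
        inv_mem' := by
          rintro a (ha | ha | ha | ha) <;>
            simp [ha, mul_inv_rev, inv_eq_of_mul_eq_one_right hzz, hwi, D.hwz] }
    have hU4 : Nat.card U = 4 := by
      have n1 := D.hz1
      have n2 := D.hw1
      have n3 : z * w ≠ 1 := fun q => hne (by rw [eq_inv_of_mul_eq_one_left q, hwi])
      have n4 : z * w ≠ z := fun q => n2 (mul_left_cancel (q.trans (mul_one z).symm))
      have n5 : z * w ≠ w := fun q => n1 (mul_right_cancel (q.trans (one_mul w).symm))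
      rw [show (4 : ℕ) = Nat.card (Fin 4) by simp]
      refine (Nat.card_congr (Equiv.ofBijective (fun i : Fin 4 =>
        (⟨![1, z, w, z * w] i, by fin_cases i <;> simp [U]⟩ : U)) ⟨?_, ?_⟩)).symm
      · intro i i' hij
        have hij' : ![1, z, w, z * w] i = ![1, z, w, z * w] i' := congrArg Subtype.val hij
        fin_cases i <;> fin_cases i' <;>
          first
            | rfl
            | exact absurd hij' n1 | exact absurd hij'.symm n1
            | exact absurd hij' n2 | exact absurd hij'.symm n2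
            | exact absurd hij' hne | exact absurd hij'.symm hne
            | exact absurd hij' n3 | exact absurd hij'.symm n3
            | exact absurd hij' n4 | exact absurd hij'.symm n4
            | exact absurd hij' n5 | exact absurd hij'.symm n5
      · rintro ⟨g, hg⟩
        rcases (show g = 1 ∨ g = z ∨ g = w ∨ g = z * w from hg) with rfl | rfl | rfl | rfl
        exacts [⟨0, rfl⟩, ⟨1, rfl⟩, ⟨2, rfl⟩, ⟨3, rfl⟩]
    have hUfour : IsFour U := by
      refine ⟨hU4, ?_⟩
      rintro x (q | q | q | q) <;> rw [q]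
      · rw [one_mul]
      · exact hzz
      · exact D.hww
      · rw [mul_assoc, ← mul_assoc w, D.hwz, mul_assoc z w w, D.hww, mul_one, hzz]
    have hUC : U ≤ centralizer ({z, w} : Set G) := by
      rintro x (q | q | q | q) <;> rw [hzw, q]
      · simp
      · exact ⟨rfl, D.hwz.symm⟩
      · exact ⟨D.hwz, rfl⟩
      · exact ⟨by rw [mul_assoc, D.hwz], by rw [← mul_assoc w, D.hwz]⟩
    let f : U × ↥(oc z ⊓ centralizer ({w} : Set G)) → centralizer ({z, w} : Set G) := fun a =>
      ⟨(a.1 : G) * a.2, mul_mem (hUC a.1.2) ((hzw _).2 ⟨((h.mem_oc hzo).1 a.2.2.1).2,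
        mem_centralizer_singleton_iff.1 a.2.2.2⟩)⟩
    have hf : Function.Bijective f := by
      refine ⟨fun a b hab => ?_, fun g => ?_⟩
      · refine Subgroup.mul_injective_of_disjoint (disjoint_iff.2 ?_) (congrArg Subtype.val hab)
        rw [eq_bot_iff]
        rintro x ⟨hxV, hxO⟩
        rw [mem_bot, ← orderOf_eq_one_iff]
        exact Nat.eq_one_of_dvd_coprimes ((h.mem_oc hzo).1 hxO.1).1.coprime_two_left
          (orderOf_dvd_of_pow_eq_one (by rw [pow_two]; exact hUfour.2 x hxV)) dvd_rfl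
      · obtain ⟨gz, gw⟩ := (hzw g).1 g.2
        have hgU : (g : G) ∈ centralizer (U : Set G) := by
          rw [mem_centralizer_iff]
          rintro x (q | q | q | q) <;> rw [q]
          · simp
          · exact gz.symm
          · exact gw.symm
          · rw [mul_assoc, ← gw, ← mul_assoc, ← gz, mul_assoc]
        obtain ⟨a, ha, b, hb, hab⟩ := h.centralizer_four hUfour (t := z) (Or.inr (Or.inl rfl)) hgU
        refine ⟨(⟨a, ha⟩, ⟨b, hb.1, mem_centralizer_singleton_iff.2 ?_⟩), Subtype.ext hab⟩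
        exact (mem_centralizer_iff.1 hb.2 w (Or.inr (Or.inr (Or.inl rfl)))).symm
    rw [← Nat.card_congr (Equiv.ofBijective f hf), Nat.card_prod, hU4]
  -- outer involutions
  have hclass : ∀ j ∈ Mg, j ∉ H → j * j = 1 → ∃ g ∈ Mg, g * w * g⁻¹ = j := by
    intro j hj hjH hjj
    have hji : j⁻¹ = j := inv_eq_of_mul_eq_one_right hjj
    obtain ⟨v, hv, hv1, hjv⟩ : ∃ v ∈ V, v ≠ 1 ∧ j * v = v * j := by
      have hmem : j * v0 * j ∈ V := by
        have := (Subgroup.mem_normalizer_iff.1 (D.normV hj) v0).1 hv0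
        rwa [hji] at this
      have hback : j * (j * v0 * j) * j = v0 := by
        rw [show j * (j * v0 * j) * j = j * j * v0 * (j * j) by group, hjj, one_mul, mul_one]
      by_cases hf : j * v0 * j = v0
      · exact ⟨v0, hv0, hv01, by
          calc j * v0 = j * v0 * j * j := by rw [mul_assoc (j * v0) j j, hjj, mul_one]
            _ = v0 * j := by rw [hf]⟩
      · refine ⟨v0 * (j * v0 * j), mul_mem hv0 hmem, fun q => hf ?_, ?_⟩
        · rw [← inv_eq_of_mul_eq_one_right q, inv_eq_of_mul_eq_one_right (D.four.2 v0 hv0)]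
        · have : j * (v0 * (j * v0 * j)) * j = v0 * (j * v0 * j) := by
            calc j * (v0 * (j * v0 * j)) * j = (j * v0 * j) * (j * (j * v0 * j) * j) := by
                  rw [hback]
                  calc j * (v0 * (j * v0 * j)) * j = j * v0 * j * v0 * (j * j) := by group
                    _ = j * v0 * j * v0 := by rw [hjj, mul_one]
              _ = v0 * (j * v0 * j) := by rw [hback, D.four.comm hmem hv0]
          calc j * (v0 * (j * v0 * j)) = j * (v0 * (j * v0 * j)) * j * j := by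
                rw [mul_assoc (j * (v0 * (j * v0 * j))) j j, hjj, mul_one]
            _ = v0 * (j * v0 * j) * j := by rw [this]
    obtain ⟨g, hgH, hgv⟩ : ∃ g ∈ H, g * z * g⁻¹ = v := by
      rcases hyc v hv hv1 with r | r | r
      · exact ⟨1, H.one_mem, by simp [r]⟩
      · exact ⟨y, hyH, r.symm⟩
      · exact ⟨y * y, mul_mem hyH hyH, by rw [r]; group⟩
    set j' := g⁻¹ * j * g with hj'
    have hj'C : j' ∈ centralizer ({z} : Set G) := by
      rw [mem_centralizer_singleton_iff, hj', show g⁻¹ * j * g * z = g⁻¹ * (j * (g * z * g⁻¹)) * g by group,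
        hgv, hjv, ← hgv]
      group
    have hTC : (T : Subgroup G) ≤ centralizer ({z} : Set G) := by
      intro x hx
      rw [mem_centralizer_singleton_iff]
      rcases hTmem x hx with r | ⟨v', hv', rfl⟩
      · exact D.four.comm r D.hz
      · rw [mul_assoc, D.hwz, ← mul_assoc, D.four.comm hv' D.hz, mul_assoc]
    let T' : Sylow 2 (centralizer ({z} : Set G)) := T.subtype hTC
    have hj'2 : IsPGroup 2 (zpowers (⟨j', hj'C⟩ : centralizer ({z} : Set G))) := IsPGroup.of_card (n := 1) (by
      rw [Nat.card_zpowers, orderOf_mk, pow_one]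
      refine orderOf_eq_prime ?_ fun q => hjH ?_
      · rw [pow_two, hj']
        calc g⁻¹ * j * g * (g⁻¹ * j * g) = g⁻¹ * (j * j) * g := by group
          _ = 1 := by rw [hjj]; group
      · rw [show j = g * j' * g⁻¹ by rw [hj']; group, q, mul_one, mul_inv_cancel]; exact H.one_mem)
    obtain ⟨Q, hQ⟩ := hj'2.exists_le_sylow
    obtain ⟨c, hc⟩ := MulAction.exists_smul_eq (centralizer ({z} : Set G)) Q T'
    have hx : (c : G) * j' * (c : G)⁻¹ ∈ (T : Subgroup G) := by
      have : c * ⟨j', hj'C⟩ * c⁻¹ ∈ (T' : Subgroup (centralizer ({z} : Set G))) := by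
        rw [← hc, Sylow.coe_subgroup_smul]
        exact smul_mem_pointwise_smul _ (MulAut.conj c) _ (hQ (mem_zpowers _))
      rw [Sylow.coe_subtype, mem_subgroupOf] at this
      exact this
    have hcM : (c : G) ∈ Mg := D.cent c.2
    have hgM : g ∈ Mg := hH hgH
    have hxH : (c : G) * j' * (c : G)⁻¹ ∉ H := fun q => hjH ((D.hH j).2 ⟨hj, by
      have hxM : (c : G) * j' * (c : G)⁻¹ ∈ Mg := hH q
      obtain ⟨-, qu⟩ := (D.hH _).1 q
      -- conjugation preserves centralising `uu`
      have hgu : g * uu * g⁻¹ = uu := ((D.hH g).1 hgH).2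
      have hgu' : g⁻¹ * uu * g = uu := by nth_rewrite 1 [← hgu]; group
      have hj'u : j' * uu * j'⁻¹ = uu := by
        have e1 : j' * ((c : G)⁻¹ * uu * c) * j'⁻¹ = (c : G)⁻¹ * uu * c := by
          calc j' * ((c : G)⁻¹ * uu * c) * j'⁻¹
              = (c : G)⁻¹ * ((c : G) * j' * (c : G)⁻¹ * uu * ((c : G) * j' * (c : G)⁻¹)⁻¹) * c := by group
            _ = (c : G)⁻¹ * uu * c := by rw [qu]
        rcases D.pm _ (inv_mem hcM) with r | r <;> rw [inv_inv] at r <;> rw [r] at e1
        · exact e1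
        · rw [← conj_inv] at e1; exact inv_injective e1
      calc j * uu * j⁻¹ = g * (j' * (g⁻¹ * uu * g) * j'⁻¹) * g⁻¹ := by rw [hj']; group
        _ = uu := by rw [hgu', hj'u, hgu]⟩)
    have hxx : (c : G) * j' * (c : G)⁻¹ * ((c : G) * j' * (c : G)⁻¹) = 1 := by
      rw [conj_mul, hj', show g⁻¹ * j * g * (g⁻¹ * j * g) = g⁻¹ * (j * j) * g by group, hjj]; group
    rcases hTmem _ hx with r | ⟨v', hv', hv'e⟩
    · exact absurd (D.V_H r) hxH
    have hv'w : v' = 1 ∨ v' = z := by
      by_contra hc'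
      push Not at hc'
      refine hnofix v' hv' hc'.1 hc'.2 ?_
      rw [hv'e] at hxx
      calc w * v' * w = v'⁻¹ * (v' * w * (v' * w)) := by group
        _ = v' := by rw [hxx, mul_one, inv_eq_of_mul_eq_one_right (D.four.2 v' hv')]
    rcases hv'w with rfl | rfl
    · refine ⟨g * (c : G)⁻¹, mul_mem hgM (inv_mem hcM), ?_⟩
      rw [one_mul] at hv'e
      rw [← hv'e, hj']; group
    · refine ⟨g * (c : G)⁻¹ * v0, mul_mem (mul_mem hgM (inv_mem hcM)) (hH (D.V_H hv0)), ?_⟩
      have hconj : v0 * w * v0⁻¹ = v' * w := by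
        rw [inv_eq_of_mul_eq_one_right (D.four.2 v0 hv0)]
        calc v0 * w * v0 = v0 * (w * v0 * w) * w⁻¹ := by group
          _ = v0 * (v' * v0) * w := by rw [hwv0, hwi]
          _ = v' * w := by rw [D.four.comm hv' hv0, ← mul_assoc v0, D.four.2 v0 hv0, one_mul]
      calc g * (c : G)⁻¹ * v0 * w * (g * (c : G)⁻¹ * v0)⁻¹
          = g * (c : G)⁻¹ * (v0 * w * v0⁻¹) * (c : G) * g⁻¹ := by group
        _ = g * (c : G)⁻¹ * ((c : G) * j' * (c : G)⁻¹) * (c : G) * g⁻¹ := by rw [hconj, hv'e]
        _ = j := by rw [hj']; group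
  have hI : Nat.card {j : G // j ∈ Mg ∧ j ∉ H ∧ j * j = 1} * Nat.card ↥(centralizer ({z, w} : Set G))
      = Nat.card Mg := by
    let π : Mg → {j : G // j ∈ Mg ∧ j ∉ H ∧ j * j = 1} := fun g => ⟨(g : G) * w * (g : G)⁻¹,
      mul_mem (mul_mem g.2 D.hwM) (inv_mem g.2), fun q => huu (by
        obtain ⟨-, qu⟩ := (D.hH _).1 q
        have e1 : w * ((g : G)⁻¹ * uu * g) * w⁻¹ = (g : G)⁻¹ * uu * g := by
          calc w * ((g : G)⁻¹ * uu * g) * w⁻¹
              = (g : G)⁻¹ * ((g : G) * w * (g : G)⁻¹ * uu * ((g : G) * w * (g : G)⁻¹)⁻¹) * g := by group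
            _ = (g : G)⁻¹ * uu * g := by rw [qu]
        rcases D.pm _ (inv_mem g.2) with r | r <;> rw [inv_inv] at r <;> rw [r] at e1
        · exact D.hwu.symm.trans e1
        · rw [← conj_inv, D.hwu, inv_inv] at e1; exact e1.symm), by rw [conj_mul, D.hww]; group⟩
    have hfib : ∀ j, Nat.card {g : Mg // π g = j} = Nat.card ↥(centralizer ({z, w} : Set G)) := by
      intro j
      obtain ⟨g0, hg0, hg0e⟩ := hclass j j.2.1 j.2.2.1 j.2.2.2
      refine Nat.card_congr
        { toFun := fun g => ⟨g0⁻¹ * (g.1 : G), ?_⟩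
          invFun := fun c => ⟨⟨g0 * c, mul_mem hg0 (D.cent (mem_centralizer_singleton_iff.2 ((hzw c).1 c.2).1))⟩, ?_⟩
          left_inv := fun g => Subtype.ext (Subtype.ext (mul_inv_cancel_left g0 (g.1 : G)))
          right_inv := fun c => Subtype.ext (inv_mul_cancel_left g0 (c : G)) }
      · have hge : (g.1 : G) * w * (g.1 : G)⁻¹ = g0 * w * g0⁻¹ := (congrArg Subtype.val g.2).trans hg0e.symm
        have hw' : g0⁻¹ * (g.1 : G) * w = w * (g0⁻¹ * (g.1 : G)) := by
          calc g0⁻¹ * (g.1 : G) * w = g0⁻¹ * ((g.1 : G) * w * (g.1 : G)⁻¹) * g.1 := by group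
            _ = w * (g0⁻¹ * (g.1 : G)) := by rw [hge]; group
        exact (hzw _).2 ⟨hzfix _ (mul_mem (inv_mem hg0) g.1.2) hw', hw'⟩
      · refine Subtype.ext ?_
        show g0 * c * w * (g0 * c)⁻¹ = j
        rw [show g0 * (c : G) * w * (g0 * c)⁻¹ = g0 * ((c : G) * w * (c : G)⁻¹) * g0⁻¹ by group,
          ((hzw c).1 c.2).2, mul_inv_cancel_right, hg0e]
    rw [← Nat.card_congr (Equiv.sigmaFiberEquiv π), Nat.card_sigma, Finset.sum_congr rfl (fun j _ => hfib j),
      Finset.sum_const, Finset.card_univ, smul_eq_mul, ← Nat.card_eq_fintype_card]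
  exact ⟨hn4, hH12, hM2, by rw [hC8, hS8, mul_comm], hCV, hCw, hclass, hI, T, v0, hv0, hv01, hv0z,
    hVT D.hz, hVT hv0, hwT, hT8, hwv0, hTmem⟩

end CycHyp

end Cfsg.Agent.GW
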