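import Cfsg.Agent.GW.CycEightC
import Cfsg.Agent.BlkChar.PModular

/-!
# Sylow 2-subgroups of order at least eight: the contradiction
-/

set_option autoImplicit false
set_option linter.style.haveILetI false
set_option linter.unusedSectionVars false
set_option linter.unusedVariables false
set_option maxHeartbeats 1600000

open scoped ComplexConjugate
open Cfsg

namespace Cfsg.Agent.GW

open Cfsg.Agent.TwoGroups Cfsg.Agent.TwoFusion Subgroup DihBlock

universe u

namespace CycHyp

variable {G : Type u} [Group G] [Fintype G] {S : Sylow 2 G} {n : ℕ} (h : CycHyp S n)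
include h

/-- The moments of the coefficient vector contradict the structure of the principal block. -/
theorem eight_final {o g : ℕ} (ho : 0 < o) (hoo : Odd o) (hg : g ∣ o) (hgne : g ≠ o) {z w v0 : G}
    {T : Sylow 2 G} (hn : n = 4) {V : Subgroup G} (hV : IsFour V) (hz : z ∈ V) (hz1 : z ≠ 1) (hv0 : v0 ∈ V)
    (hv01 : v0 ≠ 1) (hv0z : v0 ≠ z) (hww : w * w = 1) (hw1 : w ≠ 1) (hwz : w * z = z * w)
    (hwv : w * v0 * w = z * v0) (hzT : z ∈ (T : Subgroup G)) (hvT : v0 ∈ (T : Subgroup G))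
    (hwT : w ∈ (T : Subgroup G)) (hT8 : Nat.card (T : Subgroup G) = 8)
    (hTmem : ∀ x ∈ (T : Subgroup G), x ∈ V ∨ ∃ v ∈ V, x = v * w)
    (hCz : Nat.card (centralizer ({z} : Set G)) = 8 * o)
    (hCV : Nat.card (centralizer (V : Set G)) = 4 * o)
    (hCw : Nat.card ↥(centralizer ({z, w} : Set G)) = 4 * g)
    {M : Ideal AlgInt} (hM : IsPModular 2 M) {H : Subgroup G} [Fintype H] (lam : H →* ℂˣ) (hlam : lam ≠ 1)
    (hzero : ∀ x : G, orderOf x = 1 ∨ orderOf x = 2 →
      ∑ ψ : IrrCharacter G, coef H lam ψ * (ψ : G → ℂ) x = 0)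
    (hsq : ∑ ψ : IrrCharacter G, coef H lam ψ * coef H lam ψ = 3)
    (hphi : ∑ ψ ∈ pb M G, coef H lam ψ * (ψ : G → ℂ) z = 2)
    (hpairs : (∑ ψ : IrrCharacter G, coef H lam ψ * (ψ : G → ℂ) z ^ 2 / (ψ : G → ℂ) 1)
        * ((Nat.card G : ℂ) * (g : ℂ) ^ 2) = 192 * (o : ℂ) ^ 3) : False := by
  classical
  haveI : Fact (Nat.Prime 2) := ⟨Nat.prime_two⟩
  have hzz := hV.2 z hz
  have hzo : orderOf z = 2 := orderOf_eq_prime (by rw [pow_two, hzz]) hz1
  have hwi : w⁻¹ = w := inv_eq_of_mul_eq_one_right hww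
  have hvi : v0⁻¹ = v0 := inv_eq_of_mul_eq_one_right (hV.2 v0 hv0)
  have hgpos : 0 < g := Nat.pos_of_dvd_of_pos hg ho
  -- coordinates
  set σ := v0 * w with hσ
  have hσ2 : σ ^ 2 = z := by
    rw [hσ, pow_two]
    calc v0 * w * (v0 * w) = v0 * (w * v0 * w) := by group
      _ = z := by rw [hwv, ← mul_assoc, hV.comm hv0 hz, mul_assoc, hV.2 v0 hv0, mul_one]
  have hσT : σ ∈ (T : Subgroup G) := mul_mem hvT hwT
  have hσo : orderOf σ = 2 ^ (3 - 1) := by
    refine orderOf_eq_prime_pow ?_ ?_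
    · rw [pow_one, hσ2]; exact hz1
    · rw [show 2 ^ (1 + 1) = 2 * 2 by norm_num, pow_mul, hσ2, pow_two, hzz]
  have hrel : w * σ * w⁻¹ = σ⁻¹ := by
    rw [hσ, mul_inv_rev, hwi, hvi, mul_assoc, mul_assoc, hww, mul_one]
  have hστ : σ * w = v0 := by rw [hσ, mul_assoc, hww, mul_one]
  have hgen : Subgroup.closure ({σ, w} : Set G) = (T : Subgroup G) := by
    refine le_antisymm ((closure_le _).2 (by rintro x (rfl | rfl); exacts [hσT, hwT])) ?_
    intro x hx
    set K := Subgroup.closure ({σ, w} : Set G)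
    have h1 : σ ∈ K := subset_closure (Or.inl rfl)
    have h2 : w ∈ K := subset_closure (Or.inr rfl)
    have h3 : v0 ∈ K := hστ ▸ mul_mem h1 h2
    have h4 : z ∈ K := hσ2 ▸ pow_mem h1 2
    have hVK : ∀ v ∈ V, v ∈ K := fun v hv => by
      rcases four_split hV hz hv0 hz1 hv01 (Ne.symm hv0z) hv with q | q | q | q <;> rw [q]
      exacts [one_mem _, h4, h3, mul_mem h4 h3]
    rcases hTmem x hx with q | ⟨v, hv, rfl⟩
    · exact hVK x q
    · exact mul_mem (hVK v hv) h2
  have hwo : orderOf w = 2 := orderOf_eq_prime (by rw [pow_two, hww]) hw1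
  have hv0o : orderOf v0 = 2 := orderOf_eq_prime (by rw [pow_two]; exact hV.2 v0 hv0) hv01
  -- the block
  obtain ⟨eT⟩ := (h.of_sylow T).hS
  have hP : Nonempty ((T : Subgroup G) ≃* DihedralGroup (2 ^ (3 - 1))) := by
    rw [show 2 ^ (3 - 1) = n by rw [hn]; norm_num]; exact ⟨eT⟩
  obtain ⟨-, χ₁, χ₂, χ₃, χ', δ₁, δ₂, δ₃, hδ₁, hδ₂, hδ₃, -, hχ₁T, hχ₂T, hχ₃T, h12, h13, h23, hχ', hpb,
    hval, -⟩ := S4481.result M hM 3 (le_refl _) T hP σ hσT hσo
      (Complex.exp (2 * Real.pi * Complex.I / ((2 ^ (3 - 1) : ℕ) : ℂ)))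
      (Complex.isPrimitiveRoot_exp _ (by norm_num))
  have hχ₁ : χ₁ ∈ principalBlock M G := by
    rw [hpb, Set.mem_ofPred_eq]; exact Or.inr (Or.inl rfl)
  obtain ⟨hX1, hord⟩ := S4482.result M hM 3 (le_refl _) T σ w hσT hwT hσo hwo hrel hgen
    ⟨h.all_conj _ _ (by rw [show 2 ^ (3 - 2) = 2 by norm_num, hσ2, hzo]) hwo,
     h.all_conj _ _ (by rw [show 2 ^ (3 - 2) = 2 by norm_num, hσ2, hzo]) (by rw [hστ, hv0o])⟩
    χ₁ hχ₁ hχ₁T δ₁ hδ₁ (fun l hl hl' => (hval l hl hl').1)
  rw [show 2 ^ (3 - 2) = 2 by norm_num, hσ2, hστ, hCz, hCw] at hord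
  have hCzv : centralizer ({z, v0} : Set G) = centralizer (V : Set G) := by
    refine le_antisymm (fun x hx => ?_) (centralizer_le (by rintro x (rfl | rfl); exacts [hz, hv0]))
    rw [mem_centralizer_iff] at hx ⊢
    intro v hv
    have e1 := hx z (Or.inl rfl)
    have e2 := hx v0 (Or.inr rfl)
    rcases four_split hV hz hv0 hz1 hv01 (Ne.symm hv0z) hv with q | q | q | q <;> rw [q]
    · simp
    · exact e1
    · exact e2
    · rw [mul_assoc, e2, ← mul_assoc, e1, mul_assoc]
  rw [hCzv, hCV] at hord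
  -- integrality data
  choose c hc using coef_int H lam
  choose zv hzv using fun ψ : IrrCharacter G => irr_value_int ψ hzo
  set Tr := Char.trivialIrr G with hTr
  set d : IrrCharacter G → ℤ := fun ψ => (charDegree (ψ : G → ℂ) : ℤ) with hd
  have hdeg : ∀ ψ : IrrCharacter G, (ψ : G → ℂ) 1 = (d ψ : ℂ) := fun ψ => by
    rw [hd, Int.cast_natCast]; exact (Char.irr_charDegree_spec ψ.2).2
  have hdpos : ∀ ψ : IrrCharacter G, 0 < d ψ := fun ψ => by
    simp only [hd]; exact_mod_cast (Char.irr_charDegree_spec ψ.2).1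
  have hTT : c Tr = 1 ∧ zv Tr = 1 ∧ d Tr = 1 := by
    refine ⟨?_, ?_, ?_⟩
    · have := hc Tr; rw [coef_trivial H lam hlam] at this; exact_mod_cast this.symm
    · have := hzv Tr; rw [show (Tr : G → ℂ) z = 1 from rfl] at this; exact_mod_cast this.symm
    · have := hdeg Tr; rw [show (Tr : G → ℂ) 1 = 1 from rfl] at this; exact_mod_cast this.symm
  -- the congruence of the degree of `χ₁` modulo eight
  have hX8 : (8 : ℤ) ∣ δ₁ * d χ₁ - 1 := by
    haveI := Fintype.ofFinite (T : Subgroup G)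
    obtain ⟨m, hm⟩ := Brauer.exists_sum_subgroup_eq_card_mul (Char.isCharacter_of_irr χ₁.2) (T : Subgroup G)
    have hz' : (χ₁ : G → ℂ) z = (δ₁ : ℂ) := by
      have := (hval 2 (by norm_num) (by norm_num)).1
      rwa [hσ2] at this
    have hall : ∀ x ∈ (T : Subgroup G), x ≠ 1 → (χ₁ : G → ℂ) x = δ₁ := by
      intro x hx hx1
      have key : x * x = 1 → (χ₁ : G → ℂ) x = δ₁ := fun hxx => by
        rw [← hz']
        exact Char.isClassFunction_eq_of_isConj (Char.irr_isClassFunction χ₁.2)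
          (h.all_conj x z (orderOf_eq_prime (by rw [pow_two, hxx]) hx1) hzo)
      rcases hTmem x hx with q | ⟨v, hv, rfl⟩
      · exact key (hV.2 x q)
      rcases four_split hV hz hv0 hz1 hv01 (Ne.symm hv0z) hv with q | q | q | q <;> rw [q] at key ⊢
      · exact key (by rw [one_mul, hww])
      · exact key (by rw [mul_assoc, ← mul_assoc w, hwz, mul_assoc z w w, hww, mul_one, hzz])
      · rw [← pow_one (v0 * w)]
        exact (hval 1 one_pos (by norm_num)).1
      · rw [mul_assoc, ← hσ, ← hσ2, ← pow_succ]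
        exact (hval 3 (by norm_num) (by norm_num)).1
    rw [← Finset.add_sum_erase _ _ (Finset.mem_univ (1 : (T : Subgroup G))),
      Finset.sum_congr rfl (g := fun _ : (T : Subgroup G) => (δ₁ : ℂ)) (fun (x : (T : Subgroup G)) hx => hall x x.2
        (fun q => (Finset.mem_erase.mp hx).1 (Subtype.ext q))), Finset.sum_const, nsmul_eq_mul,
      OneMemClass.coe_one, hdeg, hT8, Finset.card_erase_of_mem (Finset.mem_univ _), Finset.card_univ,
      ← Nat.card_eq_fintype_card, hT8] at hm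
    have hm' : d χ₁ + 7 * δ₁ = 8 * (m : ℤ) := by exact_mod_cast hm
    rcases hδ₁ with q | q <;> rw [q] at hm' ⊢ <;> omega
  have hX1' : δ₁ * d χ₁ ≠ 1 := by
    intro q
    apply hX1
    rcases hδ₁ with r | r <;> rw [r] at q ⊢ <;> simp only [hd] at q <;> omega
  -- the coefficient vector
  have e3 : ∑ ψ, c ψ * c ψ = 3 := by simp only [hc] at hsq; exact_mod_cast hsq
  have ez : ∑ ψ, c ψ * zv ψ = 0 := by
    have := hzero z (Or.inr hzo); simp only [hc, hzv] at this; exact_mod_cast this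
  have ed : ∑ ψ, c ψ * d ψ = 0 := by
    have := hzero 1 (Or.inl orderOf_one); simp only [hc, hdeg] at this; exact_mod_cast this
  have ep : ∑ ψ ∈ pb M G, c ψ * zv ψ = 2 := by
    simp only [hc, hzv] at hphi; exact_mod_cast hphi
  have e8 : ∑ ψ ∈ pb M G, zv ψ ^ 2 = 8 := by
    have := h.column_sq hM hzo
    simp only [hzv, ← Nat.card_congr (Sylow.equiv T S).toEquiv, hT8] at this
    exact_mod_cast this
  have hTpb : Tr ∈ pb M G := trivial_mem_pb hM
  -- values at `z` in the block
  have hzsmall : ∀ ψ ∈ pb M G, zv ψ = 0 ∨ zv ψ = 1 ∨ zv ψ = -1 ∨ zv ψ = 2 ∨ zv ψ = -2 := by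
    intro ψ hψ
    have h1 : zv ψ ^ 2 ≤ 8 := e8 ▸ Finset.single_le_sum (fun x _ => sq_nonneg (zv x)) hψ
    have h3 : -3 < zv ψ := by nlinarith
    have h4 : zv ψ < 3 := by nlinarith
    omega
  obtain ⟨a, b, hab, haT, hbT, hsplit, hca, hcb⟩ : ∃ a b, a ≠ b ∧ a ≠ Tr ∧ b ≠ Tr ∧
      (∀ f : IrrCharacter G → ℤ, ∑ ψ, c ψ * f ψ = f Tr + c a * f a + c b * f b) ∧
      c a * c a = 1 ∧ c b * c b = 1 := by
    set R := (Finset.univ.erase Tr) with hR
    have hR2 : ∑ ψ ∈ R, c ψ * c ψ = 2 := by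
      have h0 : c Tr * c Tr + ∑ ψ ∈ R, c ψ * c ψ = 3 :=
        (Finset.add_sum_erase Finset.univ (fun ψ => c ψ * c ψ) (Finset.mem_univ Tr)).trans e3
      rw [hTT.1] at h0
      omega
    set N := R.filter (fun ψ => ¬ c ψ = 0) with hN
    have hN2 : ∑ ψ ∈ N, c ψ * c ψ = 2 := by
      have := Finset.sum_filter_add_sum_filter_not R (fun ψ => c ψ = 0) (fun ψ => c ψ * c ψ)
      rw [Finset.sum_eq_zero (s := R.filter _) (fun x hx => by rw [(Finset.mem_filter.1 hx).2, mul_zero])] at this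
      rw [hN]; omega
    have hN1 : ∀ ψ ∈ N, c ψ * c ψ = 1 := by
      intro ψ hψ
      have h1 : c ψ * c ψ ≤ 2 := hN2 ▸ Finset.single_le_sum (fun x _ => mul_self_nonneg (c x)) hψ
      have h2 : c ψ ≠ 0 := (Finset.mem_filter.1 hψ).2
      have h3 : -2 < c ψ := by nlinarith
      have h4 : c ψ < 2 := by nlinarith
      rcases (show c ψ = 1 ∨ c ψ = -1 by omega) with q | q <;> rw [q] <;> norm_num
    have hNc : N.card = 2 := by
      rw [Finset.sum_congr rfl hN1] at hN2
      simp only [Finset.sum_const, nsmul_eq_mul, mul_one] at hN2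
      exact_mod_cast hN2
    obtain ⟨a, b, hab, hNe⟩ := Finset.card_eq_two.1 hNc
    have haN : a ∈ N := by simp [hNe]
    have hbN : b ∈ N := by simp [hNe]
    refine ⟨a, b, hab, (Finset.mem_erase.1 (Finset.mem_filter.1 haN).1).1,
      (Finset.mem_erase.1 (Finset.mem_filter.1 hbN).1).1, fun f => ?_, hN1 a haN, hN1 b hbN⟩
    have := Finset.sum_filter_add_sum_filter_not R (fun ψ => c ψ = 0) (fun ψ => c ψ * f ψ)
    rw [Finset.sum_eq_zero (s := R.filter _) (fun x hx => by rw [(Finset.mem_filter.1 hx).2, zero_mul]),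
      ← hN, hNe, Finset.sum_pair hab, zero_add] at this
    rw [← Finset.add_sum_erase _ _ (Finset.mem_univ Tr), hTT.1, one_mul, ← this]
    ring
  rw [hsplit, hTT.2.1] at ez
  rw [hsplit, hTT.2.2] at ed
  -- exactly one of the two lies in the block
  have key : ∀ a b : IrrCharacter G, a ≠ b → a ≠ Tr → b ≠ Tr →
      (∀ f : IrrCharacter G → ℤ, ∑ ψ, c ψ * f ψ = f Tr + c a * f a + c b * f b) →
      c a * c a = 1 → c b * c b = 1 → 1 + c a * zv a + c b * zv b = 0 → 1 + c a * d a + c b * d b = 0 →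
      c a * zv a = 1 → False := by
    intro a b hab haT hbT hsplit hca hcb ez ed hza
    have hzb : c b * zv b = -2 := by omega
    have hza2 : zv a * zv a = 1 := by
      calc zv a * zv a = (c a * zv a) * (c a * zv a) := by linear_combination (-(zv a * zv a)) * hca
        _ = 1 := by rw [hza]; norm_num
    have hzb2 : zv b * zv b = 4 := by
      calc zv b * zv b = (c b * zv b) * (c b * zv b) := by linear_combination (-(zv b * zv b)) * hcb
        _ = 4 := by rw [hzb]; norm_num
    set Y := c a * d a with hY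
    have hY4 : (4 : ℤ) ∣ Y - 1 := by
      have h1 := h.four_congr hV a hzo (hdeg a) (hzv a)
      rcases mul_self_eq_one_iff.1 hca with q | q <;> rw [hY, q] <;> rw [q] at hza <;> omega
    have hY1 : Y ≠ 1 := by
      intro q
      have hd1 : d a = 1 := by
        have := hdpos a
        rcases mul_self_eq_one_iff.1 hca with r | r <;> rw [hY, r] at q <;> omega
      exact haT (h.eq_trivial_of_degree_one a (by rw [hdeg, hd1, Int.cast_one]))
    have hY3 : Y ≠ -3 := by
      intro q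
      have hdb : c b * d b = 2 := by omega
      have hneg : zv b = - d b := by
        rcases mul_self_eq_one_iff.1 hcb with r | r <;> rw [r] at hdb hzb <;> omega
      have hchar := Char.isCharacter_of_irr b.2
      obtain ⟨ω, hω, hωm⟩ := Char.isCharacter_mul_of_norm_eq hchar (g := z) (by
        rw [hzv, hdeg, hneg, Int.cast_neg, norm_neg, Complex.norm_intCast, Complex.intCast_re,
          abs_of_pos (by exact_mod_cast hdpos b)])
      have hdne : ((d b : ℤ) : ℂ) ≠ 0 := Int.cast_ne_zero.2 (hdpos b).ne'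
      have hω1 : ω = -1 := by
        rw [hzv, hdeg, hneg, Int.cast_neg] at hω
        refine mul_right_cancel₀ hdne ?_
        rw [neg_one_mul, hω]
      obtain ⟨K, hKn, hK⟩ := Char.isCharacter_exists_kernel hchar
      haveI := h.simple
      rcases hKn.eq_bot_or_eq_top with e' | e'
      · have hcen : z ∈ center G := by
          rw [Subgroup.mem_center_iff]
          intro x
          have hs : x * z * x⁻¹ ∈ ({y | (b : G → ℂ) (z * y) = (b : G → ℂ) 1} : Set G) := by
            show (b : G → ℂ) (z * (x * z * x⁻¹)) = _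
            rw [(hωm _).1, hω1, Char.isClassFunction_eq_of_isConj (Char.irr_isClassFunction b.2)
              (isConj_iff.2 ⟨x⁻¹, by group⟩ : IsConj (x * z * x⁻¹) z), hω, hω1]
            ring
          have := (hK _).2 hs
          rw [e', mem_bot] at this
          have h2 : x * z * x⁻¹ = z := by
            rw [← inv_eq_of_mul_eq_one_right this, inv_eq_of_mul_eq_one_right hzz]
          exact mul_inv_eq_iff_eq_mul.1 h2
        rw [h.center_eq_bot, mem_bot] at hcen
        exact hz1 hcen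
      · have := (hK z).1 (e' ▸ mem_top z)
        rw [hzv, hdeg, Int.cast_inj] at this
        have := hdpos b
        omega
    -- the moment
    have hmom : ((1 : ℚ) + (c a : ℚ) / d a + 4 * (c b : ℚ) / d b) * ((Nat.card G : ℚ) * (g : ℚ) ^ 2)
        = 192 * (o : ℚ) ^ 3 := by
      have hsum : ∑ ψ : IrrCharacter G, coef H lam ψ * (ψ : G → ℂ) z ^ 2 / (ψ : G → ℂ) 1
          = 1 + (c a : ℂ) / d a + 4 * (c b : ℂ) / d b := by
        have hzero' : ∀ ψ, ψ ≠ Tr → ψ ≠ a → ψ ≠ b → c ψ = 0 := by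
          intro ψ h1 h2 h3
          have := hsplit (fun x => if x = ψ then 1 else 0)
          simpa [Ne.symm h1, Ne.symm h2, Ne.symm h3] using this
        rw [← Finset.sum_subset (Finset.subset_univ {Tr, a, b}) (fun x _ hx => by
          simp only [Finset.mem_insert, Finset.mem_singleton, not_or] at hx
          rw [hc, hzero' x hx.1 hx.2.1 hx.2.2]; simp),
          Finset.sum_insert (by simp [Ne.symm haT, Ne.symm hbT]), Finset.sum_pair hab]
        simp only [hc, hzv, hdeg, hTT.1, hTT.2.1, hTT.2.2]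
        rw [show ((zv a : ℤ) : ℂ) ^ 2 = 1 by rw [sq]; exact_mod_cast hza2,
          show ((zv b : ℤ) : ℂ) ^ 2 = 4 by rw [sq]; exact_mod_cast hzb2]
        push_cast
        ring
      rw [hsum] at hpairs
      apply (Rat.castHom ℂ).injective
      simp only [map_mul, map_add, map_div₀, map_pow, map_one, map_intCast, map_natCast, map_ofNat]
      exact hpairs
    -- the order formula
    obtain ⟨m, hm⟩ := hg
    have hm3 : (3 : ℤ) ≤ m ∧ ¬ (2 : ℤ) ∣ m := by
      have h1 : ¬ 2 ∣ m := fun q => hoo.not_two_dvd_nat (hm ▸ q.mul_left g)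
      have h2 : m ≠ 1 := fun q => hgne (by rw [hm, q, mul_one])
      constructor <;> omega
    set X := δ₁ * d χ₁ with hX
    have hX' : (charDegree (χ₁ : G → ℂ) : ℚ) = (δ₁ : ℚ) * (X : ℚ) := by
      rw [hX]; simp only [hd]; push_cast
      rcases hδ₁ with q | q <;> rw [q] <;> norm_num
    have hδsq : (δ₁ : ℚ) * δ₁ = 1 := by rcases hδ₁ with q | q <;> rw [q] <;> norm_num
    have hg0 : (g : ℚ) ≠ 0 := Nat.cast_ne_zero.2 hgpos.ne'
    have ho0 : (o : ℚ) ≠ 0 := Nat.cast_ne_zero.2 ho.ne'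
    have hm0 : (m : ℚ) ≠ 0 := by exact_mod_cast (show (m : ℤ) ≠ 0 by omega)
    have e1 : (Nat.card G : ℚ) * ((X : ℚ) - 1) ^ 2
        = 64 * (X : ℚ) * (X + 1) * ((g : ℚ) * m) * (1 + m) ^ 2 := by
      rw [hX'] at hord
      simp only [hm, Nat.cast_mul, Nat.cast_ofNat] at hord
      field_simp at hord
      field_simp
      linear_combination (norm := skip) (1 / 16 : ℚ) * hord
      rcases hδ₁ with q | q <;> rw [q] <;> push_cast <;> ring
    have hda : (d a : ℚ) ≠ 0 := by exact_mod_cast (hdpos a).ne'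
    have hdb : (d b : ℚ) ≠ 0 := by exact_mod_cast (hdpos b).ne'
    have e2 : ((Y : ℚ) - 1) ^ 2 * (Nat.card G : ℚ)
        = 192 * ((g : ℚ) * m) * (m : ℚ) ^ 2 * ((Y : ℚ) * (Y + 1)) := by
      have hcaq : (c a : ℚ) * c a = 1 := by exact_mod_cast hca
      have hcbq : (c b : ℚ) * c b = 1 := by exact_mod_cast hcb
      have hYa : (c a : ℚ) / d a = 1 / (Y : ℚ) := by
        rw [hY]; push_cast
        have : (c a : ℚ) ≠ 0 := left_ne_zero_of_mul_eq_one hcaq
        field_simp
        linear_combination hcaq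
      have hYb : (c b : ℚ) / d b = 1 / (-1 - (Y : ℚ)) := by
        have hb' : -1 - (Y : ℚ) = (c b : ℚ) * d b := by
          rw [hY]; push_cast
          have : ((1 + c a * d a + c b * d b : ℤ) : ℚ) = 0 := by rw [ed]; norm_num
          push_cast at this
          linarith
        rw [hb']
        have : (c b : ℚ) ≠ 0 := left_ne_zero_of_mul_eq_one hcbq
        field_simp
        linear_combination hcbq
      have hY0 : (Y : ℚ) ≠ 0 := by exact_mod_cast (show Y ≠ 0 by omega)
      have hY0' : (-1 - (Y : ℚ)) ≠ 0 := by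
        have : ((-1 - Y : ℤ) : ℚ) ≠ 0 := Int.cast_ne_zero.2 (by omega)
        push_cast at this; exact this
      rw [mul_div_assoc, hYa, hYb, hm, Nat.cast_mul] at hmom
      field_simp at hmom
      refine mul_left_cancel₀ (pow_ne_zero 2 hg0) ?_
      linear_combination (-((g : ℚ) ^ 2)) * hmom
    refine eight_no_solution (X := X) (Y := Y) (m := (m : ℤ)) hX8 hX1' hY4 hY1 hY3 hm3.1 hm3.2 ?_
    have hGq : (0 : ℚ) < (Nat.card G : ℚ) := by exact_mod_cast Nat.card_pos
    have e3 : (X : ℚ) * (X + 1) * ((m + 1) * (m + 1)) * ((Y - 1) * (Y - 1))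
        = 3 * Y * (Y + 1) * ((X - 1) * (X - 1)) * (m * m) := by
      refine mul_left_cancel₀ (mul_ne_zero (mul_ne_zero (by norm_num : (64 : ℚ) ≠ 0) hg0) hm0) ?_
      linear_combination ((X : ℚ) - 1) ^ 2 * e2 - ((Y : ℚ) - 1) ^ 2 * e1
    exact_mod_cast e3
  -- which one has value one
  have hpbab : ∀ x : IrrCharacter G, x = a ∨ x = b → c x * zv x = 1 →
      False := by
    rintro x (rfl | rfl) hx
    · exact key _ b hab haT hbT hsplit hca hcb ez ed hx
    · exact key _ a (Ne.symm hab) hbT haT (fun f => by rw [hsplit f]; ring) hcb hca (by linarith) (by linarith) hx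
  have hsum2 : 2 = 1 + (if a ∈ pb M G then c a * zv a else 0) + (if b ∈ pb M G then c b * zv b else 0) := by
    have := hsplit (fun ψ => if ψ ∈ pb M G then zv ψ else 0)
    rw [if_pos hTpb, hTT.2.1] at this
    simp only [mul_ite, mul_zero] at this
    rw [← this, Finset.sum_ite_mem, Finset.univ_inter, ep]
  by_cases ha : a ∈ pb M G
  · by_cases hb : b ∈ pb M G
    · rw [if_pos ha, if_pos hb] at hsum2; omega
    · rw [if_pos ha, if_neg hb] at hsum2; exact hpbab a (Or.inl rfl) (by omega)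
  · by_cases hb : b ∈ pb M G
    · rw [if_neg ha, if_pos hb] at hsum2; exact hpbab b (Or.inr rfl) (by omega)
    · rw [if_neg ha, if_neg hb] at hsum2; omega

end CycHyp

end Cfsg.Agent.GW
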