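import Cfsg.Agent.GW.CycEightD

/-!
# Sylow 2-subgroups of order at least eight: no odd part in the centralizer of a four-group
-/

set_option autoImplicit false
set_option linter.style.haveILetI false
set_option linter.unusedSectionVars false
set_option linter.unusedVariables false
set_option maxHeartbeats 1600000

open scoped ComplexConjugate
open Cfsg

namespace Cfsg.Agent.GW

open Cfsg.Agent.TwoGroups Cfsg.Agent.TwoFusion Subgroup DihBlock

universe u

namespace CycHyp

variable {G : Type u} [Group G] [Fintype G] {S : Sylow 2 G} {n : ℕ} (h : CycHyp S n)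
include h

/-- With larger Sylow 2-subgroups the centralizer of a four-group has no odd part. -/
theorem eight_trivial (h4 : 4 < Nat.card (S : Subgroup G)) {V0 : Subgroup G} (hV0 : IsFour V0)
    {x0 : G} (hx0 : x0 ∈ centralizer (V0 : Set G)) (ho0 : Odd (orderOf x0)) : x0 = 1 := by
  classical
  by_contra hne
  haveI : Fact (Nat.Prime 2) := ⟨Nat.prime_two⟩
  have hex : ∃ q, q.Prime ∧ q ≠ 2 ∧ ∃ V : Subgroup G, IsFour V ∧ ∃ x ∈ centralizer (V : Set G), orderOf x = q := by
    obtain ⟨q, hq, hqd⟩ := Nat.exists_prime_and_dvd (mt orderOf_eq_one_iff.1 hne)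
    exact ⟨q, hq, fun e => ho0.not_two_dvd_nat (e ▸ hqd), V0, hV0, x0 ^ (orderOf x0 / q), pow_mem hx0 _,
      orderOf_pow_orderOf_div (orderOf_pos x0).ne' hqd⟩
  obtain ⟨hp, hp2, V, hV, uu, huV, hu⟩ := Nat.find_spec hex
  set p := Nat.find hex with hpdef
  haveI : Fact p.Prime := ⟨hp⟩
  obtain ⟨z, w, D, huO⟩ := h.eight_data h4 hV hp2 hu huV fun x q hq hq2 hx hxc =>
    Nat.find_min' hex ⟨hq, hq2, V, hV, x, hxc, hx⟩
  set H := centralizer ({uu} : Set G) with hH
  set Mg := normalizer (zpowers uu : Set G) with hMg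
  have hu1 : uu ≠ 1 := fun e => by rw [e, orderOf_one] at hu; exact hp.one_lt.ne hu
  have huu2 : uu * uu ≠ 1 := fun q => by
    have h2 : orderOf uu ∣ 2 := orderOf_dvd_of_pow_eq_one (by rw [pow_two, q])
    rw [hu] at h2
    exact hp2 ((Nat.prime_dvd_prime_iff_eq hp Nat.prime_two).1 h2)
  have hHM : H ≤ Mg := fun g hg => ((D.hH g).1 hg).1
  obtain ⟨hn4, hH12, hM2, hCz, hCV, hCw, hclass, hI, T, v0, hv0, hv01, hv0z, hzT, hvT, hwT, hT8, hwv0,
    hTmem⟩ := h.eight_counts h4 hHM huu2 D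
  have hzz := hV.2 z D.hz
  have hzo : orderOf z = 2 := orderOf_eq_prime (by rw [pow_two, hzz]) D.hz1
  set o := Nat.card (oc z) with ho
  set g := Nat.card ↥(oc z ⊓ centralizer ({w} : Set G)) with hg
  have hodd : Odd o := (h.oc_spec hzo).2.1
  have hgo : g ∣ o := card_dvd_of_le inf_le_left
  have hgne : g ≠ o := fun q => by
    have := eq_of_le_of_card_ge (inf_le_left : oc z ⊓ centralizer ({w} : Set G) ≤ oc z) q.ge
    have huw : uu ∈ oc z ⊓ centralizer ({w} : Set G) := this.symm ▸ huO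
    have e1 := D.hwu
    rw [← mem_centralizer_singleton_iff.1 huw.2, mul_inv_cancel_right] at e1
    exact huu2 (by nth_rewrite 1 [e1]; exact inv_mul_cancel uu)
  haveI := Fintype.ofFinite H
  -- the linear character
  have huH : uu ∈ H := mem_centralizer_singleton_iff.2 rfl
  obtain ⟨lam, hlu, hlam⟩ := exists_hom_central (H := H) (p := p) (u := ⟨uu, huH⟩)
    (fun P => h.isCyclic_sylow hp hp2 H P) (by rw [orderOf_mk, hu]) (by
      rw [Subgroup.mem_center_iff]
      intro x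
      exact Subtype.ext (mem_centralizer_singleton_iff.1 x.2))
  have hlam1 : lam ≠ 1 := fun e => hlu (by rw [e]; rfl)
  have hgen : ∀ x : H, lam x ≠ 1 → uu ∈ zpowers (x : G) := fun x hx => by
    obtain ⟨i, hi⟩ := hlam x hx
    exact ⟨i, congrArg Subtype.val hi⟩
  have hlam2 : ∀ x : H, (x : G) * x = 1 → lam x = 1 := by
    intro x hx
    by_contra hne'
    have hd : p ∣ orderOf (x : G) := by rw [← hu]; exact orderOf_dvd_of_mem_zpowers (hgen x hne')
    exact hp2 ((Nat.prime_dvd_prime_iff_eq hp Nat.prime_two).1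
      (hd.trans (orderOf_dvd_of_pow_eq_one (by rw [pow_two, hx]))))
  have hordu : orderOf (lam ⟨uu, huH⟩) = p := orderOf_eq_prime (by
    rw [← map_pow, show (⟨uu, huH⟩ : H) ^ p = 1 from Subtype.ext (by
      rw [SubgroupClass.coe_pow, ← hu]; exact pow_orderOf_eq_one uu), map_one]) hlu
  have hMu : ∀ g ∈ Mg, g * uu * g⁻¹ ∈ zpowers uu := fun g hg =>
    (Subgroup.mem_normalizer_iff.1 hg uu).1 (mem_zpowers uu)
  have hnorm : ∀ g ∈ Mg, ∀ x ∈ H, g * x * g⁻¹ ∈ H := by
    intro g hg x hx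
    obtain ⟨i, hi⟩ := hMu g⁻¹ (inv_mem hg)
    simp only at hi
    have hxu : Commute x uu := mem_centralizer_singleton_iff.1 hx
    rw [hH, mem_centralizer_singleton_iff]
    calc g * x * g⁻¹ * uu = g * (x * (g⁻¹ * uu * g⁻¹⁻¹)) * g⁻¹ := by group
      _ = g * (g⁻¹ * uu * g⁻¹⁻¹ * x) * g⁻¹ := by rw [← hi, (hxu.zpow_right i).eq]
      _ = uu * (g * x * g⁻¹) := by group
  have hTI : ∀ (g : G) (x : H) (hg : g * (x : G) * g⁻¹ ∈ H), lam x ≠ 1 →
      lam ⟨g * (x : G) * g⁻¹, hg⟩ ≠ 1 → g ∈ Mg := by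
    intro g x hg h1 h2
    obtain ⟨i, hi⟩ := hgen x h1
    have hg1 : g * uu * g⁻¹ ∈ zpowers (g * (x : G) * g⁻¹) := ⟨i, by simp only at hi ⊢; rw [conj_zpow, hi]⟩
    have hu2 : uu ∈ zpowers (g * (x : G) * g⁻¹) := hgen _ h2
    have hord : orderOf (g * uu * g⁻¹) = p := by rw [← MulAut.conj_apply, MulEquiv.orderOf_eq, hu]
    have heq : zpowers (⟨_, hg1⟩ : zpowers (g * (x : G) * g⁻¹)) = zpowers ⟨uu, hu2⟩ :=
      FrobeniusCompl.eq_of_card_eq (by rw [Nat.card_zpowers, Nat.card_zpowers, orderOf_mk, orderOf_mk, hu, hord])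
    have heq' := congrArg (fun L => L.map (zpowers (g * (x : G) * g⁻¹)).subtype) heq
    simp only [MonoidHom.map_zpowers, coe_subtype] at heq'
    rw [hMg, ← TwoFusion.map_conj_eq_self_iff_mem_normalizer, MonoidHom.map_zpowers]
    simpa [MulAut.conj_apply] using heq'
  have hout : ∀ a ∈ Mg, a ∉ H → a * uu * a⁻¹ = uu⁻¹ := fun a ha haH =>
    (D.pm a ha).resolve_left fun q => haH ((D.hH a).2 ⟨ha, q⟩)
  have hstab : ∀ g, ∀ hg : g ∈ Mg, g ∉ H → ∃ x : H,
      lam ⟨g * (x : G) * g⁻¹, hnorm g hg x x.2⟩ ≠ lam x := by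
    intro g hg hgH
    refine ⟨⟨uu, huH⟩, fun e => ?_⟩
    rw [show (⟨g * uu * g⁻¹, hnorm g hg uu huH⟩ : H) = (⟨uu, huH⟩ : H)⁻¹ from
      Subtype.ext (hout g hg hgH), map_inv, inv_eq_iff_mul_eq_one, ← pow_two,
      ← orderOf_dvd_iff_pow_eq_one, hordu] at e
    exact hp2 ((Nat.prime_dvd_prime_iff_eq hp Nat.prime_two).1 e)
  have hsq := sum_coef_sq H lam hlam1 Mg hHM hnorm hTI hstab
  rw [hM2, Nat.cast_mul, mul_div_cancel_right₀ _ Char.card_ne_zero_complex] at hsq
  norm_num at hsq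
  have hzero : ∀ x : G, orderOf x = 1 ∨ orderOf x = 2 →
      ∑ ψ : IrrCharacter G, coef H lam ψ * (ψ : G → ℂ) x = 0 := by
    intro x hx
    refine sum_coef_mul_eq_zero H lam x fun y hy => hlam2 y ?_
    obtain ⟨c, hc⟩ := isConj_iff.1 hy
    have hord : orderOf (y : G) = orderOf x := by rw [← hc, ← MulAut.conj_apply, MulEquiv.orderOf_eq]
    rw [← pow_two, ← orderOf_dvd_iff_pow_eq_one, hord]
    rcases hx with q | q <;> rw [q]
    norm_num
  obtain ⟨M, hM⟩ := BlkChar.exists_isPModular 2 Nat.prime_two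
  have hHc : (Nat.card H : ℂ) = 12 * (o : ℂ) := by rw [hH12]; push_cast; rfl
  have hoc0 : (o : ℂ) ≠ 0 := Nat.cast_ne_zero.2 Nat.card_pos.ne'
  -- the block sum
  have hphi : ∑ ψ ∈ pb M G, coef H lam ψ * (ψ : G → ℂ) z = 2 := by
    have hS8 : Nat.card (S : Subgroup G) = 8 := by
      rw [← hT8]; exact Nat.card_congr (Sylow.equiv S T).toEquiv
    rw [h.block_coef hM hzo, hS8, hHc]
    let F : {v : V // v ≠ 1} × oc z → {x : H // IsConj z (Element.pPart 2 (x : G))} := fun a =>
      ⟨⟨(a.1.1 : G) * a.2, mul_mem (D.V_H a.1.1.2) (D.oc_H a.2.2)⟩, by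
        have hv1 : (a.1.1 : G) ≠ 1 := fun q => a.1.2 (Subtype.ext q)
        have hvo : orderOf (a.1.1 : G) = 2 := orderOf_eq_prime (by rw [pow_two]; exact hV.2 _ a.1.1.2) hv1
        have := (Element.eq_pPart Nat.prime_two (g := (a.1.1 : G) * a.2) (a := (a.1.1 : G)) (b := (a.2 : G))
          (mem_centralizer_iff.1 (D.oc_le a.2.2) _ a.1.1.2) rfl (k := 1) (by rw [pow_one]; exact hvo)
          (Nat.coprime_two_right.2 ((h.mem_oc hzo).1 a.2.2).1)).1
        show IsConj z (Element.pPart 2 ((a.1.1 : G) * a.2))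
        rw [← this]
        exact h.all_conj z _ hzo hvo⟩
    have hF : Function.Bijective F := by
      refine ⟨fun a b hab => ?_, fun x => ?_⟩
      · have e : (a.1.1 : G) * a.2 = (b.1.1 : G) * b.2 :=
          congrArg (fun y : {x : H // IsConj z (Element.pPart 2 (x : G))} => ((y.1 : H) : G)) hab
        have := Subgroup.mul_injective_of_disjoint (H₁ := V) (H₂ := oc z) (disjoint_iff.2 (by
          rw [eq_bot_iff]
          rintro y ⟨hyV, hyO⟩
          rw [mem_bot, ← orderOf_eq_one_iff]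
          exact Nat.eq_one_of_dvd_coprimes ((h.mem_oc hzo).1 hyO).1.coprime_two_left
            (orderOf_dvd_of_pow_eq_one (by rw [pow_two]; exact hV.2 y hyV)) dvd_rfl))
          (a₁ := (a.1.1, a.2)) (a₂ := (b.1.1, b.2)) e
        refine Prod.ext (Subtype.ext ?_) ?_
        · exact (Prod.ext_iff.1 this).1
        · exact (Prod.ext_iff.1 this).2
      · obtain ⟨x, hx⟩ := x
        set a := Element.pPart 2 (x : G) with ha
        obtain ⟨c, hc⟩ := isConj_iff.1 hx
        have hao : orderOf a = 2 := by rw [← hc, ← MulAut.conj_apply, MulEquiv.orderOf_eq, hzo]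
        have haV : a ∈ V := D.inner a (zpowers_le.2 x.2 (Element.pPart_mem_zpowers 2 _))
          (by rw [← pow_two, ← hao, pow_orderOf_eq_one])
        have hle : oc z ≤ oc a := fun y hy => (h.mem_oc hao).2 ⟨((h.mem_oc hzo).1 hy).1,
          (mem_centralizer_iff.1 (D.oc_le hy) a haV).symm⟩
        have heq : oc z = oc a := eq_of_le_of_card_ge hle (h.card_oc_eq hao hzo).le
        have hb : Element.pComplPart 2 (x : G) ∈ oc z := by
          rw [heq]
          exact (h.mem_oc hao).2 ⟨Nat.coprime_two_right.1 (Element.coprime_orderOf_pComplPart Nat.prime_two _),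
            (Element.commute_pPart_pComplPart 2 (x : G)).symm.eq⟩
        exact ⟨(⟨⟨a, haV⟩, fun q => by
            have : a = 1 := congrArg Subtype.val q
            rw [this, orderOf_one] at hao; norm_num at hao⟩, ⟨_, hb⟩),
          Subtype.ext (Subtype.ext (Element.pPart_mul_pComplPart 2 (x : G)))⟩
    haveI := Fintype.ofFinite (oc z)
    have hlo : ∀ b : oc z, (lam ⟨(b : G), D.oc_H b.2⟩ : ℂ) =
        ((lam.comp (inclusion D.oc_H)) b : ℂ) := fun b => rfl
    have hsum0 : ∑ b : oc z, ((lam.comp (inclusion D.oc_H)) b : ℂ) = 0 :=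
      Char.monoidHom_sum_eq_zero fun q => hlu (DFunLike.congr_fun q ⟨uu, huO⟩)
    have hval : (∑ x : H, if IsConj z (Element.pPart 2 (x : G)) then 1 - (lam x : ℂ) else 0) = 3 * (o : ℂ) := by
      rw [← Finset.sum_filter, Finset.sum_subtype _ (p := fun x : H => IsConj z (Element.pPart 2 (x : G)))
        (by simp), ← Equiv.sum_comp (Equiv.ofBijective F hF), Fintype.sum_prod_type]
      have he : ∀ (a : {v : V // v ≠ 1}) (b : oc z), (1 - (lam ((Equiv.ofBijective F hF) (a, b)).1 : ℂ))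
          = 1 - ((lam.comp (inclusion D.oc_H)) b : ℂ) := by
        intro a b
        simp only [Equiv.ofBijective_apply, F]
        rw [show (⟨(a.1 : G) * b, mul_mem (D.V_H a.1.2) (D.oc_H b.2)⟩ : H)
            = ⟨(a.1 : G), D.V_H a.1.2⟩ * ⟨(b : G), D.oc_H b.2⟩ from rfl, map_mul,
          hlam2 ⟨(a.1 : G), D.V_H a.1.2⟩ (hV.2 _ a.1.2), one_mul]
        rfl
      simp only [he, Finset.sum_sub_distrib, hsum0, sub_zero, Finset.sum_const, Finset.card_univ,
        nsmul_eq_mul, mul_one]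
      have hc3 : Fintype.card {v : V // v ≠ 1} = 3 := by
        rw [Fintype.card_subtype_compl, Fintype.card_subtype_eq, ← Nat.card_eq_fintype_card, hV.1]
      rw [hc3, ho, Nat.card_eq_fintype_card]
      norm_num
    rw [hval]
    field_simp
    norm_num
  -- pairs of involutions
  let IT := {j : G // j ∈ Mg ∧ j ∉ H ∧ j * j = 1}
  have hmulH : ∀ a b : IT, (a.1 * b.1 : G) ∈ H := by
    intro a b
    refine (D.hH _).2 ⟨mul_mem a.2.1 b.2.1, ?_⟩
    rw [show a.1 * b.1 * uu * (a.1 * b.1)⁻¹ = a.1 * (b.1 * uu * b.1⁻¹) * a.1⁻¹ by group,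
      hout b.1 b.2.1 b.2.2.1, ← conj_inv, hout a.1 a.2.1 a.2.2.1, inv_inv]
  have hconjI : ∀ a : IT, IsConj z a.1 := fun a =>
    h.all_conj z a.1 hzo (orderOf_eq_prime (by rw [pow_two]; exact a.2.2.2) fun q => a.2.2.1 (by rw [q]; exact H.one_mem))
  have hpairsum : ∑ x : H, (1 - (lam x : ℂ)) *
      (Nat.card {st : G × G // IsConj z st.1 ∧ IsConj z st.2 ∧ st.1 * st.2 = (x : G)} : ℂ)
      = (Nat.card IT : ℂ) ^ 2 := by
    let π : IT × IT → H := fun a => ⟨a.1.1 * a.2.1, hmulH a.1 a.2⟩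
    have hterm : ∀ x : H, (1 - (lam x : ℂ)) *
        (Nat.card {st : G × G // IsConj z st.1 ∧ IsConj z st.2 ∧ st.1 * st.2 = (x : G)} : ℂ)
        = ∑ a ∈ Finset.univ.filter (fun a => π a = x), (1 - (lam (π a) : ℂ)) := by
      intro x
      rw [Finset.sum_congr rfl (fun a ha => by rw [(Finset.mem_filter.1 ha).2] :
        ∀ a ∈ Finset.univ.filter (fun a => π a = x), (1 - (lam (π a) : ℂ)) = (1 - (lam x : ℂ))),
        Finset.sum_const, nsmul_eq_mul, mul_comm _ (1 - (lam x : ℂ))]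
      by_cases hx : lam x = 1
      · simp [hx]
      congr 2
      rw [← Fintype.card_subtype, ← Nat.card_eq_fintype_card]
      refine Nat.card_congr
        { toFun := fun st => ⟨(⟨st.1.1, ?_⟩, ⟨st.1.2, ?_⟩), Subtype.ext st.2.2.2⟩
          invFun := fun a => ⟨(a.1.1.1, a.1.2.1), hconjI a.1.1, hconjI a.1.2, congrArg Subtype.val a.2⟩
          left_inv := fun st => Subtype.ext (Prod.ext rfl rfl)
          right_inv := fun a => Subtype.ext (Prod.ext (Subtype.ext rfl) (Subtype.ext rfl)) }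
      all_goals
        obtain ⟨⟨a, b⟩, ha, hb, hab⟩ := st
        simp only at ha hb hab ⊢
        obtain ⟨c, hc⟩ := isConj_iff.1 ha
        obtain ⟨d, hd⟩ := isConj_iff.1 hb
        have haa : a * a = 1 := by rw [← hc, conj_mul, hzz]; group
        have hbb : b * b = 1 := by rw [← hd, conj_mul, hzz]; group
        obtain ⟨i, hi⟩ := hgen x hx
        simp only at hi
        have hax : a * (x : G) * a⁻¹ = (x : G)⁻¹ := by
          rw [← hab, inv_eq_of_mul_eq_one_right haa, ← mul_assoc a a b, haa, one_mul, mul_inv_rev,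
            inv_eq_of_mul_eq_one_right haa, inv_eq_of_mul_eq_one_right hbb]
        have hau : a * uu * a⁻¹ = uu⁻¹ := by rw [← hi, ← conj_zpow, hax, inv_zpow]
        have hneu : uu⁻¹ ≠ uu := fun q => huu2 (by nth_rewrite 1 [← q]; exact inv_mul_cancel uu)
        have haM : a ∈ Mg := by
          rw [hMg, ← TwoFusion.map_conj_eq_self_iff_mem_normalizer, MonoidHom.map_zpowers]
          simp only [MulEquiv.coe_toMonoidHom, MulAut.conj_apply, hau, zpowers_inv]
        have haH : a ∉ H := fun q => hneu (hau.symm.trans ((D.hH a).1 q).2)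
        first
          | exact ⟨haM, haH, haa⟩
          | (have hb' : b = a * (x : G) := by rw [← hab, ← mul_assoc, haa, one_mul]
             refine ⟨hb' ▸ mul_mem haM (hHM x.2), fun q => haH ?_, hbb⟩
             rw [show a = b * (x : G)⁻¹ by rw [hb', mul_inv_cancel_right]]
             exact mul_mem q (inv_mem x.2))
    rw [Finset.sum_congr rfl (fun x _ => hterm x), Finset.sum_fiberwise, Fintype.sum_prod_type]
    have hrow : ∀ a : IT, ∑ b : IT, (lam (π (a, b)) : ℂ) = 0 := by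
      intro a
      let σ : IT → IT := fun b => ⟨uu * b.1 * uu⁻¹, mul_mem (mul_mem (hHM huH) b.2.1) (inv_mem (hHM huH)),
        fun q => b.2.2.1 (by simpa [mul_assoc] using mul_mem (mul_mem (inv_mem huH) q) huH),
        by rw [conj_mul, b.2.2.2]; group⟩
      have hσ : Function.Bijective σ := Finite.injective_iff_bijective.1 fun b b' q => Subtype.ext
        (mul_left_cancel (mul_right_cancel (congrArg Subtype.val q)))
      set μ := (⟨uu, huH⟩ : H)⁻¹ ^ 2 with hμ
      have hlμ : (lam μ : ℂ) ≠ 1 := by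
        rw [hμ, map_pow, map_inv]
        intro q
        rw [Units.val_eq_one, inv_pow, inv_eq_one, ← orderOf_dvd_iff_pow_eq_one, hordu] at q
        exact hp2 ((Nat.prime_dvd_prime_iff_eq hp Nat.prime_two).1 q)
      have e1 : ∀ b, (lam (π (a, σ b)) : ℂ) = (lam (π (a, b)) : ℂ) * (lam μ : ℂ) := by
        intro b
        rw [← Units.val_mul, ← map_mul]
        refine congrArg (fun y => ((lam y : ℂˣ) : ℂ)) (Subtype.ext ?_)
        show a.1 * (uu * b.1 * uu⁻¹) = a.1 * b.1 * (uu⁻¹) ^ 2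
        have := hout b.1 b.2.1 b.2.2.1
        rw [inv_eq_of_mul_eq_one_right b.2.2.2] at this
        calc a.1 * (uu * b.1 * uu⁻¹) = a.1 * (b.1 * b.1) * uu * b.1 * uu⁻¹ := by rw [b.2.2.2]; group
          _ = a.1 * b.1 * (b.1 * uu * b.1) * uu⁻¹ := by group
          _ = a.1 * b.1 * (uu⁻¹) ^ 2 := by rw [this]; group
      have e2 := Equiv.sum_comp (Equiv.ofBijective σ hσ) fun b => (lam (π (a, b)) : ℂ)
      simp only [Equiv.ofBijective_apply, e1, ← Finset.sum_mul] at e2
      have e3 : (∑ b : IT, (lam (π (a, b)) : ℂ)) * ((lam μ : ℂ) - 1) = 0 := by rw [mul_sub, e2, mul_one, sub_self]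
      exact (mul_eq_zero.1 e3).resolve_right (sub_ne_zero.2 hlμ)
    simp only [Finset.sum_sub_distrib, hrow, sub_zero, Finset.sum_const, Finset.card_univ, nsmul_eq_mul,
      mul_one, ← Nat.card_eq_fintype_card]
    ring
  have hpairs : (∑ ψ : IrrCharacter G, coef H lam ψ * (ψ : G → ℂ) z ^ 2 / (ψ : G → ℂ) 1)
      * ((Nat.card G : ℂ) * (g : ℂ) ^ 2) = 192 * (o : ℂ) ^ 3 := by
    rw [sum_coef_pairs, hpairsum, hCz, hHc]
    have hIg : (Nat.card IT : ℂ) * (g : ℂ) = 6 * (o : ℂ) := by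
      have h0 : Nat.card IT * (4 * g) = 2 * (12 * o) := by rw [← hCw, hI, hM2, hH12]
      have : ((Nat.card IT * (4 * g) : ℕ) : ℂ) = ((2 * (12 * o) : ℕ) : ℂ) := congrArg _ h0
      push_cast at this
      linear_combination this / 4
    have hG0 : (Nat.card G : ℂ) ≠ 0 := Char.card_ne_zero_complex
    push_cast
    field_simp
    linear_combination (64 * ((Nat.card IT : ℂ) * (g : ℂ) + 6 * (o : ℂ))) * hIg
  exact h.eight_final (o := o) (g := g) Nat.card_pos hodd hgo hgne hn4 hV D.hz D.hz1 hv0 hv01 hv0z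
    D.hww D.hw1 D.hwz hwv0 hzT hvT hwT hT8 hTmem hCz hCV hCw hM lam hlam1 hzero hsq hphi hpairs

end CycHyp

end Cfsg.Agent.GW
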