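import Cfsg.Agent.GW.CycChar
import Cfsg.Agent.BlkChar.PModular
import Mathlib.Tactic.IntervalCases

/-!
# Four-group Sylow 2-subgroups: the centralizer of a four-group has no odd part
-/

set_option autoImplicit false
set_option linter.style.haveILetI false
set_option linter.unusedSectionVars false

open scoped ComplexConjugate
open Cfsg

namespace Cfsg.Agent.GW

open Cfsg.Agent.TwoGroups Cfsg.Agent.TwoFusion Subgroup DihBlock

universe u

/-- The final Diophantine contradiction. -/
theorem four_no_solution {a b : ℤ} (ha : 4 ∣ a - 1) (hb : 4 ∣ b - 1) (ha1 : a ≠ 1) (hb1 : b ≠ 1)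
    (h : a * b * (8 - (a + b)) = (a + b) * (a + b + 1)) : False := by
  obtain ⟨i, hi⟩ := ha
  obtain ⟨j, hj⟩ := hb
  set s := a + b with hs
  have hsd : 8 - s ∣ 72 := ⟨a * b + s + 9, by linear_combination (-1 : ℤ) * h⟩
  have hle : |8 - s| ≤ 72 := Int.le_of_dvd (by norm_num) ((abs_dvd _ _).2 hsd)
  rw [abs_le] at hle
  have hmod : s % 4 = 2 := by omega
  have h1 : -64 ≤ s := by omega
  have h2 : s ≤ 80 := by omega
  have key : (a - b) * (a - b) = s * s - 4 * (a * b) := by rw [hs]; ring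
  generalize hP : a * b = P at *
  generalize hk : a - b = k at *
  interval_cases hsv : s <;> first
    | (clear hsd; omega)
    | (revert hsd; decide)
    | (clear hsd
       norm_num at h key
       have hk1 : -31 < k := by nlinarith
       have hk2 : k < 31 := by nlinarith
       interval_cases k <;> omega)

/-- The centralizer is normal in the normalizer. -/
theorem normal_centralizer_subgroupOf {G : Type*} [Group G] (V : Subgroup G) :
    ((centralizer (V : Set G)).subgroupOf (normalizer (V : Set G))).Normal := by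
  refine ⟨fun a ha g => ?_⟩
  rw [mem_subgroupOf, mem_centralizer_iff] at ha ⊢
  intro v hv
  have hv' : (g : G)⁻¹ * v * g ∈ V := by
    simpa using (Subgroup.mem_normalizer_iff.1 (inv_mem g.2) v).1 hv
  simp only [coe_mul, InvMemClass.coe_inv]
  calc v * ((g : G) * a * (g : G)⁻¹) = g * ((g : G)⁻¹ * v * g * a) * (g : G)⁻¹ := by group
    _ = g * (a * ((g : G)⁻¹ * v * g)) * (g : G)⁻¹ := by rw [ha _ hv']
    _ = g * a * (g : G)⁻¹ * v := by group

namespace CycHyp

variable {G : Type u} [Group G] [Fintype G] {S : Sylow 2 G} {n : ℕ} (h : CycHyp S n)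
include h

theorem le_of_two_group (h4 : Nat.card (S : Subgroup G) = 4) {V R : Subgroup G} (hV : IsFour V)
    (hR : IsPGroup 2 R) (hVR : V ≤ R) : R = V := by
  haveI : Fact (Nat.Prime 2) := ⟨Nat.prime_two⟩
  obtain ⟨T, hT⟩ := hR.exists_le_sylow
  refine (eq_of_le_of_card_ge hVR ?_).symm
  rw [hV.1, ← h4, ← Nat.card_congr (Sylow.equiv T S).toEquiv]
  exact Nat.le_of_dvd Nat.card_pos (card_dvd_of_le hT)

/-- The local structure at a smallest odd prime centralising a four-group. -/
theorem four_local (h4 : Nat.card (S : Subgroup G) = 4) {V : Subgroup G} (hV : IsFour V) {p : ℕ}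
    (hp : p.Prime) (hp2 : p ≠ 2) {u : G} (hu : orderOf u = p) (huV : u ∈ centralizer (V : Set G))
    (hmin : ∀ (x : G) (q : ℕ), q.Prime → q ≠ 2 → orderOf x = q → x ∈ centralizer (V : Set G) → p ≤ q) :
    centralizer ({u} : Set G) ≤ centralizer (V : Set G) ∧ V ≤ centralizer ({u} : Set G) ∧
      normalizer (zpowers u : Set G) ≤ normalizer (V : Set G) ∧
      Nat.card (normalizer (zpowers u : Set G)) = 3 * Nat.card (centralizer ({u} : Set G)) := by
  haveI : Fact (Nat.Prime 2) := ⟨Nat.prime_two⟩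
  haveI : Fact p.Prime := ⟨hp⟩
  set C := centralizer ({u} : Set G) with hC
  set N := normalizer (zpowers u : Set G) with hN
  have hVC : V ≤ C := fun v hv => mem_centralizer_singleton_iff.2 (mem_centralizer_iff.1 huV v hv)
  have hCN : C ≤ N := by
    intro c hc
    rw [hN, Subgroup.mem_normalizer_iff]
    intro x
    have hcu : Commute c u := mem_centralizer_singleton_iff.1 hc
    constructor
    · rintro ⟨i, rfl⟩
      exact ⟨i, by simp [(hcu.zpow_right i).eq]⟩
    · rintro ⟨i, hi⟩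
      refine ⟨i, ?_⟩
      have := (hcu.zpow_right i).eq
      calc u ^ i = c⁻¹ * (c * u ^ i) := by group
        _ = c⁻¹ * (u ^ i * c) := by rw [this]
        _ = x := by simp only at hi; rw [hi]; group
  -- elements of `C(V)` normalising `⟨u⟩` centralise it
  have hcen : ∀ g ∈ centralizer (V : Set G), g ∈ N → g ∈ C := by
    intro g hg hgN
    obtain ⟨t, htV, ht1⟩ : ∃ t ∈ V, t ≠ 1 := by
      by_contra hc; push Not at hc
      have : V = ⊥ := eq_bot_iff.2 fun v hv => mem_bot.2 (hc v hv)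
      have := hV.1
      rw [‹V = ⊥›, Subgroup.card_bot] at this; omega
    obtain ⟨a, ha, b, hb, rfl⟩ := h.centralizer_four hV htV hg
    have hbN : b ∈ N := by
      have := mul_mem (inv_mem (hCN (hVC ha))) hgN
      simpa [← mul_assoc] using this
    refine mul_mem (hVC ha) (mem_centralizer_singleton_iff.2 ?_)
    obtain ⟨e, he⟩ : b * u * b⁻¹ ∈ zpowers u := (Subgroup.mem_normalizer_iff.1 hbN u).1 (mem_zpowers u)
    simp only at he
    by_contra hne
    -- `b` induces an automorphism of prime-to-`p` order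
    have hpow : ∀ k : ℕ, b ^ k * u * (b ^ k)⁻¹ = u ^ e ^ k := by
      intro k
      induction k with
      | zero => simp
      | succ k ih =>
        rw [pow_succ' b, show b * b ^ k * u * (b * b ^ k)⁻¹ = b * (b ^ k * u * (b ^ k)⁻¹) * b⁻¹ by group,
          ih, ← conj_zpow, ← he, ← zpow_mul, pow_succ']
    have hodd : Odd (orderOf b) := ((h.mem_oc (orderOf_eq_prime (by rw [pow_two]; exact hV.2 t htV) ht1)).1 hb.1).1
    have hcastp : ((p : ℕ) : ZMod p) = 0 := ZMod.natCast_self p
    have h1 : ((e : ZMod p)) ^ orderOf b = 1 := by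
      have := hpow (orderOf b)
      rw [pow_orderOf_eq_one, one_mul, inv_one, mul_one] at this
      have h2 : u ^ (e ^ orderOf b - 1) = 1 := by rw [zpow_sub, ← this, zpow_one, mul_inv_cancel]
      rw [← orderOf_dvd_iff_zpow_eq_one, hu, ← ZMod.intCast_zmod_eq_zero_iff_dvd, Int.cast_sub,
        Int.cast_pow, Int.cast_one, sub_eq_zero] at h2
      exact h2
    have he0 : (e : ZMod p) ≠ 0 := fun e0 => by
      rw [e0, zero_pow (Nat.pos_iff_ne_zero.1 hodd.pos)] at h1
      exact zero_ne_one h1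
    have h3 : orderOf (e : ZMod p) ∣ p - 1 := orderOf_dvd_of_pow_eq_one (ZMod.pow_card_sub_one_eq_one he0)
    have h4' : orderOf (e : ZMod p) ∣ orderOf b := orderOf_dvd_of_pow_eq_one h1
    have h5 : orderOf (e : ZMod p) = 1 := by
      by_contra hne1
      obtain ⟨q, hq, hqd⟩ := Nat.exists_prime_and_dvd hne1
      have hq2 : q ≠ 2 := by
        rintro rfl
        exact hodd.not_two_dvd_nat (hqd.trans h4')
      have hx : orderOf (b ^ (orderOf b / q)) = q := by
        rw [orderOf_pow_orderOf_div (orderOf_pos b).ne' (hqd.trans h4')]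
      have := hmin _ q hq hq2 hx (pow_mem hb.2 _)
      have := Nat.le_of_dvd (by have := hp.two_le; omega) (hqd.trans h3)
      have := hp.two_le
      omega
    rw [orderOf_eq_one_iff, ← Int.cast_one, ZMod.intCast_eq_intCast_iff_dvd_sub] at h5
    have h6 : u ^ e = u := by
      have : u ^ (1 - e) = 1 := by rw [← orderOf_dvd_iff_zpow_eq_one, hu]; exact h5
      rw [zpow_sub, zpow_one, mul_inv_eq_one] at this
      exact this.symm
    rw [h6] at he
    refine hne ?_
    conv_rhs => rw [he]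
    group
  -- Frattini
  obtain ⟨g0, hg0N, hg0⟩ := h.exists_normalizer_not_centralizer hp hp2 hu
  obtain ⟨P, hP⟩ := ((isPGroup_four hV).comap_subtype (K := C)).exists_le_sylow
  have hPV : (P : Subgroup C).map C.subtype = V :=
    h.le_of_two_group h4 hV (P.isPGroup'.map _) fun v hv => ⟨⟨v, hVC hv⟩, hP hv, rfl⟩
  have frattini : ∀ g ∈ N, ∃ c ∈ C, c * g ∈ normalizer (V : Set G) := by
    intro g hg
    have hconj : ∀ c ∈ C, g * c * g⁻¹ ∈ C := by
      intro c hc
      obtain ⟨i, hi⟩ := (Subgroup.mem_normalizer_iff.1 (inv_mem hg) u).1 (mem_zpowers u)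
      simp only at hi
      have hcu : Commute c u := mem_centralizer_singleton_iff.1 hc
      rw [mem_centralizer_singleton_iff]
      calc g * c * g⁻¹ * u = g * (c * (g⁻¹ * u * g⁻¹⁻¹)) * g⁻¹ := by group
        _ = g * (g⁻¹ * u * g⁻¹⁻¹ * c) * g⁻¹ := by rw [← hi, (hcu.zpow_right i).eq]
        _ = u * (g * c * g⁻¹) := by group
    let W := (V.map (MulAut.conj g).toMonoidHom).subgroupOf C
    have hW : IsPGroup 2 W := ((isPGroup_four hV).map _).comap_subtype
    obtain ⟨Q, hQ⟩ := hW.exists_le_sylow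
    obtain ⟨c, hc⟩ := MulAction.exists_smul_eq C Q P
    refine ⟨c, c.2, ?_⟩
    have hsub : V.map (MulAut.conj ((c : G) * g)).toMonoidHom ≤ V := by
      rintro _ ⟨v, hv, rfl⟩
      have hvC : g * v * g⁻¹ ∈ C := hconj v (hVC hv)
      have hvQ : (⟨_, hvC⟩ : C) ∈ (Q : Subgroup C) := hQ ⟨v, hv, rfl⟩
      have : c * ⟨_, hvC⟩ * c⁻¹ ∈ (P : Subgroup C) := by
        rw [← hc, Sylow.coe_subgroup_smul]
        exact smul_mem_pointwise_smul _ (MulAut.conj c) _ hvQ
      rw [← hPV]
      exact ⟨_, this, by simp [MulAut.conj_apply, mul_assoc]⟩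
    rw [← TwoFusion.map_conj_eq_self_iff_mem_normalizer]
    exact eq_of_le_of_card_ge hsub (by rw [card_map_of_injective (MulAut.conj _).injective])
  obtain ⟨c0, hc0, hxV⟩ := frattini g0 hg0N
  set x := c0 * g0 with hx
  have hxN : x ∈ N := mul_mem (hCN hc0) hg0N
  have hxC : x ∉ C := fun hxC => hg0 (by
    have := mul_mem (inv_mem hc0) hxC
    rw [hx, inv_mul_cancel_left] at this
    exact mem_centralizer_singleton_iff.1 this)
  have hxcV : x ∉ centralizer (V : Set G) := fun hc => hxC (hcen x hc hxN)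
  -- every element of `N(V)` is a power of `x` modulo `C(V)`
  obtain ⟨r, hr, hr3, hrf, hrc⟩ := h.three_cycle hV
  have h3 : (centralizer (V : Set G)).relIndex (normalizer (V : Set G)) = 3 := by
    rcases h.relIndex_cases hV with e | ⟨-, e⟩
    · exact e
    · omega
  have hcoset : ∀ g ∈ normalizer (V : Set G), g ∈ centralizer (V : Set G) ∨
      x⁻¹ * g ∈ centralizer (V : Set G) ∨ (x * x)⁻¹ * g ∈ centralizer (V : Set G) := by
    intro g hg
    haveI : ((centralizer (V : Set G)).subgroupOf (normalizer (V : Set G))).Normal :=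
      normal_centralizer_subgroupOf V
    set Q := normalizer (V : Set G) ⧸ (centralizer (V : Set G)).subgroupOf (normalizer (V : Set G))
    haveI : Fact (Nat.Prime 3) := ⟨Nat.prime_three⟩
    have hQ : Nat.card Q = 3 := by rw [← index_eq_card]; exact h3
    have hx1 : ((⟨x, hxV⟩ : normalizer (V : Set G)) : Q) ≠ 1 := fun e => hxcV
      (mem_subgroupOf.1 ((QuotientGroup.eq_one_iff _).1 e))
    obtain ⟨k, hk, hkg⟩ : ∃ k < 3, ((⟨x, hxV⟩ : normalizer (V : Set G)) : Q) ^ k = (⟨g, hg⟩ : normalizer (V : Set G)) := by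
      have ho := orderOf_eq_prime (p := 3) (by rw [← hQ]; exact pow_card_eq_one') hx1
      have htop := zpowers_eq_top_of_prime_card hQ hx1
      obtain ⟨k, hk⟩ := (mem_powers_iff_mem_zpowers).2 (htop ▸ mem_top ((⟨g, hg⟩ : normalizer (V : Set G)) : Q))
      exact ⟨k % 3, Nat.mod_lt _ (by norm_num), by rw [← ho, pow_mod_orderOf]; exact hk⟩
    rw [← QuotientGroup.mk_pow, QuotientGroup.eq, mem_subgroupOf] at hkg
    interval_cases k
    · left; simpa using hkg
    · right; left; simpa using hkg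
    · right; right; simpa [pow_two] using hkg
  have hx3 : x ^ 3 ∈ C := hcen _ (by
    haveI : ((centralizer (V : Set G)).subgroupOf (normalizer (V : Set G))).Normal :=
      normal_centralizer_subgroupOf V
    have h33 := pow_index_mem ((centralizer (V : Set G)).subgroupOf (normalizer (V : Set G))) (⟨x, hxV⟩ : normalizer (V : Set G))
    rw [show ((centralizer (V : Set G)).subgroupOf (normalizer (V : Set G))).index = 3 from h3] at h33
    simpa [mem_subgroupOf] using h33) (pow_mem hxN 3)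
  have hnC : ∀ g ∈ C, g ∈ normalizer (V : Set G) → g ∈ centralizer (V : Set G) := by
    intro g hg hgV
    rcases hcoset g hgV with c | c | c
    · exact c
    · exfalso
      have hm := hcen _ c (mul_mem (inv_mem hxN) (hCN hg))
      exact hxC (by simpa using mul_mem hg (inv_mem hm))
    · exfalso
      have hm := hcen _ c (mul_mem (inv_mem (mul_mem hxN hxN)) (hCN hg))
      have hxx : x * x ∈ C := by simpa using mul_mem hg (inv_mem hm)
      have := mul_mem (inv_mem hxx) hx3
      rw [show (x * x)⁻¹ * x ^ 3 = x by simp [pow_succ, mul_assoc]] at this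
      exact hxC this
  -- the odd elements of `C` form a subgroup, centralised by `V`
  have hnpc : HasNormalPComplement 2 C := by
    refine Transfer.hasNormalPComplement_of_normalizer_le_centralizer P fun c hc => ?_
    rw [mem_centralizer_iff]
    intro a ha
    have hcV : (c : G) ∈ normalizer (V : Set G) := by
      rw [← TwoFusion.map_conj_eq_self_iff_mem_normalizer]
      refine eq_of_le_of_card_ge ?_ (by rw [card_map_of_injective (MulAut.conj _).injective])
      rintro _ ⟨v, hv, rfl⟩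
      obtain ⟨w, hw, rfl⟩ := hPV.ge hv
      exact hPV.le ⟨c * w * c⁻¹, (Subgroup.mem_normalizer_iff.1 hc w).1 hw, by simp⟩
    exact Subtype.ext (mem_centralizer_iff.1 (hnC c c.2 hcV) a (hPV.le ⟨a, ha, rfl⟩))
  obtain ⟨K, hKn, hKo, hcomp, -, hKmem⟩ := DihBlock.exists_split hnpc P
  set W := K.map C.subtype with hWdef
  have hWodd : Odd (Nat.card W) := by
    rw [hWdef, card_map_of_injective C.subtype_injective]
    exact Nat.not_even_iff_odd.1 fun e => hKo (even_iff_two_dvd.1 e)
  have hmemW : ∀ g, g ∈ W ↔ g ∈ C ∧ Odd (orderOf g) := by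
    intro g
    constructor
    · rintro ⟨k, hk, rfl⟩
      have hkW : C.subtype k ∈ W := ⟨k, hk, rfl⟩
      exact ⟨k.2, hWodd.of_dvd_nat (Subgroup.orderOf_mk _ hkW ▸ _root_.orderOf_dvd_natCard (⟨_, hkW⟩ : W))⟩
    · rintro ⟨hgC, ho⟩
      exact ⟨⟨g, hgC⟩, hKmem _ (by rw [orderOf_mk]; exact ho.not_two_dvd_nat), rfl⟩
  have hNnW : ∀ g ∈ N, g ∈ normalizer (W : Set G) := by
    have key : ∀ g ∈ N, ∀ w ∈ W, g * w * g⁻¹ ∈ W := by
      intro g hg w hw
      obtain ⟨hwC, hwo⟩ := (hmemW w).1 hw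
      refine (hmemW _).2 ⟨?_, odd_orderOf_conj hwo⟩
      obtain ⟨i, hi⟩ := (Subgroup.mem_normalizer_iff.1 (inv_mem hg) u).1 (mem_zpowers u)
      simp only at hi
      have hcu : Commute w u := mem_centralizer_singleton_iff.1 hwC
      rw [mem_centralizer_singleton_iff]
      calc g * w * g⁻¹ * u = g * (w * (g⁻¹ * u * g⁻¹⁻¹)) * g⁻¹ := by group
        _ = g * (g⁻¹ * u * g⁻¹⁻¹ * w) * g⁻¹ := by rw [← hi, (hcu.zpow_right i).eq]
        _ = u * (g * w * g⁻¹) := by group
    intro g hg
    rw [Subgroup.mem_normalizer_iff]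
    intro w
    refine ⟨key g hg w, fun hw => ?_⟩
    have := key g⁻¹ (inv_mem hg) _ hw
    simpa [mul_assoc] using this
  have hVW : ∀ v ∈ V, ∀ y ∈ W, v * y = y * v := by
    intro v hv
    have hvW : v ∈ normalizer (W : Set G) := hNnW v (hCN (hVC hv))
    refine h.centralizes_of_all_fixed hWodd (hV.2 v hv) hvW fun q hq hqW => ?_
    -- some involution of `V` fixes an element of order `q`
    have hq2 : q ≠ 2 := by
      rintro rfl
      exact hWodd.not_two_dvd_nat hqW
    have hsome : ∃ v0 ∈ V, v0 ≠ 1 ∧ ∃ y ∈ W, orderOf y = q ∧ v0 * y = y * v0 := by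
      by_contra hno
      push Not at hno
      haveI : Fintype V := Fintype.ofFinite V
      obtain ⟨⟨a, ha⟩, ha1⟩ := Fintype.exists_ne_of_one_lt_card (α := V)
        (by rw [← Nat.card_eq_fintype_card, hV.1]; norm_num) 1
      have ha1' : a ≠ 1 := fun e => ha1 (Subtype.ext e)
      obtain ⟨b, hb, hb1, hab⟩ : ∃ b ∈ V, b ≠ 1 ∧ b ≠ a := by
        refine ⟨r * a * r⁻¹, (Subgroup.mem_normalizer_iff.1 hr a).1 ha, fun e => ha1' ?_, hrf a ha ha1'⟩
        rw [show a = r⁻¹ * (r * a * r⁻¹) * r by group, e]; group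
      have inv : ∀ w ∈ V, w ≠ 1 → ∃ y ∈ W, orderOf y = q ∧ w * y * w = y⁻¹ := fun w hw hw1 => by
        rcases h.fixed_or_inverted hWodd (hV.2 w hw) (hNnW w (hCN (hVC hw))) hq hqW with ⟨y, hy, hyo, hyw⟩ | e
        · exact absurd hyw (hno w hw hw1 y hy hyo)
        · exact e
      obtain ⟨y1, hy1, hy1o, hy1a⟩ := inv a ha ha1'
      obtain ⟨y2, hy2, hy2o, hy2b⟩ := inv b hb hb1
      obtain ⟨i, rfl⟩ := (h.inverted_unique hWodd (hV.2 a ha) (hNnW a (hCN (hVC ha))) hq hq2 hy1 hy1o hy1a).2 y2 hy2 hy2o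
      simp only at hy2b hy2o
      have hya : a * y1 ^ i * a = (y1 ^ i)⁻¹ := by
        rw [show a * y1 ^ i * a = a * y1 ^ i * a⁻¹ by rw [inv_eq_of_mul_eq_one_right (hV.2 a ha)],
          ← conj_zpow, inv_eq_of_mul_eq_one_right (hV.2 a ha), hy1a, inv_zpow]
      refine hno (a * b) (mul_mem ha hb) (fun e => hab ?_) _ hy2 hy2o ?_
      · rw [eq_comm, eq_inv_of_mul_eq_one_left e, inv_eq_of_mul_eq_one_right (hV.2 b hb)]
      · have hfix : a * b * y1 ^ i * (a * b) = y1 ^ i := by
          calc a * b * y1 ^ i * (a * b) = a * (b * y1 ^ i * b) * (b⁻¹ * a * b) := by group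
            _ = a * (y1 ^ i)⁻¹ * (b⁻¹ * a * b) := by rw [hy2b]
            _ = a * (y1 ^ i)⁻¹ * a := by
              rw [mul_assoc (b⁻¹) a b, hV.comm ha hb, inv_mul_cancel_left]
            _ = (a * y1 ^ i * a)⁻¹ := by
              rw [mul_inv_rev, mul_inv_rev, inv_eq_of_mul_eq_one_right (hV.2 a ha), mul_assoc]
            _ = y1 ^ i := by rw [hya, inv_inv]
        calc a * b * y1 ^ i = a * b * y1 ^ i * (a * b * (a * b)) := by
              rw [hV.2 _ (mul_mem ha hb), mul_one]
          _ = y1 ^ i * (a * b) := by rw [← mul_assoc, hfix]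
    obtain ⟨v0, hv0, hv01, y, hy, hyo, hcomm⟩ := hsome
    by_cases hv1 : v = 1
    · exact ⟨y, hy, hyo, by simp [hv1]⟩
    obtain ⟨k, hk⟩ : ∃ k : ℕ, x ^ k * v0 * (x ^ k)⁻¹ = v := by
      have hxact : ∀ g ∈ normalizer (V : Set G), ∃ k : ℕ, x ^ k * v0 * (x ^ k)⁻¹ = g * v0 * g⁻¹ := by
        intro g hg
        have hact : ∀ z, z⁻¹ * g ∈ centralizer (V : Set G) → z * v0 * z⁻¹ = g * v0 * g⁻¹ := fun z hz => by
          have := mem_centralizer_iff.1 hz v0 hv0
          calc z * v0 * z⁻¹ = z * (v0 * (z⁻¹ * g)) * g⁻¹ := by group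
            _ = z * (z⁻¹ * g * v0) * g⁻¹ := by rw [this]
            _ = g * v0 * g⁻¹ := by group
        rcases hcoset g hg with c | c | c
        · exact ⟨0, by simpa using hact 1 (by simpa using c)⟩
        · exact ⟨1, by simpa using hact x c⟩
        · exact ⟨2, by rw [pow_two]; exact hact _ c⟩
      rcases hrc v0 hv0 hv01 v hv hv1 with e | e | e
      · exact ⟨0, by simp [e]⟩
      · exact e ▸ hxact r hr
      · obtain ⟨k, hk⟩ := hxact (r * r) (mul_mem hr hr)
        exact ⟨k, hk.trans (by rw [e]; group)⟩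
    refine ⟨x ^ k * y * (x ^ k)⁻¹, (Subgroup.mem_normalizer_iff.1 (hNnW _ (pow_mem hxN k)) y).1 hy, ?_, ?_⟩
    · rw [← MulAut.conj_apply, MulEquiv.orderOf_eq, hyo]
    · rw [← hk, show x ^ k * v0 * (x ^ k)⁻¹ * (x ^ k * y * (x ^ k)⁻¹) = x ^ k * (v0 * y) * (x ^ k)⁻¹ by group,
        hcomm]
      group
  have hCV : C ≤ centralizer (V : Set G) := by
    intro c hc
    obtain ⟨⟨a, w⟩, hd⟩ := hcomp.2 (⟨c, hc⟩ : C)
    have hd' : ((a : C) : G) * ((w : C) : G) = c := congrArg Subtype.val hd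
    rw [← hd']
    refine mul_mem (hV.le_centralizer (hPV.le ⟨_, a.2, rfl⟩)) ?_
    rw [mem_centralizer_iff]
    exact fun v hv => hVW v hv _ ⟨_, w.2, rfl⟩
  have hNV : N ≤ normalizer (V : Set G) := by
    intro g hg
    obtain ⟨c, hc, hcg⟩ := frattini g hg
    have h1 : c⁻¹ ∈ normalizer (V : Set G) :=
      inv_mem (Subgroup.centralizer_le_normalizer _ (hCV hc))
    simpa using mul_mem h1 hcg
  refine ⟨hCV, hVC, hNV, ?_⟩
  have hxne : ∀ k : Fin 3, x ^ (k : ℕ) ∈ C → k = 0 := by
    intro k hk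
    fin_cases k
    · rfl
    · exact absurd (by simpa using hk) hxC
    · exfalso
      have := mul_mem (inv_mem hk) hx3
      rw [show (x ^ 2)⁻¹ * x ^ 3 = x by group] at this
      exact hxC this
  let f : Fin 3 × C → N := fun a => ⟨x ^ (a.1 : ℕ) * a.2, mul_mem (pow_mem hxN _) (hCN a.2.2)⟩
  have hf : Function.Bijective f := by
    refine ⟨fun a b hab => ?_, fun g => ?_⟩
    · obtain ⟨i, c⟩ := a
      obtain ⟨j, d⟩ := b
      have e : x ^ (i : ℕ) * c = x ^ (j : ℕ) * d := congrArg Subtype.val hab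
      have hij : i = j := by
        rcases le_total (j : ℕ) i with hle | hle
        · have h2 : x ^ ((i : ℕ) - j) ∈ C := by
            have : x ^ ((i : ℕ) - j) = (d : G) * (c : G)⁻¹ := by
              rw [eq_mul_inv_iff_mul_eq, ← mul_right_inj (x ^ (j : ℕ)), ← mul_assoc, ← pow_add,
                Nat.add_sub_cancel' hle, e]
            rw [this]; exact mul_mem d.2 (inv_mem c.2)
          have := congrArg Fin.val (hxne ⟨(i : ℕ) - j, by omega⟩ h2)
          simp only [Fin.val_zero] at this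
          exact Fin.ext (by omega)
        · have h2 : x ^ ((j : ℕ) - i) ∈ C := by
            have : x ^ ((j : ℕ) - i) = (c : G) * (d : G)⁻¹ := by
              rw [eq_mul_inv_iff_mul_eq, ← mul_right_inj (x ^ (i : ℕ)), ← mul_assoc, ← pow_add,
                Nat.add_sub_cancel' hle, e]
            rw [this]; exact mul_mem c.2 (inv_mem d.2)
          have := congrArg Fin.val (hxne ⟨(j : ℕ) - i, by omega⟩ h2)
          simp only [Fin.val_zero] at this
          exact Fin.ext (by omega)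
      subst hij
      exact Prod.ext rfl (Subtype.ext (mul_left_cancel e))
    · rcases hcoset g (hNV g.2) with c | c | c
      · exact ⟨(0, ⟨g, hcen g c g.2⟩), Subtype.ext (by simp [f])⟩
      · exact ⟨(1, ⟨_, hcen _ c (mul_mem (inv_mem hxN) g.2)⟩), Subtype.ext (by simp [f])⟩
      · exact ⟨(2, ⟨_, hcen _ c (mul_mem (inv_mem (mul_mem hxN hxN)) g.2)⟩),
          Subtype.ext (by simp [f, pow_two, mul_assoc])⟩
  rw [← Nat.card_congr (Equiv.ofBijective f hf), Nat.card_prod, Nat.card_fin]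

/-- The Diophantine contradiction from the moments of the coefficient vector. -/
theorem four_final (h4 : Nat.card (S : Subgroup G) = 4) {V : Subgroup G} (hV : IsFour V) {t : G}
    (ht : orderOf t = 2) {M : Ideal AlgInt} (hM : IsPModular 2 M) {H : Subgroup G} [Fintype H]
    (lam : H →* ℂˣ) (hlam : lam ≠ 1)
    (hzero : ∀ g : G, orderOf g = 1 ∨ orderOf g = 2 →
      ∑ ψ : IrrCharacter G, coef H lam ψ * (ψ : G → ℂ) g = 0)
    (hsq : ∑ ψ : IrrCharacter G, coef H lam ψ * coef H lam ψ = 4)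
    (hpairs : ∑ ψ : IrrCharacter G, coef H lam ψ * (ψ : G → ℂ) t ^ 2 / (ψ : G → ℂ) 1 = 0)
    (hphi : ∑ ψ ∈ pb M G, coef H lam ψ * (ψ : G → ℂ) t = 3) : False := by
  classical
  choose c hc using coef_int H lam
  choose z hz using fun ψ : IrrCharacter G => irr_value_int ψ ht
  set T := Char.trivialIrr G with hT
  set d : IrrCharacter G → ℤ := fun ψ => (charDegree (ψ : G → ℂ) : ℤ) with hd
  have hdeg : ∀ ψ : IrrCharacter G, (ψ : G → ℂ) 1 = (d ψ : ℂ) := fun ψ => by
    rw [hd, Int.cast_natCast]; exact (Char.irr_charDegree_spec ψ.2).2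
  have hdpos : ∀ ψ : IrrCharacter G, 0 < d ψ := fun ψ => by
    simp only [hd]; exact_mod_cast (Char.irr_charDegree_spec ψ.2).1
  have hTT : c T = 1 ∧ z T = 1 ∧ d T = 1 := by
    refine ⟨?_, ?_, ?_⟩
    · have := hc T; rw [coef_trivial H lam hlam] at this; exact_mod_cast this.symm
    · have := hz T; rw [show (T : G → ℂ) t = 1 from rfl] at this; exact_mod_cast this.symm
    · have := hdeg T; rw [show (T : G → ℂ) 1 = 1 from rfl] at this; exact_mod_cast this.symm
  have e4 : ∑ ψ, c ψ * c ψ = 4 := by simp only [hc] at hsq; exact_mod_cast hsq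
  have ez : ∑ ψ, c ψ * z ψ = 0 := by
    have := hzero t (Or.inr ht); simp only [hc, hz] at this; exact_mod_cast this
  have ed : ∑ ψ, c ψ * d ψ = 0 := by
    have := hzero 1 (Or.inl orderOf_one); simp only [hc, hdeg] at this; exact_mod_cast this
  have ep : ∑ ψ ∈ pb M G, c ψ * z ψ = 3 := by
    simp only [hc, hz] at hphi; exact_mod_cast hphi
  have e2 : ∑ ψ ∈ pb M G, z ψ ^ 2 = 4 := by
    have := h.column_sq hM ht; simp only [hz, h4] at this; exact_mod_cast this
  have hTpb : T ∈ pb M G := trivial_mem_pb hM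
  rw [← Finset.sum_erase_add _ _ hTpb, hTT.1, hTT.2.1] at ep
  rw [← Finset.sum_erase_add _ _ hTpb, hTT.2.1] at e2
  set A := (pb M G).erase T with hA
  -- three further characters with values of absolute value one
  set B := A.filter (fun ψ => ¬ z ψ = 0) with hB
  have eB2 : ∑ ψ ∈ B, z ψ ^ 2 = 3 := by
    have := Finset.sum_filter_add_sum_filter_not A (fun ψ => z ψ = 0) (fun ψ => z ψ ^ 2)
    rw [Finset.sum_eq_zero (s := A.filter _) (fun x hx => by rw [(Finset.mem_filter.1 hx).2]; norm_num)] at this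
    rw [hB]; omega
  have eBc : ∑ ψ ∈ B, c ψ * z ψ = 2 := by
    have := Finset.sum_filter_add_sum_filter_not A (fun ψ => z ψ = 0) (fun ψ => c ψ * z ψ)
    rw [Finset.sum_eq_zero (s := A.filter _) (fun x hx => by rw [(Finset.mem_filter.1 hx).2, mul_zero])] at this
    rw [hB]; omega
  have hz1 : ∀ ψ ∈ B, z ψ = 1 ∨ z ψ = -1 := by
    intro ψ hψ
    have h1 : z ψ ^ 2 ≤ 3 := eB2 ▸ Finset.single_le_sum (fun x _ => sq_nonneg (z x)) hψ
    have h2 : z ψ ≠ 0 := (Finset.mem_filter.1 hψ).2
    have h3 : -2 < z ψ := by nlinarith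
    have h4 : z ψ < 2 := by nlinarith
    omega
  have hBcard : B.card = 3 := by
    rw [Finset.sum_congr rfl (g := fun _ => (1 : ℤ)) (fun ψ hψ => by
      rcases hz1 ψ hψ with e | e <;> rw [e] <;> norm_num)] at eB2
    simp only [Finset.sum_const, nsmul_eq_mul, mul_one] at eB2
    exact_mod_cast eB2
  have hTB : T ∉ B := fun hm => (Finset.mem_erase.1 (Finset.mem_filter.1 hm).1).1 rfl
  have hcB : ∑ ψ ∈ B, c ψ * c ψ ≤ 3 := by
    have := Finset.sum_le_sum_of_subset_of_nonneg (Finset.subset_univ (insert T B))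
      (f := fun ψ => c ψ * c ψ) (fun x _ _ => mul_self_nonneg _)
    rw [Finset.sum_insert hTB, e4, hTT.1] at this
    omega
  obtain ⟨a, b, e, hab, hae, hbe, hBe⟩ := Finset.card_eq_three.1 hBcard
  have hm : a ∈ B ∧ b ∈ B ∧ e ∈ B := by simp [hBe]
  rw [hBe, Finset.sum_insert (by simp [hab, hae]), Finset.sum_pair hbe] at eBc hcB
  have habs : ∀ ψ ∈ B, c ψ * z ψ ≤ 1 ∧ (c ψ * z ψ = 1 → c ψ = z ψ) ∧
      (c ψ * z ψ = 0 → c ψ = 0) := by
    intro ψ hψ
    have h1 : c ψ * c ψ ≤ 3 := by
      have := mul_self_nonneg (c a); have := mul_self_nonneg (c b); have := mul_self_nonneg (c e)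
      rw [hBe] at hψ
      simp only [Finset.mem_insert, Finset.mem_singleton] at hψ
      rcases hψ with rfl | rfl | rfl <;> omega
    have h3 : -2 < c ψ := by nlinarith
    have h4 : c ψ < 2 := by nlinarith
    rcases hz1 ψ hψ with e | e <;> rw [e] <;> omega
  obtain ⟨a, b, hab, ha, hb, hac, hbc⟩ : ∃ a b, a ≠ b ∧ a ∈ B ∧ b ∈ B ∧ c a = z a ∧ c b = z b := by
    obtain ⟨a1, a2, a3⟩ := habs a hm.1
    obtain ⟨b1, b2, b3⟩ := habs b hm.2.1
    obtain ⟨c1, c2, c3⟩ := habs e hm.2.2
    by_cases ha : c a * z a = 1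
    · by_cases hb : c b * z b = 1
      · exact ⟨a, b, hab, hm.1, hm.2.1, a2 ha, b2 hb⟩
      · exact ⟨a, e, hae, hm.1, hm.2.2, a2 ha, c2 (by omega)⟩
    · exact ⟨b, e, hbe, hm.2.1, hm.2.2, b2 (by omega), c2 (by omega)⟩
  have haT : a ≠ T := fun e' => hTB (e' ▸ ha)
  have hbT : b ≠ T := fun e' => hTB (e' ▸ hb)
  have hsq1 : ∀ ψ ∈ B, z ψ * z ψ = 1 := fun ψ hψ => by
    rcases hz1 ψ hψ with e | e <;> rw [e] <;> norm_num
  -- the remaining coefficient
  set R := ((Finset.univ.erase T).erase a).erase b with hR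
  have hsplit : ∀ f : IrrCharacter G → ℤ, ∑ ψ, f ψ = f T + f a + f b + ∑ ψ ∈ R, f ψ := by
    intro f
    rw [← Finset.add_sum_erase _ _ (Finset.mem_univ T), ← Finset.add_sum_erase _ _
      (Finset.mem_erase.2 ⟨haT, Finset.mem_univ a⟩), ← Finset.add_sum_erase _ _
      (Finset.mem_erase.2 ⟨Ne.symm hab, Finset.mem_erase.2 ⟨hbT, Finset.mem_univ b⟩⟩)]
    ring
  rw [hsplit, hTT.1, hac, hbc, hsq1 a ha, hsq1 b hb] at e4
  obtain ⟨g, hg, hcg⟩ : ∃ g ∈ R, c g ≠ 0 := by
    by_contra hno
    push Not at hno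
    rw [Finset.sum_eq_zero (fun x hx => by rw [hno x hx, mul_zero])] at e4
    omega
  have hg2 := Finset.add_sum_erase R (fun ψ => c ψ * c ψ) hg
  have hg1 : 1 ≤ c g * c g := by have := mul_self_pos.2 hcg; omega
  have hrest0 : ∑ ψ ∈ R.erase g, c ψ * c ψ = 0 := by
    have := Finset.sum_nonneg (s := R.erase g) (fun ψ _ => mul_self_nonneg (c ψ))
    omega
  have hrest : ∀ ψ ∈ R, ψ ≠ g → c ψ = 0 := fun ψ hψ hne => mul_self_eq_zero.1
    ((Finset.sum_eq_zero_iff_of_nonneg fun x _ => mul_self_nonneg (c x)).1 hrest0 ψ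
      (Finset.mem_erase.2 ⟨hne, hψ⟩))
  have hsum4 : ∀ f : IrrCharacter G → ℤ, ∑ ψ, c ψ * f ψ = f T + z a * f a + z b * f b + c g * f g := by
    intro f
    rw [hsplit, hTT.1, hac, hbc, one_mul,
      Finset.sum_eq_single g (fun x hx hne => by rw [hrest x hx hne, zero_mul]) (fun hn => absurd hg hn)]
  rw [hsum4, hTT.2.1, hsq1 a ha, hsq1 b hb] at ez
  rw [hsum4, hTT.2.2] at ed
  have hcg1 : c g * c g = 1 := by omega
  have hzg : z g * z g = 9 := by
    calc z g * z g = (c g * z g) * (c g * z g) := by linear_combination (-(z g * z g)) * hcg1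
      _ = 9 := by rw [show c g * z g = -3 by omega]; norm_num
  -- the moment
  have emom : (1 : ℚ) + (z a : ℚ) / d a + (z b : ℚ) / d b + 9 * (c g : ℚ) / d g = 0 := by
    have h0 : ∑ ψ, (c ψ : ℂ) * (z ψ : ℂ) ^ 2 / (d ψ : ℂ) = 0 := by
      rw [← hpairs]; exact Finset.sum_congr rfl fun ψ _ => by rw [hc, hz, hdeg]
    rw [← Finset.add_sum_erase _ _ (Finset.mem_univ T), ← Finset.add_sum_erase _ _
      (Finset.mem_erase.2 ⟨haT, Finset.mem_univ a⟩), ← Finset.add_sum_erase _ _
      (Finset.mem_erase.2 ⟨Ne.symm hab, Finset.mem_erase.2 ⟨hbT, Finset.mem_univ b⟩⟩),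
      Finset.sum_eq_single g (fun x hx hne => by rw [hrest x hx hne]; simp) (fun hn => absurd hg hn),
      hTT.1, hTT.2.1, hTT.2.2, hac, hbc] at h0
    have qa : ((z a : ℂ)) ^ 2 = 1 := by rw [sq]; exact_mod_cast hsq1 a ha
    have qb : ((z b : ℂ)) ^ 2 = 1 := by rw [sq]; exact_mod_cast hsq1 b hb
    have qg : ((z g : ℂ)) ^ 2 = 9 := by rw [sq]; exact_mod_cast hzg
    rw [qa, qb, qg] at h0
    apply (Rat.castHom ℂ).injective
    simp only [map_add, map_div₀, map_mul, map_one, map_ofNat, map_intCast, map_zero]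
    linear_combination h0
  have qd : ∀ ψ : IrrCharacter G, (d ψ : ℚ) ≠ 0 := fun ψ => by exact_mod_cast (hdpos ψ).ne'
  have eint : d a * d b * d g + z a * (d b * d g) + z b * (d a * d g) + 9 * c g * (d a * d b) = 0 := by
    have := qd a; have := qd b; have := qd g
    field_simp at emom
    have e' : (d a : ℚ) * d b * d g + z a * (d b * d g) + z b * (d a * d g) + 9 * c g * (d a * d b) = 0 := by
      linear_combination emom
    exact_mod_cast e'
  have hy : ∀ ψ ∈ B, 4 ∣ z ψ * d ψ - 1 ∧ z ψ * d ψ ≠ 1 := by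
    intro ψ hψ
    have h1 := h.four_congr hV ψ ht (hdeg ψ) (hz ψ)
    have h2 := hdpos ψ
    refine ⟨?_, fun e' => ?_⟩
    · rcases hz1 ψ hψ with e | e <;> rw [e] at h1 ⊢ <;> omega
    · have h5 : d ψ = 1 := by rcases hz1 ψ hψ with e | e <;> rw [e] at e' <;> omega
      have : ψ = T := h.eq_trivial_of_degree_one ψ (by rw [hdeg, h5, Int.cast_one])
      exact hTB (this ▸ hψ)
  refine four_no_solution (hy a ha).1 (hy b hb).1 (hy a ha).2 (hy b hb).2 ?_
  have hg' : c g * d g = -1 - z a * d a - z b * d b := by omega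
  set ya := z a * d a with hya
  set yb := z b * d b with hyb
  set yg := c g * d g with hyg
  have key : ya * yb * yg + yb * yg + ya * yg + 9 * (ya * yb) = 0 := by
    have h9 : (z a * z b * c g) * (d a * d b * d g + z a * (d b * d g) + z b * (d a * d g)
        + 9 * c g * (d a * d b)) = 0 := by rw [eint, mul_zero]
    simp only [hya, hyb, hyg]
    linear_combination h9 + (-(z b * c g * (d b * d g))) * hsq1 a ha +
      (-(z a * c g * (d a * d g))) * hsq1 b hb + (-(9 * (z a * z b) * (d a * d b))) * hcg1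
  rw [hg'] at key
  linear_combination key

/-- With four-group Sylow 2-subgroups the centralizer of a four-group has no odd part. -/
theorem four_trivial (h4 : Nat.card (S : Subgroup G) = 4) {V : Subgroup G} (hV : IsFour V)
    {x0 : G} (hx0 : x0 ∈ centralizer (V : Set G)) (ho0 : Odd (orderOf x0)) : x0 = 1 := by
  classical
  by_contra hne
  haveI : Fact (Nat.Prime 2) := ⟨Nat.prime_two⟩
  -- the smallest prime
  have hex : ∃ q, q.Prime ∧ q ≠ 2 ∧ ∃ x ∈ centralizer (V : Set G), orderOf x = q := by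
    obtain ⟨q, hq, hqd⟩ := Nat.exists_prime_and_dvd (mt orderOf_eq_one_iff.1 hne)
    exact ⟨q, hq, fun e => ho0.not_two_dvd_nat (e ▸ hqd), x0 ^ (orderOf x0 / q), pow_mem hx0 _,
      orderOf_pow_orderOf_div (orderOf_pos x0).ne' hqd⟩
  obtain ⟨hp, hp2, u, huV, hu⟩ := Nat.find_spec hex
  set p := Nat.find hex with hpdef
  haveI : Fact p.Prime := ⟨hp⟩
  obtain ⟨hHV, hVH, hMV, hcard⟩ := h.four_local h4 hV hp hp2 hu huV fun x q hq hq2 hx hxc =>
    Nat.find_min' hex ⟨hq, hq2, x, hxc, hx⟩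
  set H := centralizer ({u} : Set G) with hH
  set Mg := normalizer (zpowers u : Set G) with hMg
  have hu1 : u ≠ 1 := fun e => by rw [e, orderOf_one] at hu; exact hp.one_lt.ne hu
  have huH : u ∈ H := mem_centralizer_singleton_iff.2 rfl
  haveI := Fintype.ofFinite H
  -- the linear character
  obtain ⟨lam, hlu, hlam⟩ := exists_hom_central (H := H) (p := p) (u := ⟨u, huH⟩)
    (fun P => h.isCyclic_sylow hp hp2 H P) (by rw [orderOf_mk, hu]) (by
      rw [Subgroup.mem_center_iff]
      intro g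
      exact Subtype.ext (mem_centralizer_singleton_iff.1 g.2))
  have hlam1 : lam ≠ 1 := fun e => hlu (by rw [e]; rfl)
  have hgen : ∀ x : H, lam x ≠ 1 → u ∈ zpowers (x : G) := fun x hx => by
    obtain ⟨i, hi⟩ := hlam x hx
    exact ⟨i, congrArg Subtype.val hi⟩
  have hHM : H ≤ Mg := by
    intro c hc
    rw [hMg, ← TwoFusion.map_conj_eq_self_iff_mem_normalizer, MonoidHom.map_zpowers]
    congr 1
    exact mul_inv_eq_iff_eq_mul.2 (mem_centralizer_singleton_iff.1 hc)
  have hMu : ∀ g ∈ Mg, g * u * g⁻¹ ∈ zpowers u := fun g hg =>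
    (Subgroup.mem_normalizer_iff.1 hg u).1 (mem_zpowers u)
  have hnorm : ∀ g ∈ Mg, ∀ x ∈ H, g * x * g⁻¹ ∈ H := by
    intro g hg x hx
    obtain ⟨i, hi⟩ := hMu g⁻¹ (inv_mem hg)
    simp only at hi
    have hxu : Commute x u := mem_centralizer_singleton_iff.1 hx
    rw [hH, mem_centralizer_singleton_iff]
    calc g * x * g⁻¹ * u = g * (x * (g⁻¹ * u * g⁻¹⁻¹)) * g⁻¹ := by group
      _ = g * (g⁻¹ * u * g⁻¹⁻¹ * x) * g⁻¹ := by rw [← hi, (hxu.zpow_right i).eq]
      _ = u * (g * x * g⁻¹) := by group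
  have hTI : ∀ (g : G) (x : H) (hg : g * (x : G) * g⁻¹ ∈ H), lam x ≠ 1 →
      lam ⟨g * (x : G) * g⁻¹, hg⟩ ≠ 1 → g ∈ Mg := by
    intro g x hg h1 h2
    obtain ⟨i, hi⟩ := hgen x h1
    have hg1 : g * u * g⁻¹ ∈ zpowers (g * (x : G) * g⁻¹) := ⟨i, by simp only at hi ⊢; rw [conj_zpow, hi]⟩
    have hu2 : u ∈ zpowers (g * (x : G) * g⁻¹) := hgen _ h2
    have hord : orderOf (g * u * g⁻¹) = p := by rw [← MulAut.conj_apply, MulEquiv.orderOf_eq, hu]
    have heq : zpowers (⟨_, hg1⟩ : zpowers (g * (x : G) * g⁻¹)) = zpowers ⟨u, hu2⟩ :=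
      FrobeniusCompl.eq_of_card_eq (by rw [Nat.card_zpowers, Nat.card_zpowers, orderOf_mk, orderOf_mk, hu, hord])
    have heq' := congrArg (fun L => L.map (zpowers (g * (x : G) * g⁻¹)).subtype) heq
    simp only [MonoidHom.map_zpowers, coe_subtype] at heq'
    rw [hMg, ← TwoFusion.map_conj_eq_self_iff_mem_normalizer, MonoidHom.map_zpowers]
    simpa [MulAut.conj_apply] using heq'
  have hstab : ∀ g, ∀ hg : g ∈ Mg, g ∉ H → ∃ x : H,
      lam ⟨g * (x : G) * g⁻¹, hnorm g hg x x.2⟩ ≠ lam x := by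
    intro g hg hgH
    refine ⟨⟨u, huH⟩, fun e => ?_⟩
    obtain ⟨i, hi⟩ := hMu g hg
    simp only at hi
    have e2 : (⟨g * u * g⁻¹, hnorm g hg u huH⟩ : H) = (⟨u, huH⟩ : H) ^ i := Subtype.ext (by
      rw [SubgroupClass.coe_zpow]; exact hi.symm)
    rw [e2, map_zpow, ← mul_inv_eq_one, ← zpow_sub_one] at e
    have hord : orderOf (lam ⟨u, huH⟩) = p := orderOf_eq_prime (by
      rw [← map_pow, show (⟨u, huH⟩ : H) ^ p = 1 from Subtype.ext (by
        rw [SubgroupClass.coe_pow, ← hu]; exact pow_orderOf_eq_one u), map_one]) hlu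
    rw [← orderOf_dvd_iff_zpow_eq_one, hord, ← hu, orderOf_dvd_iff_zpow_eq_one, zpow_sub_one,
      mul_inv_eq_one, hi] at e
    exact hgH (mem_centralizer_singleton_iff.2 (mul_inv_eq_iff_eq_mul.1 e))
  have hsq := sum_coef_sq H lam hlam1 Mg hHM hnorm hTI hstab
  rw [hcard, Nat.cast_mul, mul_div_cancel_right₀ _ Char.card_ne_zero_complex] at hsq
  norm_num at hsq
  -- an involution
  obtain ⟨⟨t, htV⟩, ht1'⟩ : ∃ t : V, t ≠ 1 := by
    haveI : Fintype V := Fintype.ofFinite V
    exact Fintype.exists_ne_of_one_lt_card (by rw [← Nat.card_eq_fintype_card, hV.1]; norm_num) 1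
  have ht1 : t ≠ 1 := fun e => ht1' (Subtype.ext e)
  have ht : orderOf t = 2 := orderOf_eq_prime (by rw [pow_two]; exact hV.2 t htV) ht1
  have hzero : ∀ g : G, orderOf g = 1 ∨ orderOf g = 2 →
      ∑ ψ : IrrCharacter G, coef H lam ψ * (ψ : G → ℂ) g = 0 := by
    intro g hg
    refine sum_coef_mul_eq_zero H lam g fun x hx => ?_
    by_contra hne'
    obtain ⟨c, hc⟩ := isConj_iff.1 hx
    have hord : orderOf (x : G) = orderOf g := by rw [← hc, ← MulAut.conj_apply, MulEquiv.orderOf_eq]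
    have hd : p ∣ orderOf (x : G) := by
      rw [← hu]; exact orderOf_dvd_of_mem_zpowers (hgen x hne')
    rw [hord] at hd
    rcases hg with e | e <;> rw [e] at hd
    · exact hp.not_dvd_one hd
    · exact hp2 ((Nat.prime_dvd_prime_iff_eq hp Nat.prime_two).1 hd)
  have hpairs : ∑ ψ : IrrCharacter G, coef H lam ψ * (ψ : G → ℂ) t ^ 2 / (ψ : G → ℂ) 1 = 0 := by
    rw [sum_coef_pairs, Finset.sum_eq_zero, mul_zero]
    intro x _
    by_cases hx : lam x = 1
    · rw [hx, Units.val_one, sub_self, zero_mul]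
    rw [Nat.card_eq_zero.2 (Or.inl ⟨?_⟩), Nat.cast_zero, mul_zero]
    rintro ⟨⟨a, b⟩, ha, hb, hab⟩
    simp only at ha hb hab
    obtain ⟨c, hc⟩ := isConj_iff.1 ha
    obtain ⟨d, hd⟩ := isConj_iff.1 hb
    have haa : a * a = 1 := by rw [← hc, conj_mul, hV.2 t htV]; group
    have hbb : b * b = 1 := by rw [← hd, conj_mul, hV.2 t htV]; group
    obtain ⟨i, hi⟩ := hgen x hx
    simp only at hi
    have hinvx : a * (x : G) * a⁻¹ = (x : G)⁻¹ := by
      rw [← hab, inv_eq_of_mul_eq_one_right haa, ← mul_assoc a a b, haa, one_mul, mul_inv_rev,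
        inv_eq_of_mul_eq_one_right haa, inv_eq_of_mul_eq_one_right hbb]
    have hinvu : a * u * a⁻¹ = u⁻¹ := by rw [← hi, ← conj_zpow, hinvx, inv_zpow]
    have haM : a ∈ Mg := by
      rw [hMg, ← TwoFusion.map_conj_eq_self_iff_mem_normalizer, MonoidHom.map_zpowers]
      simp only [MulEquiv.coe_toMonoidHom, MulAut.conj_apply, hinvu, zpowers_inv]
    have hz2 : IsPGroup 2 (zpowers a) := IsPGroup.of_card (n := 1) (by
      rw [Nat.card_zpowers, pow_one]
      refine orderOf_eq_prime (by rw [pow_two, haa]) fun e => ?_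
      rw [e] at ha
      exact ht1 (isConj_one_left.1 ha))
    have haV : a ∈ V := by
      have := h.le_of_two_group h4 hV
        (hz2.to_sup_of_normal_right' (isPGroup_four hV) (zpowers_le.2 (hMV haM))) le_sup_right
      exact this ▸ mem_sup_left (mem_zpowers a)
    have hau : a * u * a⁻¹ = u := mul_inv_eq_iff_eq_mul.2 (mem_centralizer_singleton_iff.1 (hVH haV))
    rw [hau] at hinvu
    have : orderOf u ∣ 2 := orderOf_dvd_of_pow_eq_one (by
      rw [pow_two]; nth_rewrite 1 [hinvu]; exact inv_mul_cancel u)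
    rw [hu] at this
    exact hp2 ((Nat.prime_dvd_prime_iff_eq hp Nat.prime_two).1 this)
  -- the principal block
  obtain ⟨M, hM⟩ := BlkChar.exists_isPModular 2 Nat.prime_two
  have hphi : ∑ ψ ∈ pb M G, coef H lam ψ * (ψ : G → ℂ) t = 3 := by
    rw [h.block_coef hM ht, h4]
    have hHo : (Nat.card H : ℂ) ≠ 0 := Char.card_ne_zero_complex
    have key : (∑ x : H, if IsConj t (Element.pPart 2 (x : G)) then 1 - (lam x : ℂ) else 0) * 4
        = 3 * (Nat.card H : ℂ) := by
      -- split off the four-group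
      let W : Finset H := Finset.univ.filter fun x => Element.pPart 2 (x : G) = 1
      have hsplit : ∀ x : H, Element.pPart 2 (x : G) ∈ V := fun x => by
        obtain ⟨e⟩ := h.hS
        obtain ⟨k, hk⟩ : ∃ k, orderOf (Element.pPart 2 (x : G)) = 2 ^ k :=
          ⟨_, Element.orderOf_pPart_eq_pow Nat.prime_two _⟩
        exact mem_four_of_centralizes e hV (k := k) (by rw [← hk, pow_orderOf_eq_one])
          (zpowers_le.2 (hHV x.2) (Element.pPart_mem_zpowers 2 _))
      have hiff : ∀ x : H, IsConj t (Element.pPart 2 (x : G)) ↔ x ∉ W := by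
        intro x
        simp only [W, Finset.mem_filter, Finset.mem_univ, true_and]
        refine ⟨fun hc e => ?_, fun e => ?_⟩
        · rw [e] at hc; exact ht1 (isConj_one_left.1 hc)
        · exact h.all_conj t _ ht (orderOf_eq_prime (by rw [pow_two]; exact hV.2 _ (hsplit x)) e)
      have hlamV : ∀ a : G, ∀ ha : a ∈ V, lam ⟨a, hVH ha⟩ = 1 := by
        intro a ha
        by_contra hne'
        have hd : p ∣ orderOf a := by rw [← hu]; exact orderOf_dvd_of_mem_zpowers (hgen _ hne')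
        have h2 : orderOf a ∣ 2 := orderOf_dvd_of_pow_eq_one (by rw [pow_two]; exact hV.2 a ha)
        exact hp2 ((Nat.prime_dvd_prime_iff_eq hp Nat.prime_two).1 (hd.trans h2))
      let F : V × {x : H // x ∈ W} → H := fun a => ⟨a.1, hVH a.1.2⟩ * a.2.1
      have hWo : ∀ w : H, w ∈ W → Odd (orderOf (w : G)) := fun w hw => by
        simp only [W, Finset.mem_filter, Finset.mem_univ, true_and] at hw
        have := Element.coprime_orderOf_pComplPart Nat.prime_two (w : G)
        have e := Element.pPart_mul_pComplPart 2 (w : G)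
        rw [hw, one_mul] at e
        rw [e] at this
        exact Nat.coprime_two_right.1 this
      have hF : Function.Bijective F := by
        refine ⟨fun a b hab => ?_, fun x => ?_⟩
        · have e : (a.1 : G) * (a.2.1 : G) = (b.1 : G) * (b.2.1 : G) := congrArg Subtype.val hab
          have hca : Commute (a.1 : G) (a.2.1 : G) := (mem_centralizer_iff.1 (hHV a.2.1.2) _ a.1.2)
          have hcb : Commute (b.1 : G) (b.2.1 : G) := (mem_centralizer_iff.1 (hHV b.2.1.2) _ b.1.2)
          have h1 : ((b.1 : G))⁻¹ * a.1 = (b.2.1 : G) * (a.2.1 : G)⁻¹ := by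
            rw [eq_mul_inv_iff_mul_eq, mul_assoc, e, inv_mul_cancel_left]
          have hV1 : (b.2.1 : G) * (a.2.1 : G)⁻¹ ∈ V := h1 ▸ mul_mem (inv_mem b.1.2) a.1.2
          have hcc : Commute (b.2.1 : G) (a.2.1 : G)⁻¹ := by
            have h2 : Commute (b.2.1 : G) ((b.1 : G)⁻¹ * a.1) :=
              ((mem_centralizer_iff.1 (hHV b.2.1.2) _ (mul_mem (inv_mem b.1.2) a.1.2))).symm
            rw [h1] at h2
            have := (Commute.refl (b.2.1 : G)).inv_right.mul_right h2
            rwa [inv_mul_cancel_left] at this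
          have hodd : Odd (orderOf ((b.2.1 : G) * (a.2.1 : G)⁻¹)) := by
            have := (hWo _ b.2.2).mul (hWo _ a.2.2)
            refine this.of_dvd_nat ?_
            rw [← orderOf_inv (a.2.1 : G)]
            exact hcc.orderOf_mul_dvd_mul_orderOf
          have hone : (b.2.1 : G) * (a.2.1 : G)⁻¹ = 1 := orderOf_eq_one_iff.1
            (Nat.eq_one_of_dvd_coprimes hodd.coprime_two_left
              (orderOf_dvd_of_pow_eq_one (by rw [pow_two]; exact hV.2 _ hV1)) dvd_rfl)
          rw [hone, inv_mul_eq_one] at h1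
          rw [mul_inv_eq_one] at hone
          exact Prod.ext (Subtype.ext h1.symm) (Subtype.ext (Subtype.ext hone.symm))
        · refine ⟨(⟨_, hsplit x⟩, ⟨⟨Element.pComplPart 2 (x : G),
            zpowers_le.2 x.2 (Element.pComplPart_mem_zpowers 2 _)⟩, ?_⟩), Subtype.ext ?_⟩
          · simp only [W, Finset.mem_filter, Finset.mem_univ, true_and]
            exact (Element.pPart_eq_one Nat.prime_two (Element.coprime_orderOf_pComplPart Nat.prime_two _)).1
          · exact Element.pPart_mul_pComplPart 2 (x : G)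
      have hW0 : ∑ w : {x : H // x ∈ W}, (lam w.1 : ℂ) = 0 := by
        have h0 := Char.monoidHom_sum_eq_zero hlam1
        rw [← Equiv.sum_comp (Equiv.ofBijective F hF), Fintype.sum_prod_type] at h0
        have he : ∀ a : V, ∀ w : {x : H // x ∈ W}, (lam (F (a, w)) : ℂ) = (lam w.1 : ℂ) := fun a w => by
          simp [F, hlamV a a.2]
        simp only [Equiv.ofBijective_apply, he, Finset.sum_const, Finset.card_univ, nsmul_eq_mul,
          ← Nat.card_eq_fintype_card, hV.1] at h0
        simpa using h0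
      have hcardW : (Nat.card H : ℂ) = 4 * (Fintype.card {x : H // x ∈ W} : ℂ) := by
        rw [← Nat.card_congr (Equiv.ofBijective F hF), Nat.card_prod, hV.1,
          Nat.card_eq_fintype_card, Nat.cast_mul, Nat.cast_ofNat]
      have hmemW : ∀ (a : V) (w : {x : H // x ∈ W}), F (a, w) ∉ W ↔ a ≠ 1 := by
        intro a w
        have : Element.pPart 2 ((F (a, w) : H) : G) = (a : G) := by
          have hk : ∃ k, orderOf (a : G) = 2 ^ k := by
            by_cases ha : (a : G) = 1
            · exact ⟨0, by rw [ha, orderOf_one, pow_zero]⟩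
            · exact ⟨1, by rw [pow_one]; exact orderOf_eq_prime (by rw [pow_two]; exact hV.2 _ a.2) ha⟩
          obtain ⟨k, hk⟩ := hk
          exact (Element.eq_pPart Nat.prime_two (g := (F (a, w) : G)) (a := (a : G)) (b := (w.1 : G))
            (mem_centralizer_iff.1 (hHV w.1.2) _ a.2) rfl hk (Nat.coprime_two_right.2 (hWo _ w.2))).1.symm
        simp only [W, Finset.mem_filter, Finset.mem_univ, true_and, this, ne_eq, OneMemClass.coe_eq_one]
      simp only [hiff]
      rw [hcardW, ← Equiv.sum_comp (Equiv.ofBijective F hF), Fintype.sum_prod_type]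
      simp only [Equiv.ofBijective_apply, hmemW]
      have hc3 : (Finset.univ.filter fun a : V => a ≠ 1).card = 3 := by
        rw [Finset.filter_ne', Finset.card_erase_of_mem (Finset.mem_univ _), Finset.card_univ,
          ← Nat.card_eq_fintype_card, hV.1]
      have he : ∀ a : V, ∀ w : {x : H // x ∈ W}, (lam (F (a, w)) : ℂ) = (lam w.1 : ℂ) := fun a w => by
        simp [F, hlamV a a.2]
      simp only [he, Finset.sum_ite_irrel, Finset.sum_const_zero, Finset.sum_sub_distrib, hW0,
        sub_zero, Finset.sum_const, Finset.card_univ, nsmul_eq_mul, mul_one]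
      rw [← Finset.sum_filter, Finset.sum_const, hc3, nsmul_eq_mul]
      push_cast; ring
    field_simp
    linear_combination key
  exact h.four_final h4 hV ht hM lam hlam1 hzero hsq hpairs hphi

end CycHyp

end Cfsg.Agent.GW
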