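import Cfsg.Agent.GW.CycBasic

/-!
# Involutions acting on odd subgroups; automizers of four-groups
-/

set_option autoImplicit false
set_option linter.style.haveILetI false
set_option linter.unusedSectionVars false

namespace Cfsg.Agent.GW

open Cfsg.Agent.TwoGroups Cfsg.Agent.TwoFusion Subgroup
open scoped Pointwise

variable {G : Type*} [Group G]

theorem four_split {U : Subgroup G} (hU : IsFour U) {a b : G} (ha : a ∈ U) (hb : b ∈ U)
    (ha1 : a ≠ 1) (hb1 : b ≠ 1) (hab : a ≠ b) {w : G} (hw : w ∈ U) :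
    w = 1 ∨ w = a ∨ w = b ∨ w = a * b := by
  classical
  haveI : Finite U := Nat.finite_of_card_ne_zero (by rw [hU.1]; norm_num)
  haveI := hU.isKleinFour
  by_contra hc
  push Not at hc
  obtain ⟨h0, h1, h2, h3⟩ := hc
  have := IsKleinFour.eq_mul_of_ne_all (G := U) (x := ⟨a, ha⟩) (y := ⟨b, hb⟩) (z := ⟨w, hw⟩)
    (fun e => ha1 (congrArg Subtype.val e)) (fun e => hb1 (congrArg Subtype.val e))
    (fun e => hab (congrArg Subtype.val e)) (fun e => h0 (congrArg Subtype.val e))
    (fun e => h1 (congrArg Subtype.val e)) (fun e => h2 (congrArg Subtype.val e))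
  exact h3 (congrArg Subtype.val this)

variable [Finite G]

namespace CycHyp

variable {S : Sylow 2 G} {n : ℕ} (h : CycHyp S n)
include h

theorem of_sylow (T : Sylow 2 G) : CycHyp T n := by
  haveI : Fact (Nat.Prime 2) := ⟨Nat.prime_two⟩
  exact ⟨h.hn, h.hS.map fun e => (Sylow.equiv T S).trans e, h.simple, h.cyc⟩

/-- An involution normalising an odd subgroup `K` splits it. -/
theorem split_involution {K : Subgroup G} (hK : Odd (Nat.card K)) {v : G} (hv : v * v = 1)
    (hn : v ∈ normalizer (K : Set G)) :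
    ∃ D : Subgroup G, IsCyclic D ∧ D ≤ K ∧ (∀ k ∈ K, ∀ d ∈ D, k * d * k⁻¹ ∈ D) ∧
      (∀ d ∈ D, v * d * v = d⁻¹) ∧ (∀ y ∈ K, v * y * v = y⁻¹ → y ∈ D) ∧
      (Nat.card D).Coprime (Nat.card ↥(K ⊓ centralizer ({v} : Set G))) ∧
      D ⊔ (K ⊓ centralizer ({v} : Set G)) = K := by
  haveI := h.isZGroup_of_odd hK
  have hvi : v⁻¹ = v := inv_eq_of_mul_eq_one_right hv
  have hcop : (Nat.card (zpowers v)).Coprime (Nat.card K) := by
    rw [Nat.card_zpowers]
    refine Nat.Coprime.coprime_dvd_left (orderOf_dvd_of_pow_eq_one (n := 2) (by rw [pow_two, hv])) ?_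
    exact hK.coprime_two_left
  obtain ⟨h1, h2, h3, h4, h5, h6⟩ := FGSev.zgroup_action (zpowers_le.2 hn) hcop
  have hC : centralizer ((zpowers v : Subgroup G) : Set G) = centralizer ({v} : Set G) := by
    rw [zpowers_eq_closure, centralizer_closure]
  rw [hC] at h4 h5 h6
  set D : Subgroup G := ⁅K, zpowers v⁆
  have hdv : ∀ d ∈ D, v * d * v⁻¹ ∈ D := by
    intro d hd
    have hle : D ≤ D.comap (MulAut.conj v).toMonoidHom := by
      rw [commutator_le]
      intro k hk a ha
      rw [mem_comap, map_commutatorElement]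
      refine commutator_mem_commutator ((Subgroup.mem_normalizer_iff.1 hn k).1 hk) ?_
      obtain ⟨i, rfl⟩ := ha
      exact ⟨i, by simp [MulAut.conj_apply, mul_assoc, (Commute.refl v).zpow_right i |>.eq]⟩
    exact hle hd
  refine ⟨D, h1, h2, fun k hk d hd => (Subgroup.mem_normalizer_iff.1 (h3 hk) d).1 hd,
    fun d hd => ?_, fun y hy hinv => ?_, h6, h5⟩
  · have hdd : v * d * v ∈ D := by simpa [hvi] using hdv d hd
    have hcomm : d * (v * d * v) = v * d * v * d := by
      haveI := h1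
      letI := IsCyclic.commGroup (α := D)
      exact congrArg Subtype.val (mul_comm (⟨d, hd⟩ : D) ⟨_, hdd⟩)
    have hfix : d * (v * d * v) ∈ K ⊓ centralizer ({v} : Set G) := by
      refine ⟨mul_mem (h2 hd) (h2 hdd), mem_centralizer_singleton_iff.2 ?_⟩
      calc d * (v * d * v) * v = d * (v * d) * (v * v) := by group
        _ = v * v * d * (v * d) := by rw [hv]; group
        _ = v * (v * d * v * d) := by group
        _ = v * (d * (v * d * v)) := by rw [hcomm]
    have hmm : d * (v * d * v) ∈ D ⊓ (K ⊓ centralizer ({v} : Set G)) := ⟨mul_mem hd hdd, hfix⟩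
    rw [h4, mem_bot] at hmm
    have := hmm
    exact eq_inv_of_mul_eq_one_right this
  · have hsq : y * y ∈ D := by
      have hm := commutator_mem_commutator hy (mem_zpowers v)
      rw [commutatorElement_def, hvi] at hm
      have : v * y⁻¹ * v = y := by
        rw [show y⁻¹ = v * y * v from hinv.symm]
        calc v * (v * y * v) * v = v * v * y * (v * v) := by group
          _ = y := by rw [hv, one_mul, mul_one]
      rwa [show y * v * y⁻¹ * v = y * (v * y⁻¹ * v) by group, this] at hm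
    obtain ⟨j, hj⟩ := hK.of_dvd_nat (Subgroup.orderOf_mk y hy ▸ _root_.orderOf_dvd_natCard (⟨y, hy⟩ : K))
    have : y = (y * y) ^ (j + 1) := by
      rw [← pow_two, ← pow_mul, show 2 * (j + 1) = orderOf y + 1 by omega, pow_succ,
        pow_orderOf_eq_one, one_mul]
    rw [this]
    exact pow_mem hsq _

/-- No prime both has fixed and inverted elements. -/
theorem no_fix_invert {K : Subgroup G} (hK : Odd (Nat.card K)) {v : G} (hv : v * v = 1)
    (hn : v ∈ normalizer (K : Set G)) {q : ℕ} (hq : q.Prime) {x y : G} (hx : x ∈ K) (hy : y ∈ K)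
    (hxo : orderOf x = q) (hyo : orderOf y = q) (hfix : v * x * v = x) (hinv : v * y * v = y⁻¹) :
    False := by
  obtain ⟨D, -, -, -, -, h5, h6, -⟩ := h.split_involution hK hv hn
  have hxC : x ∈ K ⊓ centralizer ({v} : Set G) := by
    refine ⟨hx, mem_centralizer_singleton_iff.2 ?_⟩
    calc x * v = v * x * v * v := by rw [hfix]
      _ = v * x := by rw [mul_assoc, hv, mul_one]
  have d1 : q ∣ Nat.card D := hyo ▸ Subgroup.orderOf_mk y (h5 y hy hinv) ▸ _root_.orderOf_dvd_natCard _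
  have d2 : q ∣ Nat.card ↥(K ⊓ centralizer ({v} : Set G)) :=
    hxo ▸ Subgroup.orderOf_mk x hxC ▸ _root_.orderOf_dvd_natCard _
  exact hq.one_lt.ne' (Nat.eq_one_of_dvd_coprimes h6 d1 d2)

/-- An involution fixing an element of every prime order centralises the whole group. -/
theorem centralizes_of_all_fixed {K : Subgroup G} (hK : Odd (Nat.card K)) {v : G} (hv : v * v = 1)
    (hn : v ∈ normalizer (K : Set G))
    (hall : ∀ q, q.Prime → q ∣ Nat.card K → ∃ x ∈ K, orderOf x = q ∧ v * x = x * v) :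
    ∀ y ∈ K, v * y = y * v := by
  obtain ⟨D, -, hDK, -, -, -, h6, h7⟩ := h.split_involution hK hv hn
  have hD : D = ⊥ := by
    rw [← Subgroup.card_eq_one]
    by_contra hne
    obtain ⟨q, hq, hqd⟩ := Nat.exists_prime_and_dvd hne
    obtain ⟨x, hx, hxo, hxv⟩ := hall q hq (hqd.trans (card_dvd_of_le hDK))
    have hxC : x ∈ K ⊓ centralizer ({v} : Set G) := ⟨hx, mem_centralizer_singleton_iff.2 hxv.symm⟩
    exact hq.one_lt.ne' (Nat.eq_one_of_dvd_coprimes h6 hqd
      (hxo ▸ Subgroup.orderOf_mk x hxC ▸ _root_.orderOf_dvd_natCard _))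
  rw [hD, bot_sup_eq] at h7
  intro y hy
  rw [← h7] at hy
  exact (mem_centralizer_singleton_iff.1 hy.2).symm

/-- Each prime divisor has a fixed or an inverted element. -/
theorem fixed_or_inverted {K : Subgroup G} (hK : Odd (Nat.card K)) {v : G} (hv : v * v = 1)
    (hn : v ∈ normalizer (K : Set G)) {q : ℕ} (hq : q.Prime) (hqK : q ∣ Nat.card K) :
    (∃ x ∈ K, orderOf x = q ∧ v * x = x * v) ∨ ∃ y ∈ K, orderOf y = q ∧ v * y * v = y⁻¹ := by
  haveI : Fact q.Prime := ⟨hq⟩
  obtain ⟨D, -, hDK, hDn, h4, -, -, h7⟩ := h.split_involution hK hv hn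
  set F := K ⊓ centralizer ({v} : Set G) with hF
  have hFn : F ≤ normalizer (D : Set G) := by
    intro f hf
    rw [Subgroup.mem_normalizer_iff]
    intro x
    refine ⟨hDn f hf.1 x, fun hx => ?_⟩
    have := hDn f⁻¹ (inv_mem hf.1) _ hx
    simpa [mul_assoc] using this
  have hcard : Nat.card K ∣ Nat.card D * Nat.card F := by
    have e : (D : Set G) * (F : Set G) = (K : Set G) := by
      rw [← Subgroup.coe_mul_of_right_le_normalizer_left D F hFn, h7]
    have h0 : D ⊓ F = ⊥ := by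
      rw [eq_bot_iff]
      rintro x ⟨hxD, hxF⟩
      have h1 := h4 x hxD
      rw [← mem_centralizer_singleton_iff.1 hxF.2, mul_assoc, hv, mul_one] at h1
      have h2 : x * x = 1 := by nth_rewrite 1 [h1]; exact inv_mul_cancel x
      rw [mem_bot, ← orderOf_eq_one_iff]
      exact Nat.eq_one_of_dvd_coprimes hK.coprime_two_left (orderOf_dvd_of_pow_eq_one (by rw [pow_two, h2]))
        (Subgroup.orderOf_mk x (hDK hxD) ▸ _root_.orderOf_dvd_natCard (⟨x, hDK hxD⟩ : K))
    have hb : Function.Bijective (fun a : D × F => (⟨(a.1 : G) * a.2, e.le (Set.mul_mem_mul a.1.2 a.2.2)⟩ : K)) := by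
      refine ⟨fun a b hab => ?_, fun k => ?_⟩
      · exact Subgroup.mul_injective_of_disjoint (disjoint_iff.2 h0) (congrArg Subtype.val hab)
      · obtain ⟨d, hd, f, hf, hk⟩ := e.ge k.2
        exact ⟨(⟨d, hd⟩, ⟨f, hf⟩), Subtype.ext hk⟩
    rw [← Nat.card_prod, Nat.card_congr (Equiv.ofBijective _ hb)]
  rcases (Nat.Prime.dvd_mul hq).1 (hqK.trans hcard) with hd | hd
  · obtain ⟨⟨y, hy⟩, hyo⟩ := exists_prime_orderOf_dvd_card' q hd
    exact Or.inr ⟨y, hDK hy, by rwa [orderOf_mk] at hyo, h4 y hy⟩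
  · obtain ⟨⟨x, hx⟩, hxo⟩ := exists_prime_orderOf_dvd_card' q hd
    exact Or.inl ⟨x, hx.1, by rwa [orderOf_mk] at hxo, (mem_centralizer_singleton_iff.1 hx.2).symm⟩

/-- An inverted element of prime order spans the only subgroup of that order. -/
theorem inverted_unique {K : Subgroup G} (hK : Odd (Nat.card K)) {v : G} (hv : v * v = 1)
    (hn : v ∈ normalizer (K : Set G)) {p : ℕ} (hp : p.Prime) (h2 : p ≠ 2) {u : G} (huK : u ∈ K)
    (hu : orderOf u = p) (hinv : v * u * v = u⁻¹) :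
    (∀ k ∈ K, k * u * k⁻¹ ∈ zpowers u) ∧ ∀ x ∈ K, orderOf x = p → x ∈ zpowers u := by
  obtain ⟨D, hD, -, hDn, -, h5, -, -⟩ := h.split_involution hK hv hn
  haveI := hD
  have huD := h5 u huK hinv
  have key : ∀ z ∈ D, orderOf z = p → z ∈ zpowers u := by
    intro z hz hzo
    have heq : zpowers (⟨z, hz⟩ : D) = zpowers ⟨u, huD⟩ :=
      FrobeniusCompl.eq_of_card_eq (by rw [Nat.card_zpowers, Nat.card_zpowers, orderOf_mk, orderOf_mk, hu, hzo])
    obtain ⟨i, hi⟩ := heq ▸ mem_zpowers (⟨z, hz⟩ : D)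
    exact ⟨i, congrArg Subtype.val hi⟩
  have hnorm : ∀ k ∈ K, k * u * k⁻¹ ∈ zpowers u := fun k hk =>
    key _ (hDn k hk u huD) (by rw [← MulAut.conj_apply, MulEquiv.orderOf_eq, hu])
  refine ⟨hnorm, fun x hx hxo => ?_⟩
  obtain ⟨k, hk, hke⟩ := h.exists_conj_zpowers hp h2 huK hx hu hxo
  exact zpowers_le.2 (hnorm k hk) (hke ▸ mem_zpowers x)

/-- A prime divisor of `|N(U) : C(U)|` gives an element of that order modulo the centralizer. -/
theorem exists_of_prime_dvd_relIndex {U : Subgroup G} {q : ℕ} (hq : q.Prime)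
    (hd : q ∣ (centralizer (U : Set G)).relIndex (normalizer (U : Set G))) :
    ∃ g ∈ normalizer (U : Set G), g ∉ centralizer (U : Set G) ∧ g ^ q ∈ centralizer (U : Set G) := by
  haveI : Fact q.Prime := ⟨hq⟩
  haveI : ((centralizer (U : Set G)).subgroupOf (normalizer (U : Set G))).Normal := by
    refine ⟨fun a ha g => ?_⟩
    rw [mem_subgroupOf] at ha ⊢
    rw [mem_centralizer_iff] at ha ⊢
    intro u hu
    have hu' : (g : G)⁻¹ * u * g ∈ U := by
      simpa using (Subgroup.mem_normalizer_iff.1 (inv_mem g.2) u).1 hu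
    simp only [coe_mul, InvMemClass.coe_inv]
    calc u * ((g : G) * a * (g : G)⁻¹) = g * ((g : G)⁻¹ * u * g * a) * (g : G)⁻¹ := by group
      _ = g * (a * ((g : G)⁻¹ * u * g)) * (g : G)⁻¹ := by rw [ha _ hu']
      _ = g * a * (g : G)⁻¹ * u := by group
  rw [relIndex, index_eq_card] at hd
  obtain ⟨c, hc⟩ := exists_prime_orderOf_dvd_card' q hd
  obtain ⟨g, rfl⟩ := QuotientGroup.mk_surjective c
  refine ⟨g, g.2, fun hg => ?_, ?_⟩
  · rw [(QuotientGroup.eq_one_iff g).2 hg, orderOf_one] at hc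
    exact hq.one_lt.ne hc
  · have : g ^ q ∈ (centralizer (U : Set G)).subgroupOf (normalizer (U : Set G)) := by
      rw [← QuotientGroup.eq_one_iff, QuotientGroup.mk_pow, ← hc, pow_orderOf_eq_one]
    simpa [mem_subgroupOf] using this

theorem relIndex_cases {U : Subgroup G} (hU : IsFour U) :
    (centralizer (U : Set G)).relIndex (normalizer (U : Set G)) = 3 ∨
      (centralizer (U : Set G)).relIndex (normalizer (U : Set G)) = 6 ∧ 4 < Nat.card (S : Subgroup G) := by
  haveI : Fact (Nat.Prime 2) := ⟨Nat.prime_two⟩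
  obtain ⟨T, hT⟩ := (isPGroup_four hU).exists_le_sylow
  have hT' := h.of_sylow T
  obtain ⟨e⟩ := hT'.hS
  have hTS : Nat.card (T : Subgroup G) = Nat.card (S : Subgroup G) := Nat.card_congr (Sylow.equiv T S).toEquiv
  rcases TwoFusion.dihedral_cases h.hn e with h4 | ⟨⟨k, a, b, hd⟩, h4⟩
  · have : U = (T : Subgroup G) := eq_of_le_of_card_ge hT (by rw [h4.1, hU.1])
    rw [this]
    exact Or.inl (relIndex_eq_three_of_all_conj h4 hT'.all_conj)
  · exact Or.inr ⟨TwoFusion.Dih.six_of_all_conj hd hT'.all_conj hU hT, hTS ▸ h4⟩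

/-- An element permuting the three involutions of a four-group cyclically. -/
theorem three_cycle {U : Subgroup G} (hU : IsFour U) :
    ∃ g ∈ normalizer (U : Set G), g ^ 3 ∈ centralizer (U : Set G) ∧
      (∀ v ∈ U, v ≠ 1 → g * v * g⁻¹ ≠ v) ∧
      ∀ v ∈ U, v ≠ 1 → ∀ w ∈ U, w ≠ 1 →
        w = v ∨ w = g * v * g⁻¹ ∨ w = g * (g * v * g⁻¹) * g⁻¹ := by
  obtain ⟨g, hg, hgC, hg3⟩ := h.exists_of_prime_dvd_relIndex (U := U) Nat.prime_three (by
    rcases h.relIndex_cases hU with e | ⟨e, -⟩ <;> rw [e]; norm_num)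
  have hmem : ∀ v ∈ U, g * v * g⁻¹ ∈ U := fun v hv => (Subgroup.mem_normalizer_iff.1 hg v).1 hv
  have hne1 : ∀ v : G, v ≠ 1 → g * v * g⁻¹ ≠ 1 := fun v hv e => hv (by
    rw [show v = g⁻¹ * (g * v * g⁻¹) * g by group, e]; group)
  have h3 : ∀ v ∈ U, g * (g * (g * v * g⁻¹) * g⁻¹) * g⁻¹ = v := fun v hv => by
    have := mem_centralizer_iff.1 hg3 v hv
    calc g * (g * (g * v * g⁻¹) * g⁻¹) * g⁻¹ = g ^ 3 * v * (g ^ 3)⁻¹ := by simp [pow_succ, mul_assoc]
      _ = v := by rw [← this, mul_inv_cancel_right]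
  have hfix : ∀ v ∈ U, v ≠ 1 → g * v * g⁻¹ ≠ v := by
    intro v hv hv1 e
    apply hgC
    rw [mem_centralizer_iff]
    intro w hw
    suffices g * w * g⁻¹ = w by
      conv_lhs => rw [← this]
      group
    by_cases hw1 : w = 1
    · simp [hw1]
    by_cases hwv : w = v
    · rw [hwv, e]
    have hvw : g * w * g⁻¹ ≠ v := fun e' => hwv (mul_left_cancel (mul_right_cancel (e'.trans e.symm)))
    rcases four_split hU hv hw hv1 hw1 (Ne.symm hwv) (hmem w hw) with c | c | c | c
    · exact absurd c (hne1 w hw1)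
    · exact absurd c hvw
    · exact c
    · exfalso
      have h2 : g * (g * w * g⁻¹) * g⁻¹ = w := by
        rw [c, show g * (v * w) * g⁻¹ = g * v * g⁻¹ * (g * w * g⁻¹) by group, e, c, ← mul_assoc,
          hU.2 v hv, one_mul]
      have hgw := h3 w hw
      rw [h2, c] at hgw
      exact hv1 (mul_right_cancel (hgw.trans (one_mul w).symm))
  refine ⟨g, hg, hg3, hfix, fun v hv hv1 w hw hw1 => ?_⟩
  set b := g * v * g⁻¹ with hb
  have hb1 : b ≠ 1 := hne1 v hv1
  have hbv : v ≠ b := Ne.symm (hfix v hv hv1)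
  rcases four_split hU hv (hmem v hv) hv1 hb1 hbv hw with c | c | c | c
  · exact absurd c hw1
  · exact Or.inl c
  · exact Or.inr (Or.inl c)
  · refine Or.inr (Or.inr (c.trans ?_))
    rcases four_split hU hv (hmem v hv) hv1 hb1 hbv (hmem b (hmem v hv)) with d | d | d | d
    · exact absurd d (hne1 b hb1)
    · have := h3 v hv
      rw [← hb, d, ← hb] at this
      exact absurd this.symm hbv
    · exact absurd d (hfix b (hmem v hv) hb1)
    · exact d.symm

end CycHyp

end Cfsg.Agent.GW
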