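import Cfsg.Agent.TwoFusion.DihedralFour
import Cfsg.Agent.TwoFusion.DihedralFusion
import Mathlib.Data.ZMod.Basic
import Mathlib.Tactic.LinearCombination
import Mathlib.GroupTheory.PGroup

/-!
# Facts about 2-subgroups of a group with dihedral Sylow 2-subgroups
-/

set_option autoImplicit false
set_option linter.style.haveILetI false

namespace Cfsg.Agent.GW

open Cfsg.Agent.TwoGroups Cfsg.Agent.TwoFusion

/-! ### Inside a dihedral group -/

section Abstract

variable {m : ℕ} [NeZero m]

open DihedralGroup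

theorem eq_of_two_torsion {a b : ZMod m} (ha : a + a = 0) (hb : b + b = 0) (ha0 : a ≠ 0)
    (hb0 : b ≠ 0) : a = b := by
  classical
  by_contra hne
  have h1 := Nat.card_le_card_of_injective
    (fun i : Fin 3 => (![⟨0, add_zero 0⟩, ⟨a, ha⟩, ⟨b, hb⟩] i : {j : ZMod m // j + j = 0})) (by
      intro i j hij
      fin_cases i <;> fin_cases j <;>
        simp_all [Subtype.ext_iff])
  have h2 := card_two_torsion_le m
  simp only [Nat.card_eq_fintype_card, Fintype.card_fin] at h1
  rw [← Nat.card_eq_fintype_card] at h1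
  omega

/-- A four-subgroup contains a central involution `r c` and a reflection. -/
theorem four_structure {U : Subgroup (DihedralGroup m)} (hU : Nat.card U = 4)
    (hsq : ∀ u ∈ U, u * u = 1) :
    ∃ c i, c + c = 0 ∧ c ≠ 0 ∧ r c ∈ U ∧ sr i ∈ U := by
  classical
  have hr : ∀ a, r a ∈ U → a + a = 0 := fun a h => by
    have := hsq _ h
    rw [r_mul_r, one_def, r.injEq] at this
    exact this
  obtain ⟨i, hi⟩ : ∃ i, sr i ∈ U := by
    by_contra hc
    push Not at hc
    have h := Nat.card_le_card_of_injective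
      (fun u : U => (match h : (u : DihedralGroup m) with
        | .r a => ⟨a, hr a (h ▸ u.2)⟩
        | .sr a => absurd (h ▸ u.2) (hc a) : {j : ZMod m // j + j = 0})) (by
          rintro ⟨u, hu⟩ ⟨v, hv⟩ h
          rcases u with a | a
          · rcases v with b | b
            · simpa using h
            · exact absurd hv (hc b)
          · exact absurd hu (hc a))
    have := card_two_torsion_le m
    omega
  by_contra hcon
  push Not at hcon
  have hsub : ∀ u : U, (u : DihedralGroup m) = 1 ∨ (u : DihedralGroup m) = sr i := by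
    rintro ⟨u, hu⟩
    rcases u with a | a
    · left
      by_cases ha : a = 0
      · subst ha; rw [one_def]
      · exact absurd hi (hcon a i (hr a hu) ha hu)
    · right
      by_cases ha : a = i
      · subst ha; rfl
      · have h := mul_mem hi hu
        rw [sr_mul_sr] at h
        exact absurd hi (hcon (a - i) i (hr _ h) (sub_ne_zero.2 ha) h)
  have h := Nat.card_le_card_of_injective (fun u : U => decide ((u : DihedralGroup m) = 1)) (by
    intro u v huv
    simp only [decide_eq_decide] at huv
    rcases hsub u with h1 | h1 <;> rcases hsub v with h2 | h2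
    · exact Subtype.ext (h1.trans h2.symm)
    · exact Subtype.ext (h1.trans (huv.1 h1).symm)
    · exact Subtype.ext ((huv.2 h2).trans h2.symm)
    · exact Subtype.ext (h1.trans h2.symm))
  rw [hU, Nat.card_eq_fintype_card, Fintype.card_bool] at h
  omega

theorem commute_r {c : ZMod m} (hc : c + c = 0) (x : DihedralGroup m) : Commute (r c) x := by
  rcases x with a | a
  · simp [commute_iff_eq, add_comm]
  · simp only [commute_iff_eq, r_mul_sr, sr_mul_r, sr.injEq]
    linear_combination (-1 : ZMod m) * hc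

end Abstract

/-! ### Inside a group with dihedral Sylow 2-subgroups -/

variable {G : Type*} [Group G] [Finite G] {S : Sylow 2 G} {n : ℕ}

/-- Every 2-subgroup embeds in the dihedral group. -/
theorem exists_embed (e : (S : Subgroup G) ≃* DihedralGroup n) {R : Subgroup G}
    (hR : IsPGroup 2 R) : ∃ f : R →* DihedralGroup n, Function.Injective f := by
  obtain ⟨g, hg⟩ := exists_conj_le_sylow S hR
  refine ⟨e.toMonoidHom.comp (((MulAut.conj g).toMonoidHom.comp R.subtype).codRestrict _
    (fun x => hg x x.2)), ?_⟩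
  rw [MonoidHom.coe_comp]
  refine e.injective.comp fun a b h => ?_
  exact Subtype.ext ((MulAut.conj g).injective (congrArg Subtype.val h))

omit [Finite G] in
theorem neZero_of_equiv [Finite G] (e : (S : Subgroup G) ≃* DihedralGroup n) : NeZero n := by
  constructor
  rintro rfl
  haveI : Finite (DihedralGroup 0) := Finite.of_equiv _ e.toEquiv
  exact not_finite (DihedralGroup 0)

omit [Finite G] in
theorem isPGroup_four {U : Subgroup G} (hU : IsFour U) : IsPGroup 2 U :=
  IsPGroup.of_card (n := 2) (by rw [hU.1]; norm_num)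

theorem isPGroup_closure_of_le {R : Subgroup G} (hR : IsPGroup 2 R) {K : Subgroup G} (h : K ≤ R) :
    IsPGroup 2 K := hR.to_le h

/-- A four-group is self-centralising among 2-elements. -/
theorem mem_four_of_centralizes (e : (S : Subgroup G) ≃* DihedralGroup n) {U : Subgroup G}
    (hU : IsFour U) {x : G} {k : ℕ} (hx : x ^ 2 ^ k = 1)
    (hc : x ∈ Subgroup.centralizer (U : Set G)) : x ∈ U := by
  haveI := neZero_of_equiv e
  have hz : IsPGroup 2 (Subgroup.zpowers x) := fun y => ⟨k, by
    obtain ⟨i, hi⟩ := Subgroup.mem_zpowers_iff.1 y.2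
    refine Subtype.ext ?_
    rw [Subgroup.coe_pow, Subgroup.coe_one, ← hi, ← zpow_natCast, ← zpow_mul, mul_comm, zpow_mul,
      zpow_natCast, hx, one_zpow]⟩
  have hle : Subgroup.zpowers x ≤ Subgroup.normalizer (U : Set G) := by
    rw [Subgroup.zpowers_le]
    exact Subgroup.centralizer_le_normalizer _ hc
  set R : Subgroup G := Subgroup.zpowers x ⊔ U with hRdef
  have hR : IsPGroup 2 R := hz.to_sup_of_normal_right' (isPGroup_four hU) hle
  obtain ⟨f, hf⟩ := exists_embed e hR
  have hUR : U ≤ R := le_sup_right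
  have hxR : x ∈ R := Subgroup.mem_sup_left (Subgroup.mem_zpowers x)
  have hcard : Nat.card ((U.subgroupOf R).map f) = 4 := by
    rw [Subgroup.card_map_of_injective hf, Nat.card_congr (Subgroup.subgroupOfEquivOfLe hUR).toEquiv,
      hU.1]
  have h := centralizer_le_of_four _ hcard (by
    rintro _ ⟨u, hu, rfl⟩
    rw [← map_mul, show u * u = 1 from Subtype.ext (hU.2 _ hu), map_one])
  have hmem : f ⟨x, hxR⟩ ∈ (U.subgroupOf R).map f := h (by
    rw [Subgroup.mem_centralizer_iff]
    rintro _ ⟨u, hu, rfl⟩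
    rw [← map_mul, ← map_mul]
    exact congrArg f (Subtype.ext (Subgroup.mem_centralizer_iff.1 hc _ hu)))
  obtain ⟨u, hu, hue⟩ := hmem
  rw [hf hue] at hu
  exact hu

/-- In a dihedral 2-subgroup, a four-group contains a central involution and an involution
inverting that makes any non-involution into an involution. -/
theorem four_in_two_group (e : (S : Subgroup G) ≃* DihedralGroup n) {R : Subgroup G}
    (hR : IsPGroup 2 R) {U : Subgroup G} (hU : IsFour U) (hUR : U ≤ R) :
    (∃ z ∈ U, z ≠ 1 ∧ ∀ x ∈ R, x * z = z * x) ∧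
      (∀ x ∈ R, x * x = 1 ∨ ∃ s ∈ U, x * s * (x * s) = 1) := by
  haveI := neZero_of_equiv e
  obtain ⟨f, hf⟩ := exists_embed e hR
  have hcard : Nat.card ((U.subgroupOf R).map f) = 4 := by
    rw [Subgroup.card_map_of_injective hf, Nat.card_congr (Subgroup.subgroupOfEquivOfLe hUR).toEquiv,
      hU.1]
  obtain ⟨c, i, hc, hc0, ⟨z, hz, hze⟩, ⟨s, hs, hse⟩⟩ := four_structure hcard (by
    rintro _ ⟨u, hu, rfl⟩
    rw [← map_mul, show u * u = 1 from Subtype.ext (hU.2 _ hu), map_one])
  refine ⟨⟨z, hz, fun h1 => hc0 ?_, fun x hx => congrArg Subtype.val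
    (hf (a₁ := ⟨x, hx⟩ * z) (a₂ := z * ⟨x, hx⟩) ?_)⟩, fun x hx => ?_⟩
  · have : z = 1 := Subtype.ext h1
    rw [this, map_one, DihedralGroup.one_def, DihedralGroup.r.injEq] at hze
    exact hze.symm
  · rw [map_mul, map_mul, hze]
    exact (commute_r hc _).eq.symm
  · rcases hfx : f ⟨x, hx⟩ with a | a
    · refine Or.inr ⟨s, hs, congrArg Subtype.val (hf (a₁ := ⟨x, hx⟩ * s * (⟨x, hx⟩ * s)) (a₂ := 1) ?_)⟩
      simp [hfx, hse]
    · refine Or.inl (congrArg Subtype.val (hf (a₁ := ⟨x, hx⟩ * ⟨x, hx⟩) (a₂ := 1) ?_))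
      rw [map_mul, map_one, hfx, DihedralGroup.sr_mul_self]

/-- An element centralised by a 2-group containing a four-group makes no bigger commuting set: an
involution `w` commuting with an element `y` of order 4 whose square differs from `w` is impossible. -/
theorem not_commute_four (e : (S : Subgroup G) ≃* DihedralGroup n) {w y : G} (hw : w * w = 1)
    (hw1 : w ≠ 1) (hy4 : y ^ 4 = 1) (hy2 : y * y ≠ 1) (hne : y * y ≠ w) (h : w * y = y * w) :
    False := by
  set v := y * y with hv
  have hvv : v * v = 1 := by rw [← hy4, hv]; simp [pow_succ, mul_assoc]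
  have hwv : w * v = v * w := by rw [hv, ← mul_assoc, h, mul_assoc, h, mul_assoc]
  have e1 : ∀ a, w * (w * a) = a := fun a => by rw [← mul_assoc, hw, one_mul]
  have e2 : ∀ a, v * (v * a) = a := fun a => by rw [← mul_assoc, hvv, one_mul]
  have e3 : ∀ a, v * (w * a) = w * (v * a) := fun a => by rw [← mul_assoc, ← hwv, mul_assoc]
  have n1 : w * v ≠ 1 := fun e' => hne (by rw [← e1 v, e', mul_one])
  have n2 : w * v ≠ w := fun e' => hy2 (mul_left_cancel (e'.trans (mul_one w).symm))
  have n3 : w * v ≠ v := fun e' => hw1 (mul_right_cancel (e'.trans (one_mul v).symm))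
  obtain ⟨U, hU, hmem⟩ : ∃ U : Subgroup G, IsFour U ∧
      ∀ g, g ∈ U ↔ g = 1 ∨ g = w ∨ g = v ∨ g = w * v := by
    refine ⟨{ carrier := {g | g = 1 ∨ g = w ∨ g = v ∨ g = w * v}, one_mem' := Or.inl rfl,
              mul_mem' := ?_, inv_mem' := ?_ }, ?_, fun g => Iff.rfl⟩
    · rintro a b (ha | ha | ha | ha) (hb | hb | hb | hb) <;>
        simp only [Set.mem_setOf_eq, ha, hb, mul_assoc, hw, hvv, e1, e2, e3, one_mul, mul_one,
          ← hwv, true_or, or_true, eq_self_iff_true]
    · rintro a (ha | ha | ha | ha) <;>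
        simp only [Set.mem_setOf_eq, ha, inv_one, mul_inv_rev, inv_eq_of_mul_eq_one_right hw,
          inv_eq_of_mul_eq_one_right hvv, ← hwv, true_or, or_true, eq_self_iff_true]
    · refine ⟨?_, ?_⟩
      · rw [show (4 : ℕ) = Nat.card (Fin 4) by simp]
        refine (Nat.card_congr (Equiv.ofBijective (fun i : Fin 4 =>
          (⟨![1, w, v, w * v] i, by fin_cases i <;> simp⟩ : _)) ⟨?_, ?_⟩)).symm
        · intro i j hij
          have hij' : ![1, w, v, w * v] i = ![1, w, v, w * v] j := congrArg Subtype.val hij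
          fin_cases i <;> fin_cases j <;>
            first
              | rfl
              | exact absurd hij' hw1 | exact absurd hij'.symm hw1
              | exact absurd hij' hy2 | exact absurd hij'.symm hy2
              | exact absurd hij' hne | exact absurd hij'.symm hne
              | exact absurd hij' n1 | exact absurd hij'.symm n1
              | exact absurd hij' n2 | exact absurd hij'.symm n2
              | exact absurd hij' n3 | exact absurd hij'.symm n3
        · rintro ⟨g, hg⟩
          rcases (show g = 1 ∨ g = w ∨ g = v ∨ g = w * v from hg) with rfl | rfl | rfl | rfl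
          exacts [⟨0, rfl⟩, ⟨1, rfl⟩, ⟨2, rfl⟩, ⟨3, rfl⟩]
      · rintro x (hg | hg | hg | hg) <;>
          simp only [hg, mul_assoc, hw, hvv, e1, e2, e3, one_mul, mul_one, ← hwv]
  have hyU : y ∈ U := mem_four_of_centralizes e hU (k := 2) (by simpa using hy4) (by
    rw [Subgroup.mem_centralizer_iff]
    intro g hg
    have hyv : v * y = y * v := by rw [hv, mul_assoc]
    rcases (hmem g).1 hg with rfl | rfl | rfl | rfl
    · rw [one_mul, mul_one]
    · exact h
    · exact hyv
    · rw [mul_assoc, hyv, ← mul_assoc, h, mul_assoc])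
  exact hy2 (hU.2 y hyU)

/-- In a dihedral 2-group a noncentral involution is conjugate to its product with the central one,
and a normal four-group forces order at most 8. -/
theorem sylow_facts (e : (S : Subgroup G) ≃* DihedralGroup n) (hn : 4 ≤ n) (h4 : 4 ∣ n) {z : G}
    (hzS : z ∈ (S : Subgroup G)) (hz : z * z = 1) (hz1 : z ≠ 1)
    (hzc : ∀ s ∈ (S : Subgroup G), s * z = z * s) :
    (∀ w ∈ (S : Subgroup G), w * w = 1 → w ≠ 1 → w ≠ z →
        ∃ s ∈ (S : Subgroup G), s * w * s⁻¹ = w * z) ∧
      (∀ U : Subgroup G, IsFour U → U ≤ (S : Subgroup G) →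
        (S : Subgroup G) ≤ Subgroup.normalizer (U : Set G) → n = 4) := by
  haveI : NeZero n := ⟨by omega⟩
  obtain ⟨q, hq⟩ := h4
  have hc : ((2 * q : ℕ) : ZMod n) + (2 * q : ℕ) = 0 := by
    rw [← Nat.cast_add, ZMod.natCast_eq_zero_iff]
    exact ⟨1, by omega⟩
  have hc0 : ((2 * q : ℕ) : ZMod n) ≠ 0 := by
    rw [Ne, ZMod.natCast_eq_zero_iff]
    intro h
    have := Nat.le_of_dvd (by omega) h
    omega
  have h20 : (2 : ZMod n) ≠ 0 := by
    rw [← Nat.cast_two, Ne, ZMod.natCast_eq_zero_iff]
    intro h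
    have := Nat.le_of_dvd (by omega) h
    omega
  have hzr : e ⟨z, hzS⟩ = DihedralGroup.r ((2 * q : ℕ) : ZMod n) := by
    rcases hez : e ⟨z, hzS⟩ with a | a
    · have h0 : a + a = 0 := by
        have : e ⟨z, hzS⟩ * e ⟨z, hzS⟩ = 1 := by
          rw [← map_mul, show (⟨z, hzS⟩ : (S : Subgroup G)) * ⟨z, hzS⟩ = 1 from Subtype.ext hz, map_one]
        rw [hez, DihedralGroup.r_mul_r, DihedralGroup.one_def, DihedralGroup.r.injEq] at this
        exact this
      have ha0 : a ≠ 0 := by
        rintro rfl
        exact hz1 (congrArg Subtype.val (e.injective (a₁ := ⟨z, hzS⟩) (a₂ := 1)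
          (by rw [hez, map_one, DihedralGroup.one_def])))
      rw [eq_of_two_torsion h0 hc ha0 hc0]
    · exfalso
      have := congrArg e (Subtype.ext (hzc _ (e.symm (DihedralGroup.r 1)).2) :
        e.symm (DihedralGroup.r 1) * ⟨z, hzS⟩ = ⟨z, hzS⟩ * e.symm (DihedralGroup.r 1))
      simp only [map_mul, hez, MulEquiv.apply_symm_apply, DihedralGroup.r_mul_sr,
        DihedralGroup.sr_mul_r, DihedralGroup.sr.injEq] at this
      exact h20 (by linear_combination (-1 : ZMod n) * this)
  refine ⟨fun w hwS hw hw1 hwz => ?_, fun U hU hUS hnorm => ?_⟩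
  · rcases hew : e ⟨w, hwS⟩ with a | a
    · exfalso
      have h0 : a + a = 0 := by
        have : e ⟨w, hwS⟩ * e ⟨w, hwS⟩ = 1 := by
          rw [← map_mul, show (⟨w, hwS⟩ : (S : Subgroup G)) * ⟨w, hwS⟩ = 1 from Subtype.ext hw, map_one]
        rw [hew, DihedralGroup.r_mul_r, DihedralGroup.one_def, DihedralGroup.r.injEq] at this
        exact this
      by_cases ha0 : a = 0
      · exact hw1 (congrArg Subtype.val (e.injective (a₁ := ⟨w, hwS⟩) (a₂ := 1)
          (by rw [hew, ha0, map_one, DihedralGroup.one_def])))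
      · exact hwz (congrArg Subtype.val (e.injective (a₁ := ⟨w, hwS⟩) (a₂ := ⟨z, hzS⟩)
          (by rw [hew, hzr, eq_of_two_torsion h0 hc ha0 hc0])))
    · refine ⟨e.symm (DihedralGroup.r (-(q : ZMod n))), (e.symm _).2,
        congrArg Subtype.val (e.injective (a₁ := e.symm (DihedralGroup.r (-(q : ZMod n))) * ⟨w, hwS⟩ *
          (e.symm (DihedralGroup.r (-(q : ZMod n))))⁻¹) (a₂ := ⟨w, hwS⟩ * ⟨z, hzS⟩) ?_)⟩
      rw [map_mul, map_mul, map_mul, map_inv, MulEquiv.apply_symm_apply, hew, hzr]
      simp only [DihedralGroup.inv_r, DihedralGroup.r_mul_sr, DihedralGroup.sr_mul_r,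
        DihedralGroup.sr.injEq]
      push_cast
      ring
  · have hcard : Nat.card ((U.subgroupOf (S : Subgroup G)).map e.toMonoidHom) = 4 := by
      rw [Subgroup.card_map_of_injective e.injective,
        Nat.card_congr (Subgroup.subgroupOfEquivOfLe hUS).toEquiv, hU.1]
    obtain ⟨c, i, -, -, -, ⟨s, hs, hse⟩⟩ := four_structure hcard (by
      rintro _ ⟨u, hu, rfl⟩
      rw [← map_mul, show u * u = 1 from Subtype.ext (hU.2 _ hu), map_one])
    replace hse : e s = DihedralGroup.sr i := hse
    set r1 := e.symm (DihedralGroup.r 1)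
    have hmem : ((r1 * s * r1⁻¹ * s : (S : Subgroup G)) : G) ∈ U := by
      simp only [Subgroup.coe_mul, Subgroup.coe_inv]
      exact mul_mem ((Subgroup.mem_normalizer_iff.1 (hnorm r1.2) _).1 hs) hs
    have hsq := hU.2 _ hmem
    rw [← Subgroup.coe_mul] at hsq
    have h2 := congrArg e (Subtype.ext hsq :
      r1 * s * r1⁻¹ * s * (r1 * s * r1⁻¹ * s) = 1)
    simp [r1, hse, DihedralGroup.one_def, -DihedralGroup.r_zero] at h2
    have h4' : ((4 : ℕ) : ZMod n) = 0 := by
      push_cast
      linear_combination h2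
    rw [ZMod.natCast_eq_zero_iff] at h4'
    have := Nat.le_of_dvd (by norm_num) h4'
    omega

end Cfsg.Agent.GW
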